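import Groth.Prelude.Def_AlgSp3
import Groth.Agent.AlgSp.K613.Diag
import Groth.Agent.AlgSp.K609.QC
import Groth.Agent.AlgSp.K610.Base

/-!
# Affine étale neighbourhoods in algebraic spaces
-/

set_option autoImplicit false

universe u

open CategoryTheory CategoryTheory.Limits AlgebraicGeometry Opposite AlgSp

set_option backward.isDefEq.respectTransparency false

namespace K605.Nhd

variable {S : Scheme.{u}} {X Y : Sp S}

/-- Affine open neighbourhood of a point of a scheme over `S`. -/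
theorem exists_affine_open (T : Over S) (t : ↥T.left) :
    ∃ (V : Over S) (φ : V ⟶ T) (v : ↥V.left), IsAffine V.left ∧ IsOpenImmersion φ.left ∧ φ.left v = t := by
  obtain ⟨_, ⟨W', hW', rfl⟩, hx, -⟩ := T.left.isBasis_affineOpens.exists_subset_of_mem_open
    (Set.mem_univ t) isOpen_univ
  let W : T.left.Opens := W'
  have hW : IsAffineOpen W := hW'
  have : IsAffine W.toScheme := hW
  refine ⟨Over.mk (W.ι ≫ T.hom), Over.homMk W.ι rfl, ⟨t, hx⟩, this, ?_, rfl⟩
  change IsOpenImmersion W.ι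
  infer_instance

theorem repWith_etale_comp {F : Sp S} {U V : Over S} {p : (yon S).obj U ⟶ F} (hp : RepWith @Etale p) (φ : V ⟶ U)
    (hφ : Etale φ.left) : RepWith @Etale ((yon S).map φ ≫ p) :=
  MorphismProperty.comp_mem _ _ _ ((repWith_yon_map_iff _ _).2 hφ) hp

/-- Every point of an algebraic space has an affine étale neighbourhood. -/
theorem exists_affine_nhd (hX : IsAlgSpace X) (x : Points X) :
    ∃ (U : Over S) (a : (yon S).obj U ⟶ X) (u : ↥U.left), IsAffine U.left ∧ RepWith @Etale a ∧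
      Points.ofPt a u = x := by
  obtain ⟨U, p, h1, h2⟩ := hX.atlas
  obtain ⟨u, rfl⟩ := K610.Base.surjective_ofPt h2 x
  obtain ⟨V, φ, v, hV, hφ, rfl⟩ := exists_affine_open U u
  exact ⟨V, (yon S).map φ ≫ p, v, hV, repWith_etale_comp h1 φ inferInstance, K610.Base.ofPt_map_comp φ p v⟩

/-- Affine étale neighbourhoods over a given étale chart of the target. -/
theorem exists_affine_nhd_over (hX : IsAlgSpace X) (hY : IsAlgSpace Y) (g : X ⟶ Y) {V : Over S}
    {q : (yon S).obj V ⟶ Y} (hq : RepWith @Etale q) (x : Points X) (v : ↥V.left)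
    (h : Points.map g x = Points.ofPt q v) :
    ∃ (W : Over S) (a : (yon S).obj W ⟶ X) (α : W ⟶ V) (w : ↥W.left), IsAffine W.left ∧ RepWith @Etale a ∧
      Points.ofPt a w = x ∧ α.left w = v ∧ a ≫ g = (yon S).map α ≫ q := by
  obtain ⟨U, p, h1, h2⟩ := hX.atlas
  obtain ⟨u, rfl⟩ := K610.Base.surjective_ofPt h2 x
  obtain ⟨W, c, α, sq⟩ := K613.Chart.exists_refine hY.diag g p q
  obtain ⟨w, hw1, hw2⟩ := K610.Base.exists_of_isPullback_charts sq u v h
  obtain ⟨W', φ, w', hW', hφ, rfl⟩ := exists_affine_open W w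
  have hc : Etale c.left := K613.Chart.etale_of_isPullback sq hq
  refine ⟨W', (yon S).map (φ ≫ c) ≫ p, φ ≫ α, w', hW', repWith_etale_comp h1 _ ?_, ?_, ?_, ?_⟩
  · rw [Over.comp_left]
    infer_instance
  · rw [K610.Base.ofPt_map_comp, ← hw1]
    rfl
  · rw [← hw2]
    rfl
  · rw [Functor.map_comp, Functor.map_comp, Category.assoc, Category.assoc, Category.assoc, sq.w]

end K605.Nhd
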