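import Groth.Agent.AlgSp.K605.ImmSpace
import Groth.Agent.AlgSp.K605.Nhd
import Groth.Agent.AlgSp.K596.QC2
import Groth.Agent.AlgSp.K610.Noeth
import Groth.Agent.AlgSp.K610.OpenImm
import Groth.Agent.AlgSp.K621.Charts
import Groth.Agent.S9951
import Groth.Agent.S0409

/-!
# A finitely presented space over a Noetherian space is generically a subspace of affine space
-/

set_option autoImplicit false

universe u

open CategoryTheory CategoryTheory.Limits AlgebraicGeometry Opposite AlgSp Topology TopologicalSpace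

set_option backward.isDefEq.respectTransparency false

namespace K605.ImmMain

variable {S : Scheme.{u}}

/-- A Noetherian scheme has a dense affine open. -/
theorem exists_dense_affine (X : Scheme.{u}) [IsNoetherian X] :
    ∃ U : X.Opens, IsAffineOpen U ∧ Dense (U : Set X) := by
  have hwf : WellFounded ((· > ·) : X.Opens → X.Opens → Prop) :=
    (inferInstance : TopologicalSpace.NoetherianSpace X).1
  obtain ⟨U, hU, hmax⟩ := hwf.has_min {U : X.Opens | IsAffineOpen U} ⟨⊥, isAffineOpen_bot X⟩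
  refine ⟨U, hU, ?_⟩
  rw [dense_iff_inter_open]
  by_contra hd
  push Not at hd
  obtain ⟨V, hV, ⟨y, hy⟩, hVU⟩ := hd
  obtain ⟨W, hW, hyW, hWV⟩ := exists_isAffineOpen_mem_and_subset (X := X) (U := ⟨V, hV⟩) (x := y) hy
  have hdisj : Disjoint U W := by
    rw [← TopologicalSpace.Opens.coe_disjoint, Set.disjoint_iff_inter_eq_empty]
    rw [Set.eq_empty_iff_forall_notMem] at hVU ⊢
    exact fun z hz => hVU z ⟨hWV hz.2, hz.1⟩
  have hUW := IsAffineOpen.sup_of_disjoint hU hW hdisj
  refine hmax (U ⊔ W) hUW (lt_of_le_of_ne le_sup_left ?_)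
  intro h
  have hyU : y ∈ U := by
    have : y ∈ U ⊔ W := Or.inr hyW
    rwa [← h] at this
  exact Set.disjoint_left.mp (TopologicalSpace.Opens.coe_disjoint.mpr hdisj) hyU hyW

theorem isQuasiSeparatedSp_of_mor {X Y : Sp S} {f : Y ⟶ X} (hf : IsQuasiSeparatedMor f) (hX : IsQuasiSeparatedSp X) :
    IsQuasiSeparatedSp Y := by
  unfold IsQuasiSeparatedSp IsQuasiSeparatedMor at *
  rw [K613.Diag.repWith_diagonal_iff] at hf
  rw [K613.Chart.repWith_diag_iff] at *
  intro T a b
  obtain ⟨E, e, he, hP⟩ := hX T (a ≫ f) (b ≫ f)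
  obtain ⟨E', e', he', hP'⟩ := hf E ((yon S).map e ≫ a) ((yon S).map e ≫ b) (by simpa using he.w)
  refine ⟨E', e' ≫ e, ⟨?_, fun R r hr => ?_⟩, MorphismProperty.comp_mem _ _ _ hP' hP⟩
  · simpa using he'.w
  · obtain ⟨r₁, hr₁, hr₁'⟩ := he.lift R r (by rw [← Category.assoc, ← Category.assoc, hr])
    obtain ⟨r₂, hr₂, hr₂'⟩ := he'.lift R r₁ (by
      rw [← Category.assoc, ← Functor.map_comp, hr₁, ← Category.assoc, ← Functor.map_comp, hr₁, hr])
    refine ⟨r₂, ?_, fun z hz => ?_⟩
    · dsimp only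
      rw [← Category.assoc, hr₂, hr₁]
    · dsimp only at hz
      rw [← Category.assoc] at hz
      exact hr₂' z (hr₁' _ hz)

theorem ofPt_eq_comp {U : Over S} {F : Sp S} (g : (yon S).obj U ⟶ F) :
    Points.ofPt g = Points.map g ∘ Points.ofScheme U := by
  ext x
  exact Points.ofPt_eq_map_ofScheme g x

theorem isNoetherian_of_open {Y : Sp S} (hY : IsAlgSpace Y) (hqc : IsQuasiCompactSp Y) (hln : IsLocNoethSp Y)
    {U : Over S} {j : (yon S).obj U ⟶ Y} (hj : RepWith @IsOpenImmersion j) : IsNoetherian U.left := by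
  have h1 : IsLocallyNoetherian U.left :=
    K621.Charts.isLocallyNoetherian_chart hln (K610.OpenImm.repWith_etale_of_open hj)
  have : CompactSpace (Points Y) := K609.QC.compactSpace_points hqc
  have h2 : NoetherianSpace (Points Y) := K610.Noeth.noetherianSpace_of_local (K610.Noeth.exists_nhd hln)
  have h3 : IsOpenEmbedding (Points.ofPt j) := by
    refine IsOpenEmbedding.of_continuous_injective_isOpenMap (Points.continuous_ofPt j) ?_
      (K610.Base.isOpenMap_ofPt_etale (K610.OpenImm.repWith_etale_of_open hj))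
    rw [ofPt_eq_comp]
    exact (K610.OpenImm.isOpenEmbedding_points hY hj).injective.comp (Points.schemeEquiv U).injective
  have h4 : NoetherianSpace U.left := h3.isInducing.noetherianSpace
  exact {}

/-- Restricting a quasi-finite étale morphism to a dense affine open of a Noetherian target makes it finite. -/
theorem exists_dense_affine_finite {U E : Over S} [IsNoetherian U.left] (a : E ⟶ U) [Etale a.left]
    [QuasiCompact a.left] :
    ∃ (V : Over S) (ψ : V ⟶ U) (E' : Over S) (e : E' ⟶ E) (e₁ : E' ⟶ V), IsAffine V.left ∧ IsOpenImmersion ψ.left ∧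
      DenseRange ψ.left ∧ IsPullback e e₁ a ψ ∧ IsFinite e₁.left := by
  have : LocallyQuasiFinite a.left := K597.locallyQuasiFinite_of_etale a.left
  obtain ⟨U', hU', hfin⟩ := Groth.Agent.S0409.result a.left
  have : IsNoetherian U'.toScheme := {
    toIsLocallyNoetherian := inferInstance
    toCompactSpace := isCompact_iff_compactSpace.1 (NoetherianSpace.isCompact _) }
  obtain ⟨V', hV', hV'd⟩ := exists_dense_affine U'.toScheme
  have hV'a : IsAffine V'.toScheme := hV'
  let U'' : Over S := Over.mk (U'.ι ≫ U.hom)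
  let V : Over S := Over.mk (V'.ι ≫ U'.ι ≫ U.hom)
  let ψ₁ : V ⟶ U'' := Over.homMk V'.ι rfl
  let ψ₂ : U'' ⟶ U := Over.homMk U'.ι rfl
  let E'' : Over S := Over.mk ((a.left ⁻¹ᵁ U').ι ≫ E.hom)
  let a'' : E'' ⟶ U'' := Over.homMk (a.left ∣_ U') (by
    change (a.left ∣_ U') ≫ U'.ι ≫ U.hom = (a.left ⁻¹ᵁ U').ι ≫ E.hom
    rw [← Over.w a, ← Category.assoc, morphismRestrict_ι, Category.assoc])
  let e'' : E'' ⟶ E := Over.homMk (a.left ⁻¹ᵁ U').ι rfl
  have sq'' : IsPullback e'' a'' a ψ₂ := by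
    refine K596.Univ.isPullback_over (Over.OverMorphism.ext ?_) ?_
    · exact (morphismRestrict_ι a.left U').symm
    · exact (isPullback_morphismRestrict a.left U').flip
  have hψ : IsPullback (pullback.fst a'' ψ₁) (pullback.snd a'' ψ₁) a'' ψ₁ := IsPullback.of_hasPullback _ _
  refine ⟨V, ψ₁ ≫ ψ₂, pullback a'' ψ₁, pullback.fst _ _ ≫ e'', pullback.snd _ _, hV'a, ?_, ?_, ?_, ?_⟩
  · change IsOpenImmersion (V'.ι ≫ U'.ι)
    infer_instance
  · change DenseRange (V'.ι ≫ U'.ι)
    rw [Scheme.Hom.comp_base, TopCat.coe_comp]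
    refine DenseRange.comp (f := V'.ι) (g := U'.ι) ?_ ?_ (U'.ι).continuous
    · change Dense (Set.range U'.ι)
      rwa [Scheme.Opens.range_ι]
    · change Dense (Set.range V'.ι)
      rwa [Scheme.Opens.range_ι]
  · exact hψ.flip.paste_vert sq''.flip |>.flip
  · have h1 := hψ.map (Over.forget S)
    exact MorphismProperty.of_isPullback (P := @IsFinite) h1 hfin

theorem main [QuasiSeparatedSpace S] {Y X : AlgSp.Space S} (f : Y ⟶ X) (hf : AlgSp.IsFinitePresentationMor f.hom)
    (hXqc : AlgSp.IsQuasiCompactSp X.obj) (hXqs : AlgSp.IsQuasiSeparatedSp X.obj) (hXln : AlgSp.IsLocNoethSp X.obj)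
    (hop : ∀ Y : AlgSp.Space S, IsQuasiSeparatedSp Y.obj → ∃ (X' : AlgSp.Space S) (j : X' ⟶ Y),
      AlgSp.RepWith @IsOpenImmersion j.hom ∧ X'.obj.obj.IsRepresentable ∧
      Dense (Set.range (AlgSp.Points.map j.hom))) :
    ∃ (V : AlgSp.Space S) (j : V ⟶ Y) (n : ℕ)
      (i : V.obj ⟶ X.obj ⨯ (AlgSp.yon S).obj (Over.mk (𝔸(ULift.{u} (Fin n); S) ↘ S))),
      AlgSp.RepWith @IsOpenImmersion j.hom ∧ Dense (Set.range (AlgSp.Points.map j.hom)) ∧
      i ≫ prod.fst = j.hom ≫ f.hom ∧ AlgSp.RepWith @IsImmersion i := by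
  have hYqc : IsQuasiCompactSp Y.obj := hf.2.1 X.property hXqc (𝟙 _) (𝟙 _) f.hom (IsPullback.of_id_fst)
  have hYqs : IsQuasiSeparatedSp Y.obj := isQuasiSeparatedSp_of_mor hf.2.2 hXqs
  have hYln : IsLocNoethSp Y.obj := Groth.Agent.S9951.result f (K597.locP_mono (fun _ _ g hg => by
    have : LocallyOfFinitePresentation g := hg
    infer_instance) hf.1) hXln
  obtain ⟨Y₀, j₀, hj₀, ⟨⟨U₀, ⟨hU₀⟩⟩⟩, hd₀⟩ := hop Y hYqs
  let θ : (yon S).obj U₀ ≅ Y₀.obj := AlgSp.isoOfRepresentableBy hU₀
  let j' : (yon S).obj U₀ ⟶ Y.obj := θ.hom ≫ j₀.hom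
  have hj' : RepWith @IsOpenImmersion j' :=
    (MorphismProperty.cancel_left_of_respectsIso (RepWith @IsOpenImmersion) _ _).2 hj₀
  have hd' : DenseRange (Points.map j') := by
    have e : Points.map j' = Points.map j₀.hom ∘ Points.map θ.hom := by
      ext x
      exact Points.map_comp _ _ x
    rw [e]
    refine DenseRange.comp hd₀ ?_ (Points.continuous_map _)
    refine (Function.Surjective.denseRange fun x => ⟨Points.map θ.inv x, ?_⟩)
    rw [← Points.map_comp, θ.inv_hom_id, Points.map_id]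
  have hU₀n : IsNoetherian U₀.left := isNoetherian_of_open Y.property hYqc hYln hj'
  obtain ⟨W, q, hW, hq, hq'⟩ := K609.QC.exists_affine_chart hXqc
  obtain ⟨E₀, a₁, a₂, sq⟩ := K613.Chart.exists_refine X.property.diag f.hom j' q
  have ha₁ : Etale a₁.left := K613.Chart.etale_of_isPullback sq hq
  have hqc : RepWith @QuasiCompact q :=
    (K596.QC.repWith_quasiCompact_iff hq.1).2 (K596.QC2.isQuasiCompactMor_of_qc_of_qs (IsAlgSpace.yon_obj W)
      X.property q (K596.QC.isQuasiCompactSp_yon W) hXqs)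
  have ha₁' : QuasiCompact a₁.left := K613.Chart.prop_of_isPullback sq hqc
  have ha₂ : LocallyOfFinitePresentation a₂.left :=
    hf.1 ((yon S).map a₁ ≫ j') q a₂ (K605.Nhd.repWith_etale_comp (K610.OpenImm.repWith_etale_of_open hj') a₁ ha₁) hq
      (by rw [Category.assoc]; exact sq.w)
  obtain ⟨V, ψ, E, e, e₁, hV, hψ, hψd, sqE, he₁⟩ := exists_dense_affine_finite a₁
  have he : IsOpenImmersion e.left :=
    MorphismProperty.of_isPullback (P := @IsOpenImmersion) (sqE.map (Over.forget S)).flip hψ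
  have sq' : IsPullback ((yon S).map e₁) ((yon S).map (e ≫ a₂)) ((yon S).map ψ ≫ j' ≫ f.hom) q := by
    rw [Functor.map_comp]
    exact ((sqE.map (yon S)).paste_horiz sq.flip).flip
  have h₂ : LocallyOfFiniteType (e ≫ a₂).left := by
    change LocallyOfFiniteType (e.left ≫ a₂.left)
    infer_instance
  obtain ⟨n, i, hi, hi'⟩ := ImmSpace.exists_closedImmersion X.property _ q hq hq' e₁ (e ≫ a₂) sq' he₁ h₂
  refine ⟨⟨(yon S).obj V, IsAlgSpace.yon_obj V⟩, ObjectProperty.homMk ((yon S).map ψ ≫ j'), n, i, ?_, ?_, ?_,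
    K610.OpenImm.repWith_isImmersion_of_closed hi'⟩
  · exact MorphismProperty.comp_mem _ _ _ ((repWith_yon_map_iff _ _).2 hψ) hj'
  · change Dense (Set.range (Points.map ((yon S).map ψ ≫ j')))
    have e : Points.map ((yon S).map ψ ≫ j') = Points.map j' ∘ Points.map ((yon S).map ψ) := by
      ext x
      exact Points.map_comp _ _ x
    rw [e]
    refine DenseRange.comp hd' ?_ (Points.continuous_map _)
    rw [Points.map_yon_map_eq]
    refine DenseRange.comp ((Points.schemeHomeo U₀).surjective.denseRange) ?_ (Points.schemeHomeo U₀).continuous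
    exact DenseRange.comp hψd (Points.schemeHomeo V).symm.surjective.denseRange ψ.left.continuous
  · rw [hi]
    change _ = ((yon S).map ψ ≫ j') ≫ f.hom
    simp only [Category.assoc]

end K605.ImmMain
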