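import Groth.Agent.AlgSp.K605.SqEl
import Groth.Agent.AlgSp.K601.LimPres
import Groth.Agent.AlgSp.K598.Site
import Groth.Agent.AlgSp.K600.LimAff
import Groth.Agent.AlgSp.K613.Cover
import Groth.Agent.AlgSp.K596.QC2

/-!
# Limit preserving morphisms and cofiltered systems of quasi-compact quasi-separated algebraic spaces

`ElHom f D c` for affine systems in `Over S` implies the same for systems of algebraic spaces with affine transition
maps.
-/

set_option autoImplicit false
set_option backward.isDefEq.respectTransparency false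
universe u
open CategoryTheory CategoryTheory.Limits AlgebraicGeometry Opposite
open AlgSp K605.SqEl K600.LimSys K600.LimAff

namespace K605.LfpLim

variable {S : Scheme.{u}}

/-- The elementwise limit preserving property for affine systems of schemes. -/
def AffEl {X Y : Sp S} (f : X ⟶ Y) : Prop :=
  ∀ ⦃I : Type u⦄ [SmallCategory I] [IsCofiltered I] (D : I ⥤ Over S) (c : Cone D),
    IsLimit ((Over.forget S).mapCone c) → (∀ i, IsAffine (D.obj i).left) → IsAffine c.pt.left →
      ElHom f (D ⋙ yon S) ((yon S).mapCone c)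

theorem elHom_iff {X Y : Sp S} (f : X ⟶ Y) {I : Type u} [SmallCategory I] (D : I ⥤ Over S) (c : Cone D) :
    ElHom f (D ⋙ yon S) ((yon S).mapCone c) ↔
      K601.LimPres.RelSurj f.hom c ∧ K601.LimPres.RelInj f.hom c := by
  have e1 : ∀ {T : Over S} (x : (yon S).obj T ⟶ X), f.hom.app (op T) (K598.Site.yE x) = K598.Site.yE (x ≫ f) :=
    fun x => (K598.Site.yE_comp x f).symm
  have e2 : ∀ {T : Over S} {F : Sp S} (i : I) (x : (yon S).obj (D.obj i) ⟶ F),
      F.obj.map (c.π.app i).op (K598.Site.yE x) = K598.Site.yE ((yon S).map (c.π.app i) ≫ x) :=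
    fun i x => (K598.Site.yE_map_comp _ _).symm
  constructor
  · rintro ⟨h1, h2⟩
    constructor
    · intro x i y hxy
      obtain ⟨x, rfl⟩ := K598.Site.yE.surjective x
      obtain ⟨y, rfl⟩ := K598.Site.yE.surjective y
      rw [← K598.Site.yE_comp, ← K598.Site.yE_map_comp] at hxy
      obtain ⟨j, φ, xj, h3, h4⟩ := h2 i y x (K598.Site.yE.injective hxy)
      refine ⟨j, φ, K598.Site.yE xj, ?_, ?_⟩
      · rw [← K598.Site.yE_map_comp]
        exact congrArg _ h3
      · rw [← K598.Site.yE_comp, ← K598.Site.yE_map_comp]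
        exact congrArg _ h4
    · intro i x x' hx hx'
      obtain ⟨x, rfl⟩ := K598.Site.yE.surjective x
      obtain ⟨x', rfl⟩ := K598.Site.yE.surjective x'
      rw [← K598.Site.yE_comp, ← K598.Site.yE_comp] at hx
      rw [← K598.Site.yE_map_comp, ← K598.Site.yE_map_comp] at hx'
      obtain ⟨j, φ, h⟩ := h1 i x x' (K598.Site.yE.injective hx) (K598.Site.yE.injective hx')
      refine ⟨j, φ, ?_⟩
      rw [← K598.Site.yE_map_comp, ← K598.Site.yE_map_comp]
      exact congrArg _ h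
  · rintro ⟨h1, h2⟩
    constructor
    · intro i x x' hx hx'
      obtain ⟨j, φ, h⟩ := h2 i (K598.Site.yE x) (K598.Site.yE x') (by
        rw [← K598.Site.yE_comp, ← K598.Site.yE_comp, hx]) (by
        rw [← K598.Site.yE_map_comp, ← K598.Site.yE_map_comp]
        exact congrArg _ hx')
      rw [← K598.Site.yE_map_comp, ← K598.Site.yE_map_comp] at h
      exact ⟨j, φ, K598.Site.yE.injective h⟩
    · intro i y t ht
      obtain ⟨j, φ, x, h3, h4⟩ := h1 (K598.Site.yE t) i (K598.Site.yE y) (by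
        rw [← K598.Site.yE_comp, ← K598.Site.yE_map_comp]
        exact congrArg _ ht)
      obtain ⟨x, rfl⟩ := K598.Site.yE.surjective x
      rw [← K598.Site.yE_map_comp] at h3
      rw [← K598.Site.yE_comp, ← K598.Site.yE_map_comp] at h4
      exact ⟨j, φ, x, K598.Site.yE.injective h3, K598.Site.yE.injective h4⟩

theorem affEl_iff {X Y : Sp S} (f : X ⟶ Y) : AffEl f ↔ IsRelLimitPreserving f.hom := by
  rw [K601.LimPres.isRelLimitPreserving_iff]
  constructor
  · intro h I _ _ D c hc hD hT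
    exact (elHom_iff f D c).1 (h D c hc hD hT)
  · intro h I _ _ D c hc hD hT
    exact (elHom_iff f D c).2 (h D c hc hD hT)

variable {X Y : Sp S} {f : X ⟶ Y} {I : Type u} [SmallCategory I] [IsCofiltered I] {D : I ⥤ Sp S}

/-- The elementwise property for the affine system `D_j ×_{D_i} h_U`. -/
theorem elHom_sys (hf : AffEl f) {c : Cone D} (hc : IsLimit c) {i : I} {U : Over S} {p : (yon S).obj U ⟶ D.obj i} (s : Sys D i p) {V : Over S}
    {a : (yon S).obj V ⟶ c.pt} {b : V ⟶ U} (hs : ∀ j, IsAffine (s.obj j).left) (hV : IsAffine V.left)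
    (sq : IsPullback a ((yon S).map b) (c.π.app i) p) :
    ElHom f (s.W ⋙ yon S) ((yon S).mapCone (s.cone sq)) :=
  hf s.W (s.cone sq) (s.isLimitConeLeft sq hc) hs hV

omit [IsCofiltered I] in
theorem epi_fst {i : I} {U : Over S} {p : (yon S).obj U ⟶ D.obj i} (s : Sys D i p) (hp : RepWith @Etale p)
    (hp' : RepWith @Surjective p) (j : Over i) : K613.Cover.FSurj (s.fst j) :=
  (K613.Cover.ESurj.of_repWith (repWith_fst s hp j) (repWith_fst s hp' j)).fSurj

/-- injectivity -/
theorem inj_of_affEl (hf : AffEl f) (hDa : ∀ (i j : I) (φ : i ⟶ j), IsAffineMor (D.map φ))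
    {c : Cone D} (hc : IsLimit c) (i : I) (hqc : IsQuasiCompactSp (D.obj i)) (x x' : D.obj i ⟶ X)
    (h : x ≫ f = x' ≫ f) (h' : c.π.app i ≫ x = c.π.app i ≫ x') :
    ∃ (j : I) (φ : j ⟶ i), D.map φ ≫ x = D.map φ ≫ x' := by
  obtain ⟨U, p, hU, hp, hp'⟩ := exists_affine_chart hqc
  obtain ⟨s, V, a, b, hs, hV, sq⟩ := exists_sys_of_affine hDa hc hU p
  let j₀ : Over i := Over.mk (𝟙 i)
  obtain ⟨j, φ, e⟩ := (elHom_sys hf hc s hs hV sq).1 j₀ (s.fst j₀ ≫ x) (s.fst j₀ ≫ x')
    (by rw [Category.assoc, Category.assoc, h]) (by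
      change (yon S).map (s.proj sq j₀) ≫ s.fst j₀ ≫ x = (yon S).map (s.proj sq j₀) ≫ s.fst j₀ ≫ x'
      rw [← Category.assoc, ← Category.assoc, s.proj_fst, Category.assoc, Category.assoc]
      exact congrArg (fun t => a ≫ t) h')
  refine ⟨j.left, φ.left, ?_⟩
  have := (epi_fst s hp hp' j).epi
  rw [← cancel_epi (s.fst j), ← Category.assoc, ← Category.assoc, ← s.W_map_fst φ, Category.assoc, Category.assoc]
  exact e

/-- An affine chart of the self-product of an affine chart `U` of a quasi-separated space. -/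
theorem exists_chart_of_square [QuasiSeparatedSpace ↥S] {F : Sp S} (hF : IsAlgSpace F) (hqs : IsQuasiSeparatedSp F)
    {U : Over S} [IsAffine U.left] (p : (yon S).obj U ⟶ F) (hp : Representable p) :
    ∃ (R : Over S) (u v : R ⟶ U), IsAffine R.left ∧ (yon S).map u ≫ p = (yon S).map v ≫ p ∧
      ∀ (T : Over S) (g h : T ⟶ U), (yon S).map g ≫ p = (yon S).map h ≫ p →
        ∃ (T' : Over S) (t : T' ⟶ T) (r : T' ⟶ R), K613.Cover.FpC t ∧ r ≫ u = t ≫ g ∧ r ≫ v = t ≫ h := by
  obtain ⟨R, r₂, r₁', sqR⟩ := hp p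
  obtain ⟨r₁, rfl⟩ := (yon S).map_surjective r₁'
  have h1 : IsQuasiCompactMor p := K596.QC2.isQuasiCompactMor_of_qc_of_qs (IsAlgSpace.yon_obj _) hF _
    (K596.QC.isQuasiCompactSp_yon _) hqs
  have h2 : IsQuasiCompactSp ((yon S).obj R) := h1 (IsAlgSpace.yon_obj _) (K596.QC.isQuasiCompactSp_yon _) _ _ _ sqR
  obtain ⟨R', ρ', hR', hρ1, hρ2⟩ := exists_affine_chart h2
  obtain ⟨ρ, rfl⟩ := (yon S).map_surjective ρ'
  have hcov : K613.Cover.FSurj ((yon S).map ρ) := (K613.Cover.ESurj.of_repWith hρ1 hρ2).fSurj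
  refine ⟨R', ρ ≫ r₁, ρ ≫ r₂, hR', ?_, ?_⟩
  · rw [Functor.map_comp, Functor.map_comp, Category.assoc, Category.assoc, sqR.w]
  · intro T g h hgh
    obtain ⟨l, hl⟩ := (yon S).map_surjective (sqR.lift _ _ hgh)
    obtain ⟨T', t, z, ht, hz⟩ := hcov T ((yon S).map l)
    obtain ⟨z, rfl⟩ := (yon S).map_surjective z
    rw [← Functor.map_comp, ← Functor.map_comp] at hz
    have hz' := (yon S).map_injective hz
    refine ⟨T', t, z, ht, ?_, ?_⟩
    · rw [← Category.assoc, hz', Category.assoc]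
      congr 1
      apply (yon S).map_injective
      rw [Functor.map_comp, hl, sqR.lift_fst]
    · rw [← Category.assoc, hz', Category.assoc]
      congr 1
      apply (yon S).map_injective
      rw [Functor.map_comp, hl, sqR.lift_snd]

section map

variable {i : I} {U R : Over S} {p : (yon S).obj U ⟶ D.obj i} (s : Sys D i p) {q : (yon S).obj R ⟶ D.obj i}
  (s' : Sys D i q) (u : R ⟶ U) (hu : (yon S).map u ≫ p = q)

include hu in
omit [IsCofiltered I] in
/-- maps between pulled back systems -/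
theorem exists_map (j : Over i) : ∃ m : s'.obj j ⟶ s.obj j, (yon S).map m ≫ s.fst j = s'.fst j ∧
    m ≫ s.snd j = s'.snd j ≫ u :=
  K600.Basic.exists_lift (s.sq j) (s'.fst j) (s'.snd j ≫ u) (by
    rw [s'.w, Functor.map_comp, Category.assoc, hu])

omit [IsCofiltered I] in
theorem map_comm {j k : Over i} (φ : j ⟶ k) {m : s'.obj j ⟶ s.obj j} (hm1 : (yon S).map m ≫ s.fst j = s'.fst j)
    (hm2 : m ≫ s.snd j = s'.snd j ≫ u) {m' : s'.obj k ⟶ s.obj k} (hm1' : (yon S).map m' ≫ s.fst k = s'.fst k)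
    (hm2' : m' ≫ s.snd k = s'.snd k ≫ u) : s'.W.map φ ≫ m' = m ≫ s.W.map φ := by
  refine K600.Basic.hom_ext (s.sq k) ?_ ?_
  · rw [Functor.map_comp, Functor.map_comp, Category.assoc, Category.assoc, hm1', s.W_map_fst, s'.W_map_fst,
      ← Category.assoc, hm1]
  · rw [Category.assoc, Category.assoc, hm2', s.W_map_snd, hm2, ← Category.assoc, s'.W_map_snd]

end map

/-- surjectivity -/
theorem surj_of_affEl [QuasiSeparatedSpace ↥S] (hf : AffEl f) (hD : ∀ i, IsAlgSpace (D.obj i))
    (hDa : ∀ (i j : I) (φ : i ⟶ j), IsAffineMor (D.map φ))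
    {c : Cone D} (hc : IsLimit c) (i : I) (hqc : IsQuasiCompactSp (D.obj i)) (hqs : IsQuasiSeparatedSp (D.obj i))
    (y : D.obj i ⟶ Y) (x : c.pt ⟶ X) (h : x ≫ f = c.π.app i ≫ y) :
    ∃ (j : I) (φ : j ⟶ i) (x' : D.obj j ⟶ X), c.π.app j ≫ x' = x ∧ x' ≫ f = D.map φ ≫ y := by
  obtain ⟨U, p, hU, hp, hp'⟩ := exists_affine_chart hqc
  obtain ⟨s, V, a, b, hs, hV, sq⟩ := exists_sys_of_affine hDa hc hU p
  obtain ⟨R, u, v, hR, huv, hcov⟩ := exists_chart_of_square (hD i) hqs p hp.1
  obtain ⟨s', V', a', b', hs', hV', sq'⟩ := exists_sys_of_affine hDa hc hR ((yon S).map u ≫ p)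
  let j₀ : Over i := Over.mk (𝟙 i)
  obtain ⟨j, ψ, xj, h1, h2⟩ := (elHom_sys hf hc s hs hV sq).2 j₀ (s.fst j₀ ≫ y) (a ≫ x) (by
    change (a ≫ x) ≫ f = (yon S).map (s.proj sq j₀) ≫ s.fst j₀ ≫ y
    rw [Category.assoc, h, ← Category.assoc, ← Category.assoc, s.proj_fst]
    rfl)
  have h1' : (yon S).map (s.proj sq j) ≫ xj = a ≫ x := h1
  have h2' : xj ≫ f = s.fst j ≫ D.map ψ.left ≫ y := by
    rw [← Category.assoc, ← s.W_map_fst ψ, Category.assoc]
    exact h2
  obtain ⟨m₁, hm₁, hm₁'⟩ := exists_map s s' u rfl j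
  obtain ⟨m₂, hm₂, hm₂'⟩ := exists_map s s' v huv.symm j
  have hlim : ∀ (w : R ⟶ U) (_ : (yon S).map w ≫ p = (yon S).map u ≫ p) (m : s'.obj j ⟶ s.obj j)
      (_ : (yon S).map m ≫ s.fst j = s'.fst j) (_ : m ≫ s.snd j = s'.snd j ≫ w),
      (yon S).map (s'.proj sq' j) ≫ (yon S).map m ≫ xj = a' ≫ x := by
    intro w hw m hm hm'
    obtain ⟨M, hM, hM'⟩ := K600.Basic.exists_lift sq a' (b' ≫ w) (by
      rw [sq'.w, Functor.map_comp, Category.assoc, hw])
    have e : s'.proj sq' j ≫ m = M ≫ s.proj sq j := by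
      refine K600.Basic.hom_ext (s.sq j) ?_ ?_
      · rw [Functor.map_comp, Functor.map_comp, Category.assoc, Category.assoc, hm, s.proj_fst, s'.proj_fst,
          ← Category.assoc, hM]
      · rw [Category.assoc, Category.assoc, hm', s.proj_snd, hM', ← Category.assoc, s'.proj_snd]
    rw [← Category.assoc, ← Functor.map_comp, e, Functor.map_comp, Category.assoc, h1', ← Category.assoc, hM]
  have hpost : ∀ (m : s'.obj j ⟶ s.obj j), (yon S).map m ≫ s.fst j = s'.fst j →
      ((yon S).map m ≫ xj) ≫ f = s'.fst j ≫ D.map ψ.left ≫ y := by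
    intro m hm
    rw [Category.assoc, h2', ← Category.assoc, hm]
  obtain ⟨k, χ, e⟩ := (elHom_sys hf hc s' hs' hV' sq').1 j ((yon S).map m₁ ≫ xj) ((yon S).map m₂ ≫ xj)
    ((hpost m₁ hm₁).trans (hpost m₂ hm₂).symm) (by
    change (yon S).map (s'.proj sq' j) ≫ (yon S).map m₁ ≫ xj = (yon S).map (s'.proj sq' j) ≫ (yon S).map m₂ ≫ xj
    rw [hlim u rfl m₁ hm₁ hm₁', hlim v huv.symm m₂ hm₂ hm₂'])
  have e' : (yon S).map (s'.W.map χ) ≫ (yon S).map m₁ ≫ xj = (yon S).map (s'.W.map χ) ≫ (yon S).map m₂ ≫ xj := e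
  obtain ⟨n₁, hn₁, hn₁'⟩ := exists_map s s' u rfl k
  obtain ⟨n₂, hn₂, hn₂'⟩ := exists_map s s' v huv.symm k
  have e₁ : (yon S).map n₁ ≫ (yon S).map (s.W.map χ) ≫ xj = (yon S).map n₂ ≫ (yon S).map (s.W.map χ) ≫ xj := by
    rw [← Category.assoc, ← Functor.map_comp, ← map_comm s s' u χ hn₁ hn₁' hm₁ hm₁', ← Category.assoc,
      ← Functor.map_comp, ← map_comm s s' v χ hn₂ hn₂' hm₂ hm₂', Functor.map_comp, Functor.map_comp,
      Category.assoc, Category.assoc]
    exact e'
  -- descent to `D_k`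
  have hS := epi_fst s hp hp' k
  obtain ⟨x', hx', -⟩ := hS.desc ((yon S).map (s.W.map χ) ≫ xj) (by
    intro T g h hgh
    obtain ⟨g, rfl⟩ := (yon S).map_surjective g
    obtain ⟨h, rfl⟩ := (yon S).map_surjective h
    have hgh' : (yon S).map (g ≫ s.snd k) ≫ p = (yon S).map (h ≫ s.snd k) ≫ p := by
      rw [Functor.map_comp, Functor.map_comp, Category.assoc, Category.assoc, ← s.w, ← Category.assoc, hgh,
        Category.assoc]
    obtain ⟨T', t, r, ht, hr₁, hr₂⟩ := hcov T (g ≫ s.snd k) (h ≫ s.snd k) hgh'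
    obtain ⟨l, hl, hl'⟩ := K600.Basic.exists_lift (s'.sq k) ((yon S).map (t ≫ g) ≫ s.fst k) r (by
      rw [Category.assoc, s.w, ← Category.assoc, ← Category.assoc, ← Functor.map_comp, ← Functor.map_comp, hr₁,
        Category.assoc])
    have hl1 : l ≫ n₁ = t ≫ g := by
      refine K600.Basic.hom_ext (s.sq k) ?_ ?_
      · rw [Functor.map_comp, Category.assoc, hn₁, hl]
      · rw [Category.assoc, hn₁', ← Category.assoc, hl', hr₁, Category.assoc]
    have hl2 : l ≫ n₂ = t ≫ h := by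
      refine K600.Basic.hom_ext (s.sq k) ?_ ?_
      · rw [Functor.map_comp, Category.assoc, hn₂, hl, Functor.map_comp, Functor.map_comp, Category.assoc,
          Category.assoc, hgh]
      · rw [Category.assoc, hn₂', ← Category.assoc, hl', hr₂, Category.assoc]
    have := ht.epi
    rw [← cancel_epi ((yon S).map t), ← Category.assoc, ← Functor.map_comp, ← hl1, Functor.map_comp, Category.assoc, e₁,
      ← Category.assoc, ← Functor.map_comp, hl2, Functor.map_comp, Category.assoc])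
  refine ⟨k.left, χ.left ≫ ψ.left, x', ?_, ?_⟩
  · have ha : K613.Cover.FSurj a := (K613.Cover.ESurj.of_repWith (repWith_of_isPullback hp sq)
      (repWith_of_isPullback hp' sq)).fSurj
    have := ha.epi
    have h3 : s.proj sq k ≫ s.W.map χ = s.proj sq j := (s.cone sq).w χ
    rw [← cancel_epi a, ← Category.assoc, ← s.proj_fst sq k, Category.assoc, hx', ← Category.assoc, ← Functor.map_comp,
      h3]
    exact h1'
  · have := hS.epi
    rw [← cancel_epi (s.fst k), ← Category.assoc, hx', Category.assoc, h2', ← Category.assoc, s.W_map_fst,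
      Category.assoc, D.map_comp, Category.assoc]

theorem isAffineMor_yon_map {T T' : Over S} [IsAffine T.left] [IsAffine T'.left] (φ : T ⟶ T') :
    IsAffineMor ((yon S).map φ) := by
  intro Z hZ g
  obtain ⟨g, rfl⟩ := (yon S).map_surjective g
  refine ⟨pullback φ g, pullback.snd φ g, (yon S).map (pullback.fst φ g), (IsPullback.of_hasPullback φ g).map (yon S), ?_⟩
  have h := (IsPullback.of_hasPullback φ g).map (Over.forget S)
  have : IsAffineHom ((Over.forget S).map φ) := by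
    change IsAffineHom φ.left
    infer_instance
  have h2 : IsAffineHom ((Over.forget S).map (pullback.snd φ g)) := MorphismProperty.of_isPullback h this
  have : IsAffine ((Over.forget S).obj Z) := hZ
  exact isAffine_of_isAffineHom ((Over.forget S).map (pullback.snd φ g))

theorem isQuasiSeparatedSp_yon {T : Over S} [IsAffine T.left] : IsQuasiSeparatedSp ((yon S).obj T) := by
  refine (repWith_diag_yon_iff _ _).2 ?_
  have : QuasiSeparated T.hom := inferInstance
  exact QuasiSeparated.quasiCompact_diagonal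

theorem affEl_of_forall {X Y : Sp S} (f : X ⟶ Y)
    (h : ∀ ⦃I : Type u⦄ [SmallCategory I] [IsCofiltered I] (D : I ⥤ AlgSp.Sp S),
        (∀ i, AlgSp.IsAlgSpace (D.obj i)) → (∀ (i j : I) (φ : i ⟶ j), AlgSp.IsAffineMor (D.map φ)) →
        (∀ i, AlgSp.IsQuasiCompactSp (D.obj i)) → (∀ i, AlgSp.IsQuasiSeparatedSp (D.obj i)) →
        ∀ (c : Cone D) (_ : IsLimit c), ElHom f D c) : AffEl f := by
  intro I _ _ D c hc hD hT
  have : IsConnected I := IsCofiltered.isConnected _
  have hc' : IsLimit c := isLimitOfReflects (Over.forget S) hc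
  exact h (D ⋙ yon S) (fun i => IsAlgSpace.yon_obj _) (fun i j φ => isAffineMor_yon_map _)
    (fun i => K596.QC.isQuasiCompactSp_yon _) (fun i => isQuasiSeparatedSp_yon) _ (isLimitOfPreserves (yon S) hc')

theorem main [QuasiSeparatedSpace ↥S] (X Y : Sp S) (f : X ⟶ Y) :
    IsRelLimitPreserving f.hom ↔
      ∀ ⦃I : Type u⦄ [SmallCategory I] [IsCofiltered I] (D : I ⥤ AlgSp.Sp S),
        (∀ i, AlgSp.IsAlgSpace (D.obj i)) → (∀ (i j : I) (φ : i ⟶ j), AlgSp.IsAffineMor (D.map φ)) →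
        (∀ i, AlgSp.IsQuasiCompactSp (D.obj i)) → (∀ i, AlgSp.IsQuasiSeparatedSp (D.obj i)) →
        ∀ (c : Cone D) (_ : IsLimit c),
          IsPullback (colimMap (Functor.whiskerLeft D.op (yoneda.map f)))
            (colimit.desc (D.op ⋙ yoneda.obj X) ((yoneda.obj X).mapCocone c.op))
            (colimit.desc (D.op ⋙ yoneda.obj Y) ((yoneda.obj Y).mapCocone c.op))
            ((yoneda.map f).app (Opposite.op c.pt)) := by
  rw [← affEl_iff]
  constructor
  · intro h I _ _ D hD hDa hqc hqs c hc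
    rw [isPullback_yoneda_iff]
    refine ⟨fun i x x' => inj_of_affEl h hDa hc i (hqc i) x x', fun i y t => ?_⟩
    exact surj_of_affEl h hD hDa hc i (hqc i) (hqs i) y t
  · intro h
    refine affEl_of_forall f fun I _ _ D hD hDa hqc hqs c hc => ?_
    rw [← isPullback_yoneda_iff]
    exact h D hD hDa hqc hqs c hc

end K605.LfpLim
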