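import Groth.Agent.AlgSp.K605.LimImg
import Groth.Agent.AlgSp.K605.LfpLim
import Groth.Agent.AlgSp.K605.ImmMain
import Groth.Agent.AlgSp.K600.LimSpace
import Groth.Agent.AlgSp.K600.LimIso

/-!
# Morphisms of systems of scheme theoretic images
-/

set_option autoImplicit false
set_option backward.isDefEq.respectTransparency false
universe u
open CategoryTheory CategoryTheory.Limits AlgebraicGeometry Opposite
open AlgSp K605.SqEl K605.LfpLim K600.LimSys K600.LimAff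

namespace K605.LimMor

variable {S : Scheme.{u}}

theorem isAffineMor_comp {F G H : Sp S} {f : F ⟶ G} {g : G ⟶ H} (hf : IsAffineMor f) (hg : IsAffineMor g) :
    IsAffineMor (f ≫ g) := by
  intro Z hZ z
  obtain ⟨W, b, a, sq, hW⟩ := hg hZ z
  obtain ⟨W', b', a', sq', hW'⟩ := hf hW a
  refine ⟨W', b' ≫ b, a', ?_, hW'⟩
  rw [Functor.map_comp]
  exact (sq'.flip.paste_horiz sq.flip).flip

theorem isAffineMor_of_comp_mono {F G H : Sp S} {f : F ⟶ G} {m : G ⟶ H} [Mono m] (h : IsAffineMor (f ≫ m)) :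
    IsAffineMor f := by
  intro Z hZ z
  obtain ⟨W, b, a, sq, hW⟩ := h hZ (z ≫ m)
  exact ⟨W, b, a, K610.OpenImm.isPullback_of_comp_mono m sq, hW⟩

theorem isQuasiSeparatedSp_of_mono {F G : Sp S} (m : F ⟶ G) (hm : RepWith @IsClosedImmersion m) (hG : IsQuasiSeparatedSp G) :
    IsQuasiSeparatedSp F := by
  have : Mono m := K600.Ideal.mono_of_isClosedImmersion hm
  refine K605.ImmMain.isQuasiSeparatedSp_of_mor (f := m) ?_ hG
  unfold IsQuasiSeparatedMor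
  rw [K613.Diag.repWith_diagonal_iff]
  intro T a b hab
  refine ⟨T, 𝟙 T, ⟨?_, fun R r _ => ⟨r, Category.comp_id _, fun r' hr' => ?_⟩⟩, ?_⟩
  · rw [(cancel_mono m).1 hab]
  · exact (Category.comp_id _).symm.trans hr'
  · change QuasiCompact (𝟙 T.left)
    infer_instance

/-- If `f` factors through the closed subspace `i'` then so does its scheme theoretic image. -/
theorem exists_factor_of_isSchImage {X G Z : Sp S} {ξ : X ⟶ Z} {ε : Z ⟶ G}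
    (h : IsSchImage (ξ ≫ ε) ε) {H Y : Sp S} (hZ : IsAlgSpace Z) (g : Z ⟶ H) (i : Y ⟶ H) (hi : RepWith @IsClosedImmersion i)
    (x : X ⟶ Y) (hx : x ≫ i = ξ ≫ g) : ∃ k : Z ⟶ Y, k ≫ i = g := by
  have hε : Mono ε := K600.Ideal.mono_of_isClosedImmersion h.1
  have sq : IsPullback (pullback.fst g i) (pullback.snd g i) g i := IsPullback.of_hasPullback _ _
  have hz : RepWith @IsClosedImmersion (pullback.fst g i) := MorphismProperty.of_isPullback (P := RepWith _) sq.flip hi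
  obtain ⟨k, hk⟩ := h.2.2 (pullback.fst g i ≫ ε) (K600.LimSpace.isAlgSpace_of_representable hz.1 hZ)
    (MorphismProperty.comp_mem _ _ _ hz h.1) ⟨sq.lift ξ x hx.symm, by rw [← Category.assoc, sq.lift_fst]⟩
  have hk' : k ≫ pullback.fst g i = 𝟙 Z := by
    rw [← cancel_mono ε, Category.assoc, hk, Category.id_comp]
  refine ⟨k ≫ pullback.snd g i, ?_⟩
  rw [Category.assoc, ← sq.w, ← Category.assoc, hk', Category.id_comp]

section sys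

variable {I : Type u} [SmallCategory I] [IsCofiltered I] {D : I ⥤ Sp S} {i : I} {W : Sp S} {w : W ⟶ D.obj i}
  {DP : Over i ⥤ AlgSp.Sp S} {π₁ : DP ⟶ Over.forget i ⋙ D} {π₂ : DP ⟶ (Functor.const (Over i)).obj W}
  (hDP : ∀ i' : Over i, IsPullback (π₁.app i') (π₂.app i') (D.map i'.hom) w)
  {DX : Over i ⥤ AlgSp.Sp S} (ε : DX ⟶ DP) (hε : ∀ j, RepWith @IsClosedImmersion (ε.app j))

include hDP hε

omit [IsCofiltered I] in
theorem qc_sys (hD : ∀ i, IsAlgSpace (D.obj i)) (hqc : ∀ i, IsQuasiCompactSp (D.obj i)) (hw : IsQuasiCompactMor w)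
    (j : Over i) : IsQuasiCompactSp (DX.obj j) := by
  have h1 : IsQuasiCompactMor (π₁.app j) := K596.QC.isQuasiCompactMor_of_isPullback (hDP j).flip hw
  have h2 : IsQuasiCompactSp (DP.obj j) := h1 (hD j.left) (hqc j.left) (𝟙 _) (𝟙 _) (π₁.app j) IsPullback.of_id_fst
  exact K596.QC.isQuasiCompactSp_of_repWith h2 (K610.Base.repWith_mono (fun _ _ f (hf : IsClosedImmersion f) =>
    (inferInstance : QuasiCompact f)) (hε j))

omit [IsCofiltered I] in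
theorem qs_sys (hqs : ∀ i, IsQuasiSeparatedSp (D.obj i)) (hw : IsQuasiSeparatedMor w)
    (j : Over i) : IsQuasiSeparatedSp (DX.obj j) :=
  isQuasiSeparatedSp_of_mono (ε.app j) (hε j) (K605.ImmMain.isQuasiSeparatedSp_of_mor (f := π₁.app j)
    (K613.Diag.repWith_diagonal_of_isPullback hw (hDP j).flip) (hqs j.left))

omit [IsCofiltered I] in
theorem aff_sys (hDa : ∀ (i j : I) (φ : i ⟶ j), IsAffineMor (D.map φ)) (j k : Over i) (φ : j ⟶ k) :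
    IsAffineMor (DX.map φ) := by
  have : Mono (ε.app k) := K600.Ideal.mono_of_isClosedImmersion (hε k)
  refine isAffineMor_of_comp_mono (m := ε.app k) ?_
  rw [ε.naturality]
  exact isAffineMor_comp (K600.LimIso.isAffineMor_of_repWith_isClosedImmersion (hε j))
    (LimImg.isAffineMor_of_isPullback (hDa _ _ φ.left) (LimImg.isPullback_map hDP φ))

end sys

theorem comb {C : Type*} [Category C] {A B A₁ B₁ P P₁ V A₂ : C} {s : A ⟶ A₂} {t : A₂ ⟶ A₁} {m : A ⟶ A₁} {g₀ : A₁ ⟶ B₁}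
    {e₀ : B₁ ⟶ P₁} {p₀ : P₁ ⟶ V} {g' : A ⟶ B} {e' : B ⟶ P} {p' : P ⟶ V} {d : B ⟶ B₁} {q : P ⟶ P₁}
    (hm : m = s ≫ t) (h1 : m ≫ g₀ = g' ≫ d) (h2 : d ≫ e₀ = e' ≫ q) (h3 : q ≫ p₀ = p') :
    g' ≫ e' ≫ p' = s ≫ t ≫ g₀ ≫ e₀ ≫ p₀ := by
  rw [← h3, ← Category.assoc e', ← h2, Category.assoc, ← Category.assoc g', ← h1, hm]
  simp only [Category.assoc]

theorem comb2 {C : Type*} [Category C] {X Z P B₁ B₂ V : C} {ξ : X ⟶ Z} {ε : Z ⟶ P} {π : P ⟶ B₁} {β : B₁ ⟶ B₂}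
    {a : X ⟶ V} {b : V ⟶ B₁} {b' : V ⟶ B₂} (h : ξ ≫ ε ≫ π = a ≫ b) (h2 : b ≫ β = b') :
    ξ ≫ ε ≫ π ≫ β = a ≫ b' := by
  rw [← h2, ← Category.assoc a, ← h]
  simp only [Category.assoc]

/-- `X_{i'} → X_k → X_j → P_j → B_j → B_{i₂}` computed through `P_{i'}`. -/
theorem comb3 {C : Type*} [Category C] {A Ak Aj P Pj B Bj B₂ V : C} {t : A ⟶ Ak} {x : Ak ⟶ V} {v : V ⟶ B₂}
    {χ : Ak ⟶ Aj} {εj : Aj ⟶ Pj} {πj : Pj ⟶ Bj} {β : Bj ⟶ B₂} {ε : A ⟶ P} {q : P ⟶ Pj} {π : P ⟶ B} {d : B ⟶ Bj}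
    {dd : B ⟶ B₂} {m : A ⟶ Aj}
    (hx : x ≫ v = χ ≫ εj ≫ πj ≫ β) (hm : m = t ≫ χ) (h1 : m ≫ εj = ε ≫ q) (h2 : q ≫ πj = π ≫ d) (h3 : dd = d ≫ β) :
    (ε ≫ π) ≫ dd = (t ≫ x) ≫ v := by
  rw [Category.assoc, Category.assoc, hx, h3, ← Category.assoc π, ← h2, ← Category.assoc t, ← hm, ← Category.assoc m, h1]
  simp only [Category.assoc]

/-- naturality, first component -/
theorem comb4 {C : Type*} [Category C] {A A' Y Y' P P' B B' Q Q' : C} {m : A ⟶ A'} {F' : A' ⟶ Y'} {F : A ⟶ Y} {n : Y ⟶ Y'}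
    {ε' : Y' ⟶ P'} {π' : P' ⟶ B'} {ε : Y ⟶ P} {π : P ⟶ B} {q : P ⟶ P'} {d : B ⟶ B'}
    {eX : A ⟶ Q} {eX' : A' ⟶ Q'} {πX : Q ⟶ B} {πX' : Q' ⟶ B'} {qX : Q ⟶ Q'}
    (h1 : n ≫ ε' = ε ≫ q) (h2 : q ≫ π' = π ≫ d) (h3 : F ≫ ε ≫ π = eX ≫ πX) (h4 : F' ≫ ε' ≫ π' = eX' ≫ πX')
    (h5 : m ≫ eX' = eX ≫ qX) (h6 : qX ≫ πX' = πX ≫ d) :
    ((m ≫ F') ≫ ε') ≫ π' = ((F ≫ n) ≫ ε') ≫ π' := by
  have e1 : ((m ≫ F') ≫ ε') ≫ π' = m ≫ eX' ≫ πX' := by rw [← h4]; simp only [Category.assoc]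
  have e2 : ((F ≫ n) ≫ ε') ≫ π' = (F ≫ ε ≫ π) ≫ d := by
    rw [Category.assoc F, h1]
    simp only [Category.assoc, h2]
  rw [e1, e2, h3, ← Category.assoc m, h5]
  simp only [Category.assoc, h6]

/-- naturality, second component -/
theorem comb5 {C : Type*} [Category C] {A A' Y Y' P P' K V : C} {m : A ⟶ A'} {F' : A' ⟶ Y'} {F : A ⟶ Y} {n : Y ⟶ Y'}
    {ε' : Y' ⟶ P'} {π' : P' ⟶ V} {ε : Y ⟶ P} {π : P ⟶ V} {q : P ⟶ P'} {t : A ⟶ K} {t' : A' ⟶ K} {x : K ⟶ V}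
    (h1 : n ≫ ε' = ε ≫ q) (h2 : q ≫ π' = π) (h3 : F ≫ ε ≫ π = t ≫ x) (h4 : F' ≫ ε' ≫ π' = t' ≫ x) (h5 : m ≫ t' = t) :
    ((m ≫ F') ≫ ε') ≫ π' = ((F ≫ n) ≫ ε') ≫ π' := by
  have e1 : ((m ≫ F') ≫ ε') ≫ π' = m ≫ t' ≫ x := by rw [← h4]; simp only [Category.assoc]
  have e2 : ((F ≫ n) ≫ ε') ≫ π' = F ≫ ε ≫ π := by
    rw [Category.assoc F, h1]
    simp only [Category.assoc, h2]
  rw [e1, e2, h3, ← Category.assoc m, h5]

section main

variable {I : Type u} [SmallCategory I] [IsCofiltered I] {D : I ⥤ Sp S} {c : Cone D} {X Y : Sp S}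
  {aX : X ⟶ c.pt} {aY : Y ⟶ c.pt} {f : X ⟶ Y} (hf : f ≫ aY = aX)
  {i₁ : I} {W : Sp S} {w : W ⟶ D.obj i₁} {bX : X ⟶ W}
  {PX : Over i₁ ⥤ AlgSp.Sp S} {PXπ₁ : PX ⟶ Over.forget i₁ ⋙ D} {PXπ₂ : PX ⟶ (Functor.const (Over i₁)).obj W}
  (hPX : ∀ i' : Over i₁, IsPullback (PXπ₁.app i') (PXπ₂.app i') (D.map i'.hom) w)
  {DX : Over i₁ ⥤ AlgSp.Sp S} (hDX : ∀ i', AlgSp.IsAlgSpace (DX.obj i')) {εX : DX ⟶ PX}
  {ξX : (Functor.const (Over i₁)).obj X ⟶ DX}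
  (hξX : ∀ i' : Over i₁, ξX.app i' ≫ εX.app i' ≫ PXπ₁.app i' = aX ≫ c.π.app i'.left ∧
    ξX.app i' ≫ εX.app i' ≫ PXπ₂.app i' = bX)
  (himgX : ∀ i' : Over i₁, AlgSp.IsSchImage (ξX.app i' ≫ εX.app i') (εX.app i'))
  (hlim : IsLimit (Cone.mk X ξX))
  {i₂ : I} {V : Sp S} {v : V ⟶ D.obj i₂} (hv : AffEl v) {bY : Y ⟶ V}
  (hbY : bY ≫ v = aY ≫ c.π.app i₂)
  {PY : Over i₂ ⥤ AlgSp.Sp S} {PYπ₁ : PY ⟶ Over.forget i₂ ⋙ D} {PYπ₂ : PY ⟶ (Functor.const (Over i₂)).obj V}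
  (hPY : ∀ i' : Over i₂, IsPullback (PYπ₁.app i') (PYπ₂.app i') (D.map i'.hom) v)
  {DY : Over i₂ ⥤ AlgSp.Sp S} {εY : DY ⟶ PY}
  {ξY : (Functor.const (Over i₂)).obj Y ⟶ DY}
  (hξY : ∀ i' : Over i₂, ξY.app i' ≫ εY.app i' ≫ PYπ₁.app i' = aY ≫ c.π.app i'.left ∧
    ξY.app i' ≫ εY.app i' ≫ PYπ₂.app i' = bY)
  (himgY : ∀ i' : Over i₂, AlgSp.IsSchImage (ξY.app i' ≫ εY.app i') (εY.app i'))
  (hDa : ∀ (i j : I) (φ : i ⟶ j), IsAffineMor (D.map φ))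
  (hqcX : ∀ j, IsQuasiCompactSp (DX.obj j)) (hqsX : ∀ j, IsQuasiSeparatedSp (DX.obj j))

include hPX hlim hv hPY himgY himgX hDa hqcX

omit hξY in
theorem unique_fam {i₀ : I} (φ₁ : i₀ ⟶ i₁) (φ₂ : i₀ ⟶ i₂) (fam gam : Over.map φ₁ ⋙ DX ⟶ Over.map φ₂ ⋙ DY)
    (h1 : ∀ i' : Over i₀, ξX.app ((Over.map φ₁).obj i') ≫ fam.app i' = f ≫ ξY.app ((Over.map φ₂).obj i'))
    (h2 : ∀ i' : Over i₀, fam.app i' ≫ εY.app ((Over.map φ₂).obj i') ≫ PYπ₁.app ((Over.map φ₂).obj i') =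
          εX.app ((Over.map φ₁).obj i') ≫ PXπ₁.app ((Over.map φ₁).obj i'))
    (h3 : ∀ i' : Over i₀, ξX.app ((Over.map φ₁).obj i') ≫ gam.app i' = f ≫ ξY.app ((Over.map φ₂).obj i'))
    (h4 : ∀ i' : Over i₀, gam.app i' ≫ εY.app ((Over.map φ₂).obj i') ≫ PYπ₁.app ((Over.map φ₂).obj i') =
          εX.app ((Over.map φ₁).obj i') ≫ PXπ₁.app ((Over.map φ₁).obj i')) :
    ∃ (j₀ : I) (ψ : j₀ ⟶ i₀), ∀ j : Over j₀, fam.app ((Over.map ψ).obj j) = gam.app ((Over.map ψ).obj j) := by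
  let e₀ : Over i₀ := Over.mk (𝟙 i₀)
  let k' : Over i₁ := (Over.map φ₁).obj e₀
  let k₂ : Over i₂ := (Over.map φ₂).obj e₀
  let xf : DX.obj k' ⟶ V := fam.app e₀ ≫ εY.app k₂ ≫ PYπ₂.app k₂
  let xg : DX.obj k' ⟶ V := gam.app e₀ ≫ εY.app k₂ ≫ PYπ₂.app k₂
  have hxv : ∀ (g : DX.obj k' ⟶ DY.obj k₂), (g ≫ εY.app k₂ ≫ PYπ₂.app k₂) ≫ v =
      (g ≫ εY.app k₂ ≫ PYπ₁.app k₂) ≫ D.map k₂.hom := by
    intro g
    rw [Category.assoc, Category.assoc, ← (hPY k₂).w, Category.assoc, Category.assoc]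
  obtain ⟨j', θ, e⟩ := inj_of_affEl hv (aff_sys hPX εX (fun j => (himgX j).1) hDa) hlim k' (hqcX k') xf xg
    ((hxv (fam.app e₀)).trans (by
      rw [h2 e₀, ← h4 e₀]
      exact (hxv (gam.app e₀)).symm)) (by
    change ξX.app k' ≫ fam.app e₀ ≫ εY.app k₂ ≫ PYπ₂.app k₂ = ξX.app k' ≫ gam.app e₀ ≫ εY.app k₂ ≫ PYπ₂.app k₂
    have h5 := h1 e₀
    have h6 := h3 e₀
    rw [← Category.assoc, ← Category.assoc (ξX.app k')]
    rw [h5, h6])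
  refine ⟨j'.left, θ.left, fun j => ?_⟩
  let i' : Over i₀ := (Over.map θ.left).obj j
  have hm : Mono (εY.app ((Over.map φ₂).obj i')) := K600.Ideal.mono_of_isClosedImmersion (himgY _).1
  let ρ : i' ⟶ e₀ := Over.homMk i'.hom
  let σ : (Over.map φ₁).obj i' ⟶ j' := Over.homMk j.hom (by
    have h7 : θ.left ≫ 𝟙 i₀ ≫ φ₁ = j'.hom := Over.w θ
    change j.hom ≫ j'.hom = (j.hom ≫ θ.left) ≫ φ₁
    rw [← h7]
    exact ((Category.assoc _ _ _).trans (congrArg (fun t => j.hom ≫ θ.left ≫ t) (Category.id_comp φ₁).symm)).symm)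
  have hρ : (Over.map φ₁).map ρ = σ ≫ θ := by
    apply Over.OverMorphism.ext
    rfl
  have hsnd : ∀ g : Over.map φ₁ ⋙ DX ⟶ Over.map φ₂ ⋙ DY,
      g.app i' ≫ εY.app ((Over.map φ₂).obj i') ≫ PYπ₂.app ((Over.map φ₂).obj i') =
        DX.map σ ≫ DX.map θ ≫ g.app e₀ ≫ εY.app k₂ ≫ PYπ₂.app k₂ := by
    intro g
    have n1 : DX.map ((Over.map φ₁).map ρ) ≫ g.app e₀ = g.app i' ≫ DY.map ((Over.map φ₂).map ρ) := g.naturality ρ
    have n2 : DY.map ((Over.map φ₂).map ρ) ≫ εY.app k₂ = εY.app _ ≫ PY.map ((Over.map φ₂).map ρ) := εY.naturality _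
    have n3 : PY.map ((Over.map φ₂).map ρ) ≫ PYπ₂.app k₂ = PYπ₂.app _ := LimImg.nat₂ _
    exact comb (by rw [hρ, DX.map_comp]) n1 n2 n3
  apply (cancel_mono (εY.app ((Over.map φ₂).obj i'))).1
  apply (hPY ((Over.map φ₂).obj i')).hom_ext
  · rw [Category.assoc, Category.assoc]
    exact (h2 i').trans (h4 i').symm
  · rw [Category.assoc, Category.assoc]
    refine (hsnd fam).trans (Eq.trans ?_ (hsnd gam).symm)
    exact congrArg (fun t => DX.map σ ≫ t) e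

omit hqcX himgX in
include hf hDX hξX hbY hqcX hqsX hξY himgX in
theorem exists_fam [QuasiSeparatedSpace ↥S] :
    ∃ (i₀ : I) (φ₁ : i₀ ⟶ i₁) (φ₂ : i₀ ⟶ i₂) (fam : Over.map φ₁ ⋙ DX ⟶ Over.map φ₂ ⋙ DY),
      (∀ i' : Over i₀, ξX.app ((Over.map φ₁).obj i') ≫ fam.app i' = f ≫ ξY.app ((Over.map φ₂).obj i')) ∧
        (∀ i' : Over i₀, fam.app i' ≫ εY.app ((Over.map φ₂).obj i') ≫ PYπ₁.app ((Over.map φ₂).obj i') =
          εX.app ((Over.map φ₁).obj i') ≫ PXπ₁.app ((Over.map φ₁).obj i')) := by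
  obtain ⟨i₁₂, α, β, -⟩ := IsCofilteredOrEmpty.cone_objs i₁ i₂
  let j : Over i₁ := Over.mk α
  have hπ : c.π.app j.left ≫ D.map β = c.π.app i₂ := c.w β
  obtain ⟨k, χ, x', hx1, hx2⟩ := surj_of_affEl hv hDX (aff_sys hPX εX (fun j => (himgX j).1) hDa) hlim j (hqcX j)
    (hqsX j) (εX.app j ≫ PXπ₁.app j ≫ D.map β) (f ≫ bY) (by
      rw [Category.assoc, hbY, ← Category.assoc, hf]
      exact (comb2 (hξX j).1 hπ).symm)
  have hx1' : ξX.app k ≫ x' = f ≫ bY := hx1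
  let φ₁ : k.left ⟶ i₁ := k.hom
  let φ₂ : k.left ⟶ i₂ := χ.left ≫ β
  let τ : ∀ i' : Over k.left, (Over.map φ₁).obj i' ⟶ k := fun i' => Over.homMk i'.hom
  have hg : ∀ i' : Over k.left, (εX.app ((Over.map φ₁).obj i') ≫ PXπ₁.app ((Over.map φ₁).obj i')) ≫
      D.map ((Over.map φ₂).obj i').hom = (DX.map (τ i') ≫ x') ≫ v := by
    intro i'
    refine comb3 (m := DX.map (τ i' ≫ χ)) hx2 (DX.map_comp _ _) (εX.naturality (τ i' ≫ χ))
      (LimImg.nat₁ (π₁ := PXπ₁) (τ i' ≫ χ)).symm ?_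
    rw [← D.map_comp]
    exact congrArg D.map (Category.assoc i'.hom χ.left β).symm
  let g : ∀ i' : Over k.left, DX.obj ((Over.map φ₁).obj i') ⟶ PY.obj ((Over.map φ₂).obj i') := fun i' =>
    (hPY ((Over.map φ₂).obj i')).lift (εX.app ((Over.map φ₁).obj i') ≫ PXπ₁.app ((Over.map φ₁).obj i'))
      (DX.map (τ i') ≫ x') (hg i')
  have hg1 : ∀ i', g i' ≫ PYπ₁.app ((Over.map φ₂).obj i') =
      εX.app ((Over.map φ₁).obj i') ≫ PXπ₁.app ((Over.map φ₁).obj i') := fun i' => IsPullback.lift_fst _ _ _ _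
  have hg2 : ∀ i', g i' ≫ PYπ₂.app ((Over.map φ₂).obj i') = DX.map (τ i') ≫ x' := fun i' => IsPullback.lift_snd _ _ _ _
  have hξ : ∀ {a b : Over i₁} (φ : a ⟶ b), ξX.app a ≫ DX.map φ = ξX.app b := fun φ =>
    (ξX.naturality φ).symm.trans (Category.id_comp _)
  have hx : ∀ i' : Over k.left, (f ≫ ξY.app ((Over.map φ₂).obj i')) ≫ εY.app ((Over.map φ₂).obj i') =
      ξX.app ((Over.map φ₁).obj i') ≫ g i' := by
    intro i'
    apply (hPY ((Over.map φ₂).obj i')).hom_ext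
    · rw [Category.assoc, Category.assoc, Category.assoc, hg1, (hξX ((Over.map φ₁).obj i')).1,
        (hξY ((Over.map φ₂).obj i')).1, ← Category.assoc, hf]
      rfl
    · rw [Category.assoc, Category.assoc, Category.assoc, hg2, (hξY ((Over.map φ₂).obj i')).2, ← Category.assoc,
        hξ, hx1']
  have hF : ∀ i' : Over k.left, ∃ F : DX.obj ((Over.map φ₁).obj i') ⟶ DY.obj ((Over.map φ₂).obj i'),
      F ≫ εY.app ((Over.map φ₂).obj i') = g i' := fun i' =>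
    exists_factor_of_isSchImage (himgX _) (hDX _) (g i') _ (himgY _).1 _ (hx i')
  choose F hF using hF
  have hm : ∀ j, Mono (εY.app j) := fun j => K600.Ideal.mono_of_isClosedImmersion (himgY j).1
  have hF1 : ∀ i', F i' ≫ εY.app ((Over.map φ₂).obj i') ≫ PYπ₁.app ((Over.map φ₂).obj i') =
      εX.app ((Over.map φ₁).obj i') ≫ PXπ₁.app ((Over.map φ₁).obj i') := fun i' => by
    rw [← Category.assoc, hF, hg1]
  have hF2 : ∀ i', F i' ≫ εY.app ((Over.map φ₂).obj i') ≫ PYπ₂.app ((Over.map φ₂).obj i') = DX.map (τ i') ≫ x' :=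
    fun i' => by rw [← Category.assoc, hF, hg2]
  let fam : Over.map φ₁ ⋙ DX ⟶ Over.map φ₂ ⋙ DY :=
    { app := F
      naturality := fun {a b} ψ => by
        apply (cancel_mono (εY.app ((Over.map φ₂).obj b))).1
        apply (hPY ((Over.map φ₂).obj b)).hom_ext
        · exact comb4 (εY.naturality ((Over.map φ₂).map ψ)) (LimImg.nat₁ (π₁ := PYπ₁) ((Over.map φ₂).map ψ)).symm
            (hF1 a) (hF1 b) (εX.naturality ((Over.map φ₁).map ψ)) (LimImg.nat₁ (π₁ := PXπ₁) ((Over.map φ₁).map ψ)).symm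
        · refine comb5 (εY.naturality ((Over.map φ₂).map ψ)) (LimImg.nat₂ (π₂ := PYπ₂) ((Over.map φ₂).map ψ))
            (hF2 a) (hF2 b) ?_
          refine (DX.map_comp _ _).symm.trans (congrArg DX.map ?_)
          apply Over.OverMorphism.ext
          exact Over.w ψ }
  refine ⟨k.left, φ₁, φ₂, fam, fun i' => ?_, hF1⟩
  apply (cancel_mono (εY.app ((Over.map φ₂).obj i'))).1
  rw [hx i', Category.assoc]
  exact congrArg (fun t => ξX.app ((Over.map φ₁).obj i') ≫ t) (hF i')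

end main

end K605.LimMor
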