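import Groth.Agent.AlgSp.K605.LimClosure
import Groth.Agent.AlgSp.K598.SchImg
import Groth.Agent.AlgSp.K596.QC

/-!
# A closed subspace of a limit is the limit of its scheme theoretic images
-/

universe u

open CategoryTheory CategoryTheory.Limits AlgebraicGeometry Opposite Topology
open AlgSp

set_option backward.isDefEq.respectTransparency false

namespace K605.LimImg

open K600.LimSys K600.LimAff

variable {S : Scheme.{u}}

theorem isAffineMor_of_isPullback {F G F' G' : Sp S} {f : F ⟶ G} {g : G' ⟶ G} {fst : F' ⟶ F} {snd : F' ⟶ G'}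
    (hf : IsAffineMor f) (sq : IsPullback fst snd f g) : IsAffineMor snd := by
  intro Z hZ z
  obtain ⟨W, b, a, sq', hW⟩ := hf hZ (z ≫ g)
  obtain ⟨l, -, hl⟩ := K596.QC.isPullback_lift_right sq sq'
  exact ⟨W, b, l, hl, hW⟩

/-- An affine morphism is quasi-compact. -/
theorem isQuasiCompactMor_of_isAffineMor {F G : Sp S} (hF : IsAlgSpace F) (hG : IsAlgSpace G) {f : F ⟶ G}
    (hf : IsAffineMor f) : IsQuasiCompactMor f := by
  refine K596.QC.isQuasiCompactMor_of_affine hF hG fun Z hZ g P fst snd sq => ?_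
  obtain ⟨W, b, a, sq', hW⟩ := hf hZ g
  have h1 : CompactSpace (Points ((yon S).obj W)) := K609.QC.compactSpace_points (K596.QC.isQuasiCompactSp_yon W)
  let e := sq'.isoIsPullback _ _ sq
  have h2 : Function.Surjective (Points.map e.hom) := fun x => ⟨Points.map e.inv x, by
    rw [← Points.map_comp, e.inv_hom_id, Points.map_id]⟩
  have h3 := isCompact_range (Points.continuous_map e.hom)
  rw [h2.range_eq] at h3
  exact ⟨h3⟩

/-- The kernel condition for morphisms of schemes with the same ideal sheaf. -/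
theorem appTop_eq_zero_of_ker_eq {X Y Y' : Scheme.{u}} [IsAffine X] (f : Y ⟶ X) (g : Y' ⟶ X) [QuasiCompact f]
    [QuasiCompact g] (h : f.ker = g.ker) (s : Γ(X, ⊤)) (hs : f.appTop s = 0) : g.appTop s = 0 := by
  rw [Scheme.ker_of_isAffine, Scheme.ker_of_isAffine] at h
  have h1 : RingHom.ker f.appTop.hom = RingHom.ker g.appTop.hom :=
    (Scheme.IdealSheafData.equivOfIsAffine (X := X)).symm.injective h
  have h2 : s ∈ RingHom.ker f.appTop.hom := hs
  rw [h1] at h2
  exact h2

section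

variable {I : Type u} [SmallCategory I] [IsCofiltered I] {D : I ⥤ Sp S}

/-- `lim X_i = X` if `X ⊂ B = lim B_i` is closed and `X_i` is the scheme theoretic image of `X` in `B_i`. -/
theorem isLimit_image (hD : ∀ i, IsAlgSpace (D.obj i))
    (hDa : ∀ (i j : I) (φ : i ⟶ j), IsAffineMor (D.map φ)) {c : Cone D} (hc : IsLimit c) (hcpt : IsAlgSpace c.pt)
    {X : Sp S} (k : X ⟶ c.pt) (hk : RepWith @IsClosedImmersion k) {DX : I ⥤ AlgSp.Sp S} (ε : DX ⟶ D)
    (ξ : (Functor.const I).obj X ⟶ DX) (hξ : ∀ i, ξ.app i ≫ ε.app i = k ≫ c.π.app i)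
    (himg : ∀ i, IsSchImage (k ≫ c.π.app i) (ε.app i)) :
    Nonempty (IsLimit (Cone.mk X ξ)) := by
  obtain ⟨i₀⟩ := IsCofiltered.nonempty (C := I)
  refine LimCl.isLimit_of_charts hD hDa hc hk ε (fun i => (himg i).1) ξ hξ i₀ ?_
  intro U p s V a b sq Q z m hU hp hs hV sqQ f hf
  obtain ⟨j, g, rfl⟩ := LimClosure.exists_section s sq hc hs f
  refine ⟨j, g, rfl, fun E n e sqE => ?_⟩
  have h1 : IsQuasiCompactMor (k ≫ c.π.app j.left) := by
    refine K596.QC.isQuasiCompactMor_comp hcpt (hD _) ?_ ?_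
    · exact K596.QC.isQuasiCompactMor_of_repWith (K610.Base.repWith_mono (fun _ _ f (hf : IsClosedImmersion f) => (inferInstance : QuasiCompact f)) hk)
    · exact isQuasiCompactMor_of_isAffineMor hcpt (hD _) (isAffineMor_π hDa hc _)
  have h2 := K598.SchImg.image_eq_K (hD j.left) h1 (himg j.left).1 (himg j.left) (s.fst j) (hs j)
    (K598.Charts.repWith_flat_of_etale (repWith_fst s hp j))
  rw [K598.ClFam.ofClosed_eq (himg j.left).1 sqE] at h2
  have sq3 : IsPullback z ((yon S).map (m ≫ s.proj sq j)) (k ≫ c.π.app j.left) (s.fst j) := by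
    rw [Functor.map_comp]
    exact sqQ.paste_vert (s.isPullback_proj sq j)
  rw [K598.SchImg.K_eq_ker sq3 (𝟙 _) (repWith_id _ _) (repWith_id _ _) (m ≫ s.proj sq j) (Category.id_comp _)] at h2
  have hn : IsClosedImmersion n.left := (himg j.left).1.2 _ _ _ sqE
  have hm : IsClosedImmersion m.left := hk.2 _ _ _ sqQ
  have : IsAffine (s.obj j).left := hs j
  have : IsAffine Q.left := isAffine_of_isAffineHom m.left
  refine appTop_eq_zero_of_ker_eq (m ≫ s.proj sq j).left n.left h2.symm g ?_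
  rw [Over.comp_left, Scheme.Hom.comp_appTop, CommRingCat.comp_apply, hf]

section PullbackSystem

variable {c : Cone D} {i : I} {W : Sp S} {w : W ⟶ D.obj i}
    {DP : Over i ⥤ AlgSp.Sp S} {π₁ : DP ⟶ Over.forget i ⋙ D} {π₂ : DP ⟶ (Functor.const (Over i)).obj W}
    (hDP : ∀ i' : Over i, IsPullback (π₁.app i') (π₂.app i') (D.map i'.hom) w)

omit [IsCofiltered I] in
theorem nat₁ {j k : Over i} (φ : j ⟶ k) : π₁.app j ≫ D.map φ.left = DP.map φ ≫ π₁.app k := (π₁.naturality φ).symm

omit [IsCofiltered I] in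
theorem nat₂ {j k : Over i} (φ : j ⟶ k) : DP.map φ ≫ π₂.app k = π₂.app j := by
  have := π₂.naturality φ
  rw [this]
  exact Category.comp_id _

omit [IsCofiltered I] in
include hDP in
theorem isPullback_map {j k : Over i} (φ : j ⟶ k) :
    IsPullback (π₁.app j) (DP.map φ) (D.map φ.left) (π₁.app k) := by
  refine IsPullback.of_bot ?_ (nat₁ φ) (hDP k)
  rw [nat₂ φ, ← D.map_comp, Over.w φ]
  exact hDP j

variable {P : Sp S} {fst : P ⟶ c.pt} {snd : P ⟶ W} (sqP : IsPullback fst snd (c.π.app i) w)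

/-- The cone over the pulled back system. -/
noncomputable def coneP : Cone DP where
  pt := P
  π :=
    { app := fun j => (hDP j).lift (fst ≫ c.π.app j.left) snd (by rw [Category.assoc, c.w, sqP.w])
      naturality := fun {j k} φ => by
        change 𝟙 P ≫ _ = _
        rw [Category.id_comp]
        apply (hDP k).hom_ext
        · rw [IsPullback.lift_fst, Category.assoc, ← nat₁ φ, ← Category.assoc, IsPullback.lift_fst, Category.assoc, c.w]
        · rw [IsPullback.lift_snd, Category.assoc, nat₂ φ, IsPullback.lift_snd] }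

omit [IsCofiltered I] in
theorem coneP_fst (j : Over i) : (coneP hDP sqP).π.app j ≫ π₁.app j = fst ≫ c.π.app j.left := IsPullback.lift_fst _ _ _ _

omit [IsCofiltered I] in
theorem coneP_snd (j : Over i) : (coneP hDP sqP).π.app j ≫ π₂.app j = snd := IsPullback.lift_snd _ _ _ _

/-- It is a limit. -/
theorem isLimit_coneP (hc : IsLimit c) : Nonempty (IsLimit (coneP hDP sqP)) := by
  have key : ∀ t : Cone DP, ∃ l : t.pt ⟶ P, (∀ j, l ≫ (coneP hDP sqP).π.app j = t.π.app j) ∧
      ∀ m : t.pt ⟶ P, (∀ j, m ≫ (coneP hDP sqP).π.app j = t.π.app j) → m = l := by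
    intro t
    let d : Cone (Over.forget i ⋙ D) := Cone.mk t.pt (t.π ≫ π₁)
    have hx : ∀ j : Over i, (Sys.isLimitWhisker hc).lift d ≫ c.π.app j.left = t.π.app j ≫ π₁.app j :=
      fun j => (Sys.isLimitWhisker hc).fac d j
    have hy : ∀ j : Over i, t.π.app j ≫ π₂.app j = t.π.app (Over.mk (𝟙 i)) ≫ π₂.app (Over.mk (𝟙 i)) := by
      intro j
      rw [← t.w (Over.homMk j.hom : j ⟶ Over.mk (𝟙 i)), Category.assoc, nat₂]
    have hxy : (Sys.isLimitWhisker (i := i) hc).lift d ≫ c.π.app i =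
        (t.π.app (Over.mk (𝟙 i)) ≫ π₂.app (Over.mk (𝟙 i))) ≫ w := by
      rw [Category.assoc, ← (hDP (Over.mk (𝟙 i))).w, ← Category.assoc, ← hx (Over.mk (𝟙 i)), Category.assoc, c.w]
    refine ⟨sqP.lift _ _ hxy, fun j => ?_, fun m hm => ?_⟩
    · apply (hDP j).hom_ext
      · rw [Category.assoc, coneP_fst, ← Category.assoc, sqP.lift_fst, hx]
      · rw [Category.assoc, coneP_snd, sqP.lift_snd, hy j]
    · apply sqP.hom_ext
      · rw [sqP.lift_fst]
        refine (Sys.isLimitWhisker (i := i) hc).hom_ext fun j => ?_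
        change (m ≫ fst) ≫ c.π.app j.left = _ ≫ c.π.app j.left
        rw [hx, Category.assoc, ← coneP_fst hDP sqP, ← Category.assoc, hm]
      · rw [sqP.lift_snd, ← coneP_snd hDP sqP (Over.mk (𝟙 i)), ← Category.assoc, hm]
  exact ⟨{ lift := fun t => (key t).choose
           fac := fun t j => (key t).choose_spec.1 j
           uniq := fun t m hm => (key t).choose_spec.2 m hm }⟩

end PullbackSystem

/-- The statement `S10073` with the fibre products with `W`. -/
theorem isLimit_image_over (hD : ∀ i, IsAlgSpace (D.obj i))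
    (hDa : ∀ (i j : I) (φ : i ⟶ j), IsAffineMor (D.map φ)) {c : Cone D} (hc : IsLimit c) (hcpt : IsAlgSpace c.pt)
    {X : Sp S} (a : X ⟶ c.pt) (i : I) {W : Sp S} (hW : IsAlgSpace W) (w : W ⟶ D.obj i) (b : X ⟶ W)
    (hb : b ≫ w = a ≫ c.π.app i)
    (hci : ∀ (P : AlgSp.Sp S) (fst : P ⟶ c.pt) (snd : P ⟶ W), IsPullback fst snd (c.π.app i) w →
      ∀ k : X ⟶ P, k ≫ fst = a → k ≫ snd = b → AlgSp.RepWith @IsClosedImmersion k)
    (DP : Over i ⥤ AlgSp.Sp S) (π₁ : DP ⟶ Over.forget i ⋙ D) (π₂ : DP ⟶ (Functor.const (Over i)).obj W)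
    (hDP : ∀ i' : Over i, IsPullback (π₁.app i') (π₂.app i') (D.map i'.hom) w)
    (DX : Over i ⥤ AlgSp.Sp S) (ε : DX ⟶ DP)
    (ξ : (Functor.const (Over i)).obj X ⟶ DX)
    (hξ : ∀ i' : Over i, ξ.app i' ≫ ε.app i' ≫ π₁.app i' = a ≫ c.π.app i'.left ∧ ξ.app i' ≫ ε.app i' ≫ π₂.app i' = b)
    (himg : ∀ i' : Over i, AlgSp.IsSchImage (ξ.app i' ≫ ε.app i') (ε.app i')) :
    Nonempty (IsLimit (Cone.mk X ξ)) := by
  have hDPalg : ∀ j, IsAlgSpace (DP.obj j) := fun j =>
    K613.Chart.isAlgSpace_of_isPullback (hD i).diag (hD j.left) hW (hDP j)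
  have hDPa : ∀ (j k : Over i) (φ : j ⟶ k), IsAffineMor (DP.map φ) := fun j k φ =>
    isAffineMor_of_isPullback (hDa _ _ φ.left) (isPullback_map hDP φ)
  have sqP : IsPullback (pullback.fst (c.π.app i) w) (pullback.snd (c.π.app i) w) (c.π.app i) w :=
    IsPullback.of_hasPullback _ _
  obtain ⟨hcP⟩ := isLimit_coneP hDP sqP hc
  have hPalg : IsAlgSpace (coneP hDP sqP).pt := K613.Chart.isAlgSpace_of_isPullback (hD i).diag hcpt hW sqP
  have hk : RepWith @IsClosedImmersion (sqP.lift a b hb.symm) :=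
    hci _ _ _ sqP _ (sqP.lift_fst _ _ _) (sqP.lift_snd _ _ _)
  have e : ∀ j, ξ.app j ≫ ε.app j = sqP.lift a b hb.symm ≫ (coneP hDP sqP).π.app j := by
    intro j
    apply (hDP j).hom_ext
    · rw [Category.assoc, Category.assoc, coneP_fst, ← Category.assoc _ (pullback.fst _ _), sqP.lift_fst, (hξ j).1]
    · rw [Category.assoc, Category.assoc, coneP_snd, sqP.lift_snd, (hξ j).2]
  exact isLimit_image hDPalg hDPa hcP hPalg _ hk ε ξ e (fun j => by rw [← e]; exact himg j)

end

end K605.LimImg
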