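import Groth.Agent.AlgSp.K605.DvrProper
import Groth.Agent.AlgSp.K637.RelChow

set_option autoImplicit false
set_option backward.isDefEq.respectTransparency false
universe u
open CategoryTheory CategoryTheory.Limits AlgebraicGeometry Opposite Topology
open AlgSp

namespace K605.DvrChow

theorem chow (S : Scheme.{u}) : K605.DvrProper.Chow S := by
  intro V X p hV _ hX hs hft
  obtain ⟨T, t, g, h1, h2, -, h3, h4⟩ := K637.RelChow.exists_relChow hV hX p hs hft
  exact ⟨T, t, g, h2, h3, h4, h1⟩

end K605.DvrChow
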