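import Groth.Prelude.Def_AlgSpMor5
import Groth.Agent.AlgSp.K603.DvrSch
import Groth.Agent.AlgSp.K600.Basic
import Groth.Agent.AlgSp.K609.QC
import Groth.Agent.AlgSp.K610.Base
import Groth.Agent.AlgSp.K597.Proper
import Mathlib.AlgebraicGeometry.ValuativeCriterion
import Mathlib.AlgebraicGeometry.Morphisms.Immersion

/-!
# Properness from discrete valuation ring lifts on a dense family of points, given a Chow cover
-/

set_option autoImplicit false
set_option backward.isDefEq.respectTransparency false
universe u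
open CategoryTheory CategoryTheory.Limits AlgebraicGeometry Opposite Topology
open AlgSp

namespace K605.DvrDense

variable {S : Scheme.{u}}

section pts

variable (A : Type u) [CommRing A] [IsDomain A] (str : Spec (.of A) ⟶ S)

/-- `Spec Frac A ⟶ Spec A` over `S`. -/
noncomputable abbrev gen : (Over.mk (Spec.map (CommRingCat.ofHom (algebraMap A (FractionRing A))) ≫ str) : Over S) ⟶
    Over.mk str := Over.homMk (Spec.map (CommRingCat.ofHom (algebraMap A (FractionRing A)))) rfl

end pts

/-- The valuative criterion for a representable proper morphism. -/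
theorem exists_lift_of_proper {X : Sp S} {T : Over S} {g : (yon S).obj T ⟶ X} (hg : RepWith @IsProper g)
    (A : Type u) [CommRing A] [IsDomain A] [ValuationRing A] (str : Spec (.of A) ⟶ S)
    (κ : (Over.mk (Spec.map (CommRingCat.ofHom (algebraMap A (FractionRing A))) ≫ str) : Over S) ⟶ T)
    (l : (yon S).obj (Over.mk str) ⟶ X) (h : (yon S).map κ ≫ g = (yon S).map (gen A str) ≫ l) :
    ∃ τ : Over.mk str ⟶ T, gen A str ≫ τ = κ ∧ (yon S).map τ ≫ g = l := by
  obtain ⟨E, e, fst, sq⟩ := hg.1 l
  obtain ⟨ε, rfl⟩ := (yon S).map_surjective fst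
  have he : IsProper e.left := hg.2 _ _ _ sq
  obtain ⟨m, hm, hm'⟩ := K600.Basic.exists_lift sq ((yon S).map κ) (gen A str) h
  rw [← Functor.map_comp] at hm
  have hm := (yon S).map_injective hm
  have hval : ValuativeCriterion e.left := by
    have h1 := he
    rw [IsProper.eq_valuativeCriterion] at h1
    exact h1.1.1.1
  let V : ValuativeCommSq e.left :=
    { R := A
      K := FractionRing A
      i₁ := m.left
      i₂ := 𝟙 _
      commSq := ⟨by
        rw [← Over.comp_left, hm', Category.comp_id]
        rfl⟩ }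
  obtain ⟨⟨σ, hσ₁, hσ₂⟩⟩ := (hval.existence V).exists_lift
  let σ' : Over.mk str ⟶ E := Over.homMk σ (by
    rw [← Over.w e, ← Category.assoc, hσ₂]
    exact Category.id_comp _)
  have h1 : gen A str ≫ σ' = m := by
    apply Over.OverMorphism.ext
    exact hσ₁
  have h2 : σ' ≫ e = 𝟙 _ := by
    apply Over.OverMorphism.ext
    exact hσ₂
  refine ⟨σ' ≫ ε, ?_, ?_⟩
  · rw [← Category.assoc, h1, hm]
  · rw [Functor.map_comp, Category.assoc, sq.w, ← Category.assoc, ← Functor.map_comp, h2, (yon S).map_id, Category.id_comp]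

/-- Uniqueness of lifts along separated morphisms of schemes over `S`. -/
theorem eq_of_separated {P V : Over S} (π : P ⟶ V) [IsSeparated π.left] (A : Type u) [CommRing A] [IsDomain A]
    [ValuationRing A] (str : Spec (.of A) ⟶ S) (a b : Over.mk str ⟶ P) (h : gen A str ≫ a = gen A str ≫ b)
    (h' : a ≫ π = b ≫ π) : a = b := by
  have hval : ValuativeCriterion.Uniqueness π.left := IsSeparated.valuativeCriterion π.left
  let V : ValuativeCommSq π.left :=
    { R := A
      K := FractionRing A
      i₁ := (gen A str ≫ a).left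
      i₂ := (a ≫ π).left
      commSq := ⟨by
        rw [← Over.comp_left, Category.assoc, Over.comp_left]
        rfl⟩ }
  have hV := hval V
  apply Over.OverMorphism.ext
  have h1 : (⟨a.left, rfl, rfl⟩ : V.commSq.LiftStruct) =
      (⟨b.left, by
        change (gen A str ≫ b).left = (gen A str ≫ a).left
        rw [h], by
        change (b ≫ π).left = (a ≫ π).left
        rw [h']⟩ : V.commSq.LiftStruct) := Subsingleton.elim _ _
  exact congrArg CommSq.LiftStruct.l h1

/-- The existence part of the valuative criterion on a dense family, for discrete valuation rings. -/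
def DvrLift {X H : Sp S} {V : Over S} (h : H ⟶ X) (p : X ⟶ (yon S).obj V) : Prop :=
  ∀ (A : Type u) [CommRing A] [IsDomain A] [IsDiscreteValuationRing A] (str : Spec (.of A) ⟶ S)
    (k : (yon S).obj (Over.mk (Spec.map (CommRingCat.ofHom (algebraMap A (FractionRing A))) ≫ str)) ⟶ H)
    (b : Over.mk str ⟶ V), k ≫ h ≫ p = (yon S).map (gen A str ≫ b) →
      ∃ l : (yon S).obj (Over.mk str) ⟶ X, (yon S).map (gen A str) ≫ l = k ≫ h ∧ l ≫ p = (yon S).map b

theorem closure_subset {X H : Sp S} {V T P W : Over S} (ι : T ⟶ P) (π : P ⟶ V) [IsSeparated π.left]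
    [IsLocallyNoetherian P.left] (g : (yon S).obj T ⟶ X) (hg : RepWith @IsProper g) (p : X ⟶ (yon S).obj V)
    (hgp : g ≫ p = (yon S).map (ι ≫ π)) (h : H ⟶ X) (ω : W ⟶ T) (w : (yon S).obj W ⟶ H)
    (hw : w ≫ h = (yon S).map ω ≫ g) [LocallyOfFiniteType (ω ≫ ι).left] [QuasiCompact (ω ≫ ι).left]
    (hval : DvrLift h p) :
    closure (Set.range (ω ≫ ι).left) ⊆ Set.range ι.left := by
  intro z hz
  obtain ⟨A, _, _, _, α, κ, hακ, hαz⟩ := K603.DvrSch.exists_dvr_of_mem_closure (ω ≫ ι).left z hz
  let str : Spec (.of A) ⟶ S := α ≫ P.hom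
  let α' : Over.mk str ⟶ P := Over.homMk α rfl
  let κ' : (Over.mk (Spec.map (CommRingCat.ofHom (algebraMap A (FractionRing A))) ≫ str) : Over S) ⟶ W :=
    Over.homMk κ (by
      have h1 : κ ≫ (ω ≫ ι).left ≫ P.hom =
          (Spec.map (CommRingCat.ofHom (algebraMap A (FractionRing A))) ≫ α) ≫ P.hom := by
        rw [← hακ, Category.assoc]
      rw [← Over.w (ω ≫ ι), h1]
      exact Category.assoc _ _ _)
  have hακ' : κ' ≫ ω ≫ ι = gen A str ≫ α' := by
    apply Over.OverMorphism.ext
    exact hακ
  obtain ⟨l, hl₁, hl₂⟩ := hval A str ((yon S).map κ' ≫ w) (α' ≫ π) (by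
    rw [Category.assoc, ← Category.assoc w, hw, Category.assoc, hgp, ← Functor.map_comp, ← Functor.map_comp,
      ← Category.assoc ω, ← Category.assoc κ', hακ', Category.assoc])
  obtain ⟨τ, hτ₁, hτ₂⟩ := exists_lift_of_proper hg A str (κ' ≫ ω) l (by
    rw [hl₁, Functor.map_comp, Category.assoc, Category.assoc, hw])
  have h1 : τ ≫ ι = α' := by
    refine eq_of_separated π A str _ _ ?_ ?_
    · exact ((Category.assoc _ _ _).symm.trans (congrArg (fun t => t ≫ ι) hτ₁)).trans
        ((Category.assoc _ _ _).trans hακ')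
    · apply (yon S).map_injective
      rw [Category.assoc, Functor.map_comp, ← hgp, ← Category.assoc, hτ₂, hl₂]
  refine ⟨τ.left (IsLocalRing.closedPoint A), ?_⟩
  rw [← hαz]
  change (τ ≫ ι).left _ = α'.left _
  rw [h1]

/-- A surjective immersion is universally closed. -/
theorem universallyClosed_of_isImmersion {X Y : Scheme.{u}} (f : X ⟶ Y) [IsImmersion f] [Surjective f] :
    UniversallyClosed f := by
  have key : ∀ {X Y : Scheme.{u}} (f : X ⟶ Y), IsImmersion f → Surjective f → IsClosedMap f := by
    intro X Y f h1 h2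
    have h3 : IsEmbedding f := f.isEmbedding
    exact (isHomeomorph_iff_isEmbedding_surjective.2 ⟨h3, h2.surj⟩).isClosedMap
  constructor
  intro X' Y' i₁ i₂ f' sq
  exact key f' (MorphismProperty.of_isPullback (P := @IsImmersion) sq.flip inferInstance)
    (MorphismProperty.of_isPullback (P := @Surjective) sq.flip inferInstance)

/-- Universal closedness from a Chow cover and lifts on a dense family. -/
theorem isUnivClosedMor_of_chow {X H : Sp S} (hX : IsAlgSpace X) (hH : IsAlgSpace H) {V T P : Over S}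
    [IsAffine V.left] [IsLocallyNoetherian V.left] (ι : T ⟶ P) (π : P ⟶ V) [IsImmersion ι.left] [QuasiCompact ι.left]
    [IsProper π.left] (g : (yon S).obj T ⟶ X) (hg : IsProperMor g) (hgs : IsSurjectiveMor g) (p : X ⟶ (yon S).obj V)
    (hgp : g ≫ p = (yon S).map (ι ≫ π)) (h : H ⟶ X) (hh : IsFiniteTypeMor h) (hd : Dense (Set.range (Points.map h)))
    (hval : DvrLift h p) : IsUnivClosedMor p := by
  have hgr : RepWith @IsProper g := (K597.Proper.isProperMor_iff_repWith hX (hX.representable_from_yon g)).1 hg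
  have hPln : IsLocallyNoetherian P.left := LocallyOfFiniteType.isLocallyNoetherian π.left
  have hTV : QuasiCompact (ι ≫ π).left := by
    rw [Over.comp_left]
    infer_instance
  have hTc : CompactSpace T.left := QuasiCompact.compactSpace_of_compactSpace (ι ≫ π).left
  have sqQ : IsPullback (pullback.fst h g) (pullback.snd h g) h g := IsPullback.of_hasPullback _ _
  have hQ : IsAlgSpace (pullback h g) := K613.Chart.isAlgSpace_pullback hH (IsAlgSpace.yon_obj T) hX h g
  have hsqc : IsQuasiCompactMor (pullback.snd h g) := K596.QC.isQuasiCompactMor_of_isPullback sqQ hh.2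
  have hslft : LocP @LocallyOfFiniteType (pullback.snd h g) := K597.locP_bc K597.etLoc_lft sqQ hH.hasAtlas hX.hasAtlas
    (IsAlgSpace.yon_obj T).hasAtlas hh.1
  have hQc : IsQuasiCompactSp (pullback h g) := hsqc (IsAlgSpace.yon_obj T) (K596.QC.isQuasiCompactSp_yon T) (𝟙 _) (𝟙 _)
    (pullback.snd h g) IsPullback.of_id_fst
  obtain ⟨W, q, hW, hq, hq'⟩ := K609.QC.exists_affine_chart hQc
  obtain ⟨ω, hω⟩ := (yon S).map_surjective (q ≫ pullback.snd h g)
  have hωlft : LocallyOfFiniteType ω.left := hslft q (𝟙 _) ω hq (repWith_id _ _) (by rw [Category.comp_id, hω])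
  have hwlft : LocallyOfFiniteType (ω ≫ ι).left := by
    rw [Over.comp_left]
    infer_instance
  have hPqs : QuasiSeparatedSpace P.left := quasiSeparatedSpace_of_quasiSeparated π.left
  have hwqc : QuasiCompact (ω ≫ ι).left := inferInstance
  have hcl := closure_subset ι π g hgr p hgp h ω (q ≫ pullback.fst h g) (by
    rw [hω, Category.assoc, Category.assoc, sqQ.w]) hval
  -- the reduced closed subscheme
  let C : TopologicalSpace.Closeds P.left := ⟨closure (Set.range (ω ≫ ι).left), isClosed_closure⟩
  let 𝓘 := Scheme.IdealSheafData.vanishingIdeal C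
  have hCr : Set.range 𝓘.subschemeι = closure (Set.range (ω ≫ ι).left) := by
    rw [Scheme.IdealSheafData.range_subschemeι, Scheme.IdealSheafData.coe_support_vanishingIdeal]
    rfl
  let Z : Over S := Over.mk (𝓘.subschemeι ≫ P.hom)
  let ζ : Z ⟶ P := Over.homMk 𝓘.subschemeι rfl
  have sqZ : IsPullback (pullback.fst ι ζ) (pullback.snd ι ζ) ι ζ := IsPullback.of_hasPullback _ _
  have sqZ' := sqZ.map (Over.forget S)
  have e1 : IsImmersion (pullback.snd ι ζ).left :=
    MorphismProperty.of_isPullback (P := @IsImmersion) sqZ' (inferInstanceAs (IsImmersion ι.left))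
  have hpt : ∀ (t : T.left) (z : Z.left), ι.left t = ζ.left z → ∃ y : (pullback ι ζ : Over S).left,
      (pullback.fst ι ζ).left y = t ∧ (pullback.snd ι ζ).left y = z := fun t z h => by
    refine K610.Base.exists_of_isPullback_charts (sqZ.map (yon S)) t z ?_
    rw [K609.Points.ofPt_yon_map, K609.Points.ofPt_yon_map, h]
  have e2 : Surjective (pullback.snd ι ζ).left := by
    constructor
    intro z
    obtain ⟨t, ht⟩ := hcl (show ζ.left z ∈ _ from by
      rw [← hCr]
      exact ⟨z, rfl⟩)
    obtain ⟨y, -, hy⟩ := hpt t z ht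
    exact ⟨y, hy⟩
  have e3 : UniversallyClosed (pullback.snd ι ζ).left := universallyClosed_of_isImmersion _
  have e4 : UniversallyClosed ζ.left := inferInstanceAs (UniversallyClosed 𝓘.subschemeι)
  have e5 : IsUnivClosedMor (((yon S).map (pullback.fst ι ζ) ≫ g) ≫ p) := by
    rw [Category.assoc, hgp, ← Functor.map_comp, ← Category.assoc, sqZ.w, Category.assoc]
    refine (K596.Univ.repWith_universallyClosed_iff ?_).1 ((repWith_yon_map_iff _ _).2 ?_)
    · exact (IsAlgSpace.yon_obj V).representable_from_yon _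
    · rw [Over.comp_left, Over.comp_left]
      infer_instance
  refine K596.SepSurj.isUnivClosedMor_of_precomp ?_ e5
  have hgc : IsClosedMap (Points.map g) := hg.2.2 hX (𝟙 _) (𝟙 _) g IsPullback.of_id_fst
  let B : Set (Points ((yon S).obj T)) := (Points.schemeHomeo T).symm ⁻¹' (ι.left ⁻¹' (C : Set P.left))
  have hB : IsClosed B := (C.2.preimage ι.left.continuous).preimage (Points.schemeHomeo T).symm.continuous
  have hD : IsClosed (Points.map g '' B) := hgc B hB
  have hDr : Set.range (Points.map h) ⊆ Points.map g '' B := by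
    rintro _ ⟨y, rfl⟩
    obtain ⟨τ, hτ⟩ := hgs (Points.map h y)
    obtain ⟨r, -, hr₂⟩ := K610.Base.exists_of_isPullback sqQ y τ hτ.symm
    obtain ⟨w₀, rfl⟩ := K610.Base.surjective_ofPt hq' r
    refine ⟨τ, ?_, hτ⟩
    have h1 : τ = Points.schemeHomeo T (ω.left w₀) := by
      rw [← hr₂, ← K610.Base.ofPt_comp, ← hω]
      exact K609.Points.ofPt_yon_map ω w₀
    change ι.left ((Points.schemeHomeo T).symm τ) ∈ closure _
    rw [h1, Homeomorph.symm_apply_apply]
    exact subset_closure ⟨w₀, rfl⟩
  have hDu : Points.map g '' B = Set.univ := by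
    rw [← Set.univ_subset_iff, ← hd.closure_eq]
    exact closure_minimal hDr hD
  intro x
  obtain ⟨τ, hτ, rfl⟩ := hDu.ge (Set.mem_univ x)
  obtain ⟨t, rfl⟩ := (Points.schemeHomeo T).surjective τ
  have ht : ι.left t ∈ closure (Set.range (ω ≫ ι).left) := by
    have := hτ
    change ι.left ((Points.schemeHomeo T).symm (Points.schemeHomeo T t)) ∈ closure _ at this
    rwa [Homeomorph.symm_apply_apply] at this
  rw [← hCr] at ht
  obtain ⟨z, hz⟩ := ht
  obtain ⟨y, hy, -⟩ := hpt t z hz.symm
  refine ⟨Points.ofScheme _ y, ?_⟩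
  rw [Points.map_comp, ← Points.ofPt_eq_map_ofScheme, K609.Points.ofPt_yon_map, hy]
  rfl

end K605.DvrDense
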