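import Groth.Agent.AlgSp.K605.DvrDense
import Groth.Agent.AlgSp.K605.Nhd
import Groth.Agent.AlgSp.K603.UnivClosedAux
import Groth.Agent.AlgSp.K596.SepSurj
import Groth.Agent.S9951
import Groth.Agent.S9900
import Groth.Agent.AlgSp.K595.DiagBasic
import Groth.Agent.AlgSp.K621.Charts
import Groth.Prelude.Def_RelProj
import Groth.Agent.Dix.ProjProper

/-!
# Proper morphisms and discrete valuation rings on a dense family (relative to Chow covers)
-/

set_option autoImplicit false
set_option backward.isDefEq.respectTransparency false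
universe u
open CategoryTheory CategoryTheory.Limits AlgebraicGeometry Opposite Topology
open AlgSp K605.DvrDense

namespace K605.DvrProper

variable {S : Scheme.{u}}

/-- Universal closedness is étale local on the target. -/
theorem isUnivClosedMor_of_local {X Y : Sp S} (hY : IsAlgSpace Y) (f : X ⟶ Y)
    (H : ∀ y : Points Y, ∃ (V : Over S) (b : (yon S).obj V ⟶ Y) (v : V.left), RepWith @Etale b ∧ Points.ofPt b v = y ∧
      IsUnivClosedMor (pullback.snd f b)) : IsUnivClosedMor f := by
  intro Z Z' hZ g fst snd sq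
  refine K603.UnivClosedAux.isClosedMap_of_charts snd fun z => ?_
  obtain ⟨V, b, v, hb, hv, hcl⟩ := H (Points.map g z)
  obtain ⟨T, a, α, t, -, ha, hat, -, hcomm⟩ := K605.Nhd.exists_affine_nhd_over hZ hY g hb z v hv.symm
  refine ⟨T, a, t, ha, hat, fun P' fst' snd' sq' => ?_⟩
  have sq1 : IsPullback (fst' ≫ fst) snd' f (a ≫ g) := sq'.paste_horiz sq
  rw [hcomm] at sq1
  have sqV : IsPullback (pullback.fst f b) (pullback.snd f b) f b := IsPullback.of_hasPullback _ _
  obtain ⟨c, -, hc⟩ := K596.QC.isPullback_lift_right sqV sq1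
  exact hcl (IsAlgSpace.yon_obj T) ((yon S).map α) c snd' hc

/-- Weak Chow lemma relative to `S`. -/
def Chow (S : Scheme.{u}) : Prop :=
  ∀ (V : Over S) (X : Sp S) (p : X ⟶ (yon S).obj V), IsAffine V.left → IsLocallyNoetherian V.left → IsAlgSpace X →
    IsSeparatedMor p → IsFiniteTypeMor p →
      ∃ (T : Over S) (t : T ⟶ V) (g : (yon S).obj T ⟶ X), RelProj.IsHQuasiProjective t.left ∧ IsProperMor g ∧
        IsSurjectiveMor g ∧ g ≫ p = (yon S).map t

/-- A chart version. -/
theorem isUnivClosedMor_of_chow_affine (hC : Chow S) {X H : Sp S} (hX : IsAlgSpace X) (hH : IsAlgSpace H) {V : Over S}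
    [IsAffine V.left] [IsLocallyNoetherian V.left] (p : X ⟶ (yon S).obj V) (hs : IsSeparatedMor p)
    (hft : IsFiniteTypeMor p) (h : H ⟶ X) (hh : IsFiniteTypeMor h) (hd : Dense (Set.range (Points.map h)))
    (hval : DvrLift h p) : IsUnivClosedMor p := by
  obtain ⟨T, t, g, ⟨n, i, hi1, hi2, hi3⟩, hg, hgs, hgp⟩ := hC V X p inferInstance inferInstance hX hs hft
  let P : Over S := Over.mk (CohB1.ProjSpaceOver.toBase n V.left ≫ V.hom)
  let ι : T ⟶ P := Over.homMk i (by
    change i ≫ CohB1.ProjSpaceOver.toBase n V.left ≫ V.hom = _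
    rw [← Category.assoc, hi3, Over.w])
  let π : P ⟶ V := Over.homMk (CohB1.ProjSpaceOver.toBase n V.left) rfl
  have hιπ : ι ≫ π = t := by
    apply Over.OverMorphism.ext
    exact hi3
  have : IsImmersion ι.left := hi1
  have : QuasiCompact ι.left := hi2
  have : IsProper π.left := by
    change IsProper (CohB1.ProjSpaceOver.toBase n V.left)
    infer_instance
  exact isUnivClosedMor_of_chow hX hH ι π g hg hgs p (by rw [hgp, hιπ]) h hh hd hval

theorem isProperMor_of_dvr (hC : Chow S) {U X Y : Sp S} (hU : IsAlgSpace U) (hX : IsAlgSpace X) (hY : IsAlgSpace Y)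
    (h : U ⟶ X) (f : X ⟶ Y) (hYn : IsLocNoethSp Y) (hfs : IsSeparatedMor f) (hft : IsFiniteTypeMor f)
    (hh : IsFiniteTypeMor h) (hd : Dense (Set.range (Points.map h)))
    (hval : ∀ sq : AlgSp.ValSq (h ≫ f), IsDiscreteValuationRing sq.A →
      ∃ l : (AlgSp.yon S).obj sq.ptA ⟶ X, (AlgSp.yon S).map sq.j ≫ l = sq.top ≫ h ∧ l ≫ f = sq.bot) :
    IsProperMor f := by
  refine ⟨hfs, hft, isUnivClosedMor_of_local hY f fun y => ?_⟩
  obtain ⟨V, b, v, hV, hb, hv⟩ := K605.Nhd.exists_affine_nhd hY y
  refine ⟨V, b, v, hb, hv, ?_⟩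
  have hVn : IsLocallyNoetherian V.left := K621.Charts.isLocallyNoetherian_chart hYn hb
  have sqV : IsPullback (pullback.fst f b) (pullback.snd f b) f b := IsPullback.of_hasPullback _ _
  have hXV : IsAlgSpace (pullback f b) := K613.Chart.isAlgSpace_pullback hX (IsAlgSpace.yon_obj V) hY f b
  have sqU : IsPullback (pullback.fst h (pullback.fst f b)) (pullback.snd h (pullback.fst f b)) h (pullback.fst f b) :=
    IsPullback.of_hasPullback _ _
  have hUV : IsAlgSpace (pullback h (pullback.fst f b)) := K613.Chart.isAlgSpace_pullback hU hXV hX _ _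
  refine isUnivClosedMor_of_chow_affine hC hXV hUV (pullback.snd f b)
    (K613.Diag.repWith_diagonal_of_isPullback hfs sqV)
    ⟨K597.locP_bc K597.etLoc_lft sqV hX.hasAtlas hY.hasAtlas (IsAlgSpace.yon_obj V).hasAtlas hft.1,
      K596.QC.isQuasiCompactMor_of_isPullback sqV hft.2⟩ (pullback.snd h (pullback.fst f b))
    ⟨K597.locP_bc K597.etLoc_lft sqU hU.hasAtlas hX.hasAtlas hXV.hasAtlas hh.1,
      K596.QC.isQuasiCompactMor_of_isPullback sqU hh.2⟩ ?_ ?_
  · have hfst : RepWith @Etale (pullback.fst f b) := MorphismProperty.of_isPullback (P := RepWith @Etale) sqV.flip hb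
    have hop : IsOpenMap (Points.map (pullback.fst f b)) :=
      K609.Points.isOpenMap_map (K609.Points.repWith_universallyOpen_of_etale hfst)
    refine (hd.preimage hop).mono ?_
    rintro x ⟨u, hu⟩
    obtain ⟨r, -, hr⟩ := K610.Base.exists_of_isPullback sqU u x hu
    exact ⟨r, hr⟩
  · intro A _ _ _ str k b' hk
    let sq : ValSq (h ≫ f) :=
      { A := A
        K := FractionRing A
        str := str
        top := k ≫ pullback.fst h (pullback.fst f b)
        bot := (yon S).map b' ≫ b
        comm := by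
          rw [Category.assoc, ← Category.assoc _ h, sqU.w, Category.assoc, sqV.w]
          rw [← Category.assoc (pullback.snd h _), ← Category.assoc k, hk, Functor.map_comp, Category.assoc] }
    obtain ⟨l, hl₁, hl₂⟩ := hval sq inferInstance
    have hl₁' : (yon S).map (gen A str) ≫ l = (k ≫ pullback.fst h (pullback.fst f b)) ≫ h := hl₁
    refine ⟨sqV.lift l ((yon S).map b') hl₂, ?_, sqV.lift_snd _ _ _⟩
    apply sqV.hom_ext
    · rw [Category.assoc, sqV.lift_fst, hl₁', Category.assoc, Category.assoc, sqU.w]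
    · rw [Category.assoc, sqV.lift_snd, Category.assoc, hk, Functor.map_comp]

theorem isSeparatedMor_of_dvr (hC : Chow S) {U X Y : Space S}
    (h : U ⟶ X) (f : X ⟶ Y) (hYn : IsLocNoethSp Y.obj) (hft : LocP @LocallyOfFiniteType f.hom)
    (hfqs : IsQuasiSeparatedMor f.hom)
    (hh : IsFiniteTypeMor h.hom) (hd : Dense (Set.range (Points.map h.hom)))
    (hval : ∀ sq : AlgSp.ValSq (h.hom ≫ f.hom), IsDiscreteValuationRing sq.A →
      ∀ l l' : (AlgSp.yon S).obj sq.ptA ⟶ X.obj, (AlgSp.yon S).map sq.j ≫ l = sq.top ≫ h.hom ∧ l ≫ f.hom = sq.bot →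
        (AlgSp.yon S).map sq.j ≫ l' = sq.top ≫ h.hom ∧ l' ≫ f.hom = sq.bot → l = l') :
    IsSeparatedMor f.hom := by
  rw [K596.SepSurj.isSeparatedMor_iff_isUnivClosedMor]
  have hXX : IsAlgSpace (pullback f.hom f.hom) := K613.Chart.isAlgSpace_pullback X.property X.property Y.property _ _
  let XX : Space S := ⟨pullback f.hom f.hom, hXX⟩
  let Δ : X ⟶ XX := ObjectProperty.homMk (pullback.diagonal f.hom)
  have sq0 : IsPullback (pullback.fst f.hom f.hom) (pullback.snd f.hom f.hom) f.hom f.hom := IsPullback.of_hasPullback _ _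
  have hXn : IsLocNoethSp X.obj := Groth.Agent.S9951.result f hft hYn
  have hsnd : LocP @LocallyOfFiniteType (pullback.snd f.hom f.hom) := K597.locP_bc K597.etLoc_lft sq0 X.property.hasAtlas
    Y.property.hasAtlas X.property.hasAtlas hft
  have hXXn : IsLocNoethSp (pullback f.hom f.hom) :=
    Groth.Agent.S9951.result (X := XX) (Y := X) (ObjectProperty.homMk (pullback.snd f.hom f.hom)) hsnd hXn
  have hΔ := Groth.Agent.S9900.result f
  have hsepΔ : IsSeparatedMor (pullback.diagonal f.hom) :=
    (K595.DiagBasic.isSeparatedMor_iff_repWith hΔ.1).2 hΔ.2.2.2.1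
  have hftΔ : IsFiniteTypeMor (pullback.diagonal f.hom) :=
    ⟨K597.locP_of_repWith (fun _ _ _ e f he hf => by
      have := he
      have := hf
      infer_instance) hΔ.2.1, (K596.QC.repWith_quasiCompact_iff hfqs.1).1 hfqs⟩
  refine (isProperMor_of_dvr hC U.property X.property hXX h.hom (pullback.diagonal f.hom) hXXn hsepΔ hftΔ hh hd ?_).2.2
  intro sq hA
  let sq' : ValSq (h.hom ≫ f.hom) :=
    { A := sq.A
      K := sq.K
      str := sq.str
      top := sq.top
      bot := sq.bot ≫ pullback.fst _ _ ≫ f.hom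
      comm := by
        have h1 := congrArg (fun t => t ≫ pullback.fst _ _ ≫ f.hom) sq.comm
        simpa using h1 }
  have e1 : (yon S).map sq.j ≫ sq.bot ≫ pullback.fst _ _ = sq.top ≫ h.hom := by
    rw [← Category.assoc, ← sq.comm, Category.assoc, Category.assoc, pullback.diagonal_fst, Category.comp_id]
  have e2 : (yon S).map sq.j ≫ sq.bot ≫ pullback.snd _ _ = sq.top ≫ h.hom := by
    rw [← Category.assoc, ← sq.comm, Category.assoc, Category.assoc, pullback.diagonal_snd, Category.comp_id]
  have e3 := hval sq' hA (sq.bot ≫ pullback.fst _ _) (sq.bot ≫ pullback.snd _ _) ⟨e1, Category.assoc _ _ _⟩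
    ⟨e2, by
      change (sq.bot ≫ pullback.snd _ _) ≫ f.hom = sq.bot ≫ pullback.fst _ _ ≫ f.hom
      rw [Category.assoc, ← pullback.condition]⟩
  refine ⟨sq.bot ≫ pullback.fst _ _, e1, ?_⟩
  apply pullback.hom_ext
  · rw [Category.assoc, pullback.diagonal_fst, Category.comp_id]
  · rw [Category.assoc, pullback.diagonal_snd, Category.comp_id, e3]

end K605.DvrProper
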