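import Groth.Agent.AlgSp.K643.ModHom
import Groth.Agent.AlgSp.K646.ModSec

/-!
# Sheaves of modules with a generator over a covering object

`IsGen M e`: `t ↦ t • e|_E` is bijective for every `E ⟶ W` (`e : M(W)`).  If `W` covers the top and `e` generates `M`
over `W`, then `Hom(M, N)` is the set of the `m : N(W)` which satisfy the relations of `e` (`exists_hom`, `hom_ext_gen`).
-/

set_option autoImplicit false
set_option backward.isDefEq.respectTransparency false

universe w v u

open CategoryTheory CategoryTheory.Limits Opposite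

namespace K605.Gen

open K646.ModSec K643.ModHom

variable {C : Type u} [Category.{v} C] {J : GrothendieckTopology C} {R : Sheaf J RingCat.{w}}

theorem res_smul (M : SheafOfModules.{w} R) {U V : C} (g : V ⟶ U) (r : R.obj.obj (op U)) (s : sec M U) :
    res M g (r • s) = (R.obj.map g.op).hom r • res M g s :=
  PresheafOfModules.map_smul M.val g.op r s

theorem app_smul {M N : SheafOfModules.{w} R} (f : M ⟶ N) (U : C) (r : R.obj.obj (op U)) (s : sec M U) :
    app f U (r • s) = r • app f U s :=
  (f.val.app (op U)).hom.map_smul r s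

/-- `e` is a basis of `M` over `W`. -/
def IsGen (M : SheafOfModules.{w} R) {W : C} (e : sec M W) : Prop :=
  ∀ ⦃E : C⦄ (a : E ⟶ W), Function.Bijective (fun t : R.obj.obj (op E) => t • res M a e)

variable {M N : SheafOfModules.{w} R} {W : C} {e : sec M W}

theorem IsGen.res (he : IsGen M e) {V : C} (g : V ⟶ W) : IsGen M (res M g e) := by
  intro E a
  rw [← res_comp]
  exact he (a ≫ g)

/-- The coefficient of a section. -/
noncomputable def coef (he : IsGen M e) {E : C} (a : E ⟶ W) (x : sec M E) : R.obj.obj (op E) :=
  ((he a).2 x).choose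

theorem coef_smul (he : IsGen M e) {E : C} (a : E ⟶ W) (x : sec M E) : coef he a x • res M a e = x :=
  ((he a).2 x).choose_spec

theorem coef_eq (he : IsGen M e) {E : C} (a : E ⟶ W) (x : sec M E) (t : R.obj.obj (op E))
    (h : t • res M a e = x) : coef he a x = t :=
  (he a).1 ((coef_smul he a x).trans h.symm)

theorem coef_add (he : IsGen M e) {E : C} (a : E ⟶ W) (x y : sec M E) :
    coef he a (x + y) = coef he a x + coef he a y := by
  refine coef_eq he a _ _ ?_
  rw [add_smul, coef_smul, coef_smul]

theorem coef_zero (he : IsGen M e) {E : C} (a : E ⟶ W) : coef he a (0 : sec M E) = 0 :=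
  coef_eq he a _ _ (zero_smul _ _)

theorem coef_smul' (he : IsGen M e) {E : C} (a : E ⟶ W) (r : R.obj.obj (op E)) (x : sec M E) :
    coef he a (r • x) = r * coef he a x := by
  refine coef_eq he a _ _ ?_
  rw [mul_smul, coef_smul]

theorem coef_res (he : IsGen M e) {E E' : C} (a : E ⟶ W) (g : E' ⟶ E) (x : sec M E) :
    coef he (g ≫ a) (res M g x) = (R.obj.map g.op).hom (coef he a x) := by
  refine coef_eq he _ _ _ ?_
  rw [res_comp, ← res_smul, coef_smul]

/-- The local homomorphism sending a generator to a given section. -/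
noncomputable def homOver (he : IsGen M e) (m : sec N W) : M.over W ⟶ N.over W :=
  ofPH
    { app := fun Y => AddCommGrpCat.ofHom (AddMonoidHom.mk' (fun x : sec M Y.unop.left => coef he Y.unop.hom x • res N Y.unop.hom m) (fun x y => by
        rw [coef_add, add_smul]))
      naturality := fun Y Z f => by
        apply AddCommGrpCat.hom_ext
        apply AddMonoidHom.ext
        intro x
        have hw : Z.unop.hom = f.unop.left ≫ Y.unop.hom := (Over.w f.unop).symm
        change coef he Z.unop.hom (res M f.unop.left x) • res N Z.unop.hom m =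
          res N f.unop.left (coef he Y.unop.hom x • res N Y.unop.hom m)
        rw [res_smul, ← coef_res, ← res_comp]
        congr 1
        · congr 1
        · rw [hw] }
    (fun Z f r x => by
      change coef he f (r • x) • res N f m = r • (coef he f x • res N f m)
      rw [coef_smul', mul_smul])

theorem homOver_app (he : IsGen M e) (m : sec N W) {E : C} (a : E ⟶ W) (x : sec M E) :
    ((homOver he m).val.app (op (Over.mk a)) x : sec N E) = coef he a x • res N a m := rfl

section cover

variable [J.HasSheafCompose (CategoryTheory.forget AddCommGrpCat.{w})] (hW : J.CoversTop (fun _ : PUnit.{1} => W))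

/-- The relations satisfied by `e` are satisfied by `m`. -/
def Rel (M N : SheafOfModules.{w} R) {W : C} (e : sec M W) (m : sec N W) : Prop :=
  ∀ (E : C) (a b : E ⟶ W) (r : R.obj.obj (op E)), res M b e = r • res M a e → res N b m = r • res N a m

omit [J.HasSheafCompose (CategoryTheory.forget AddCommGrpCat.{w})] in
theorem rel_app (φ : M ⟶ N) : Rel M N e (app φ W e) := by
  intro E a b r h
  rw [← app_res, ← app_res, h, app_smul]

include hW in
theorem hom_ext_gen (he : IsGen M e) {φ ψ : M ⟶ N} (h : app φ W e = app ψ W e) : φ = ψ := by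
  refine hom_ext_over hW _ _ fun _ => over_hom_ext fun {Z} f x => ?_
  change app φ Z x = app ψ Z x
  rw [← coef_smul he f x, app_smul, app_smul, app_res, app_res, h]

include hW in
theorem exists_hom (he : IsGen M e) (m : sec N W) (hm : Rel M N e m) : ∃ φ : M ⟶ N, app φ W e = m := by
  obtain ⟨φ, hφ⟩ := glue hW (fun _ => homOver he m) (fun Z _ _ f g x => by
    rw [homOver_app, homOver_app]
    obtain ⟨r, hr⟩ := (he f).2 (res M g e)
    rw [hm Z f g r hr.symm, ← mul_smul]
    congr 1
    refine coef_eq he _ _ _ ?_
    rw [mul_smul]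
    change _ • (fun t => t • res M f e) r = x
    rw [hr, coef_smul])
  refine ⟨φ, ?_⟩
  have h1 : app φ W e = ((φ.over W).val.app (op (Over.mk (𝟙 W))) e : sec N W) := rfl
  rw [h1, hφ PUnit.unit, homOver_app, coef_eq he (𝟙 W) e 1 (by rw [one_smul, res_id]), one_smul, res_id]

include hW in
theorem exists_iso (he : IsGen M e) {m : sec N W} (hm : IsGen N m) (h1 : Rel M N e m) (h2 : Rel N M m e) :
    ∃ φ : M ≅ N, app φ.hom W e = m := by
  obtain ⟨φ, hφ⟩ := exists_hom hW he m h1
  obtain ⟨ψ, hψ⟩ := exists_hom hW hm e h2
  refine ⟨⟨φ, ψ, hom_ext_gen hW he ?_, hom_ext_gen hW hm ?_⟩, hφ⟩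
  · rw [app_comp, hφ, hψ, app_id]
  · rw [app_comp, hψ, hφ, app_id]

end cover

/-- A generator trivializes the restriction to the slice. -/
theorem nonempty_over_iso (he : IsGen M e) {m : sec N W} (hm : IsGen N m) : Nonempty (M.over W ≅ N.over W) := by
  refine ⟨⟨homOver he m, homOver hm e, over_hom_ext fun {Z} f x => ?_, over_hom_ext fun {Z} f x => ?_⟩⟩
  · change ((homOver hm e).val.app (op (Over.mk f)) ((homOver he m).val.app (op (Over.mk f)) x) : sec M Z) = x
    rw [homOver_app, homOver_app, coef_eq hm f _ _ rfl, coef_smul]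
  · change ((homOver he m).val.app (op (Over.mk f)) ((homOver hm e).val.app (op (Over.mk f)) x) : sec N Z) = x
    rw [homOver_app, homOver_app, coef_eq he f _ _ rfl, coef_smul]

/-- The unit section. -/
noncomputable def one (R : Sheaf J RingCat.{w}) (W : C) : sec (SheafOfModules.unit R) W := (1 : R.obj.obj (op W))

theorem isGen_one : IsGen (SheafOfModules.unit R) (one R W) := by
  intro E a
  have h1 : res (SheafOfModules.unit R) a (one R W) = (1 : R.obj.obj (op E)) := map_one (R.obj.map a.op).hom
  rw [h1]
  have h2 : (fun t : R.obj.obj (op E) => t • (show sec (SheafOfModules.unit R) E from (1 : R.obj.obj (op E)))) = id := by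
    funext t
    exact mul_one t
  exact h2 ▸ Function.bijective_id

theorem exists_gen_of_iso (i : M.over W ≅ (SheafOfModules.unit R).over W) : ∃ e : sec M W, IsGen M e := by
  let f : ∀ (Y : Over W), ((SheafOfModules.unit R).over W).val.obj (op Y) → (M.over W).val.obj (op Y) :=
    fun Y => i.inv.val.app (op Y)
  let g : ∀ (Y : Over W), (M.over W).val.obj (op Y) → ((SheafOfModules.unit R).over W).val.obj (op Y) :=
    fun Y => i.hom.val.app (op Y)
  have hfg : ∀ (Y : Over W) x, f Y (g Y x) = x := fun Y x => by
    have h := congrArg (fun t => t.val.app (op Y) x) i.hom_inv_id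
    exact h
  have hgf : ∀ (Y : Over W) x, g Y (f Y x) = x := fun Y x => by
    have h := congrArg (fun t => t.val.app (op Y) x) i.inv_hom_id
    exact h
  have hbij : ∀ (Y : Over W), Function.Bijective (f Y) := fun Y =>
    ⟨Function.LeftInverse.injective (hgf Y), Function.RightInverse.surjective (hfg Y)⟩
  refine ⟨f (Over.mk (𝟙 W)) (1 : R.obj.obj (op W)), fun E a => ?_⟩
  have h1 : res M a (f (Over.mk (𝟙 W)) (1 : R.obj.obj (op W))) = f (Over.mk a) (1 : R.obj.obj (op E)) := by
    have h2 := PresheafOfModules.naturality_apply i.inv.val (Over.homMk a : Over.mk a ⟶ Over.mk (𝟙 W)).op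
      (1 : R.obj.obj (op W))
    have h3 : ((SheafOfModules.unit R).over W).val.map (Over.homMk a : Over.mk a ⟶ Over.mk (𝟙 W)).op
      (1 : R.obj.obj (op W)) = (1 : R.obj.obj (op E)) := map_one (R.obj.map a.op).hom
    rw [h3] at h2
    exact h2.symm
  rw [h1]
  have h4 : (fun t : R.obj.obj (op E) => (t • (show sec M E from f (Over.mk a) (1 : R.obj.obj (op E))) : sec M E)) =
      f (Over.mk a) := by
    funext t
    have h5 : f (Over.mk a) ((show R.obj.obj (op E) from t) • (show ((SheafOfModules.unit R).over W).val.obj (op (Over.mk a)) from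
      (1 : R.obj.obj (op E)))) = t • f (Over.mk a) (1 : R.obj.obj (op E)) :=
      (i.inv.val.app (op (Over.mk a))).hom.map_smul t _
    refine h5.symm.trans ?_
    congr 1
    exact mul_one t
  rw [h4]
  exact hbij _

end K605.Gen
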