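import Groth.Agent.AlgSp.K605.Gen

/-!
# The sheaf of modules attached to a cocycle

`Coc R W`: elements `g a b : R(E)` for `a b : E ⟶ W`, natural in `E`, with `g a b * g b c = g a c` and `g a a = 1`.
`Coc.mod c` is a sheaf of modules with a section `Coc.gen c` over `W` which is a basis over `W` (`isGen`) and satisfies
`b^* gen = g b a • a^* gen` (`res_gen`).
-/

set_option autoImplicit false
set_option backward.isDefEq.respectTransparency false

universe v u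

open CategoryTheory CategoryTheory.Limits Opposite

namespace K605.GenCoc

open K646.ModSec K643.ModHom K605.Gen

variable {C : Type u} [Category.{v} C] {J : GrothendieckTopology C}

/-- A cocycle on the covering object `W`. -/
structure Coc (R : Sheaf J RingCat.{max u v}) (W : C) where
  /-- the values -/
  g : ∀ {E : C} (_ _ : E ⟶ W), R.obj.obj (op E)
  nat : ∀ {E E' : C} (k : E' ⟶ E) (a b : E ⟶ W), (R.obj.map k.op).hom (g a b) = g (k ≫ a) (k ≫ b)
  one : ∀ {E : C} (a : E ⟶ W), g a a = 1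
  mul : ∀ {E : C} (a b d : E ⟶ W), g a b * g b d = g a d

/-- Index type of the local data of a section over `E`. -/
structure Idx (W E : C) where
  /-- the source -/
  src : C
  /-- the map to `E` -/
  toE : src ⟶ E
  /-- the map to `W` -/
  toW : src ⟶ W

variable {R : Sheaf J RingCat.{max u v}} {W : C} (c : Coc R W)

/-- Restriction of functions. -/
noncomputable abbrev rr (R : Sheaf J RingCat.{max u v}) {E E' : C} (k : E' ⟶ E) : R.obj.obj (op E) →+* R.obj.obj (op E') :=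
  (R.obj.map k.op).hom

theorem rr_comp {E E' E'' : C} (k : E' ⟶ E) (l : E'' ⟶ E') (x : R.obj.obj (op E)) :
    rr R (l ≫ k) x = rr R l (rr R k x) := by
  change (R.obj.map (l ≫ k).op).hom x = _
  rw [op_comp, Functor.map_comp]
  rfl

theorem rr_id {E : C} (x : R.obj.obj (op E)) : rr R (𝟙 E) x = x := by
  change (R.obj.map (𝟙 E).op).hom x = _
  rw [op_id, CategoryTheory.Functor.map_id]
  rfl

/-- Sections over `E` of the twisted module. -/
def Sec (E : C) : AddSubgroup (∀ p : Idx W E, R.obj.obj (op p.src)) where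
  carrier := {s | (∀ (E' E'' : C) (k : E'' ⟶ E') (φ : E' ⟶ E) (a : E' ⟶ W),
      rr R k (s ⟨E', φ, a⟩) = s ⟨E'', k ≫ φ, k ≫ a⟩) ∧
    ∀ (E' : C) (φ : E' ⟶ E) (a b : E' ⟶ W), s ⟨E', φ, a⟩ * c.g a b = s ⟨E', φ, b⟩}
  add_mem' := by
    rintro s t ⟨h1, h2⟩ ⟨h3, h4⟩
    refine ⟨fun E' E'' k φ a => ?_, fun E' φ a b => ?_⟩
    · change rr R k (s ⟨E', φ, a⟩ + t ⟨E', φ, a⟩) = s ⟨E'', k ≫ φ, k ≫ a⟩ + t ⟨E'', k ≫ φ, k ≫ a⟩
      rw [map_add, h1, h3]
    · change (s ⟨E', φ, a⟩ + t ⟨E', φ, a⟩) * c.g a b = s ⟨E', φ, b⟩ + t ⟨E', φ, b⟩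
      rw [add_mul, h2, h4]
  zero_mem' := by
    refine ⟨fun E' E'' k φ a => map_zero _, fun E' φ a b => zero_mul _⟩
  neg_mem' := by
    rintro s ⟨h1, h2⟩
    refine ⟨fun E' E'' k φ a => ?_, fun E' φ a b => ?_⟩
    · change rr R k (- s ⟨E', φ, a⟩) = - s ⟨E'', k ≫ φ, k ≫ a⟩
      rw [map_neg, h1]
    · change (- s ⟨E', φ, a⟩) * c.g a b = - s ⟨E', φ, b⟩
      rw [neg_mul, h2]

variable {c} in
theorem val_congr {E A : C} (s : Sec c E) {φ φ' : A ⟶ E} {a a' : A ⟶ W} (h1 : φ = φ') (h2 : a = a') :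
    s.1 ⟨A, φ, a⟩ = s.1 ⟨A, φ', a'⟩ := by
  subst h1 h2
  rfl

variable {c} in
@[ext]
theorem sec_ext {E : C} {s t : Sec c E} (h : ∀ p, s.1 p = t.1 p) : s = t := Subtype.ext (funext h)

noncomputable instance (E : C) : SMul (R.obj.obj (op E)) (Sec c E) where
  smul r s := ⟨fun p => rr R p.toE r * s.1 p, fun E' E'' k φ a => by
      change rr R k (rr R φ r * s.1 ⟨E', φ, a⟩) = rr R (k ≫ φ) r * s.1 ⟨E'', k ≫ φ, k ≫ a⟩
      rw [map_mul, s.2.1, rr_comp], fun E' φ a b => by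
      change rr R φ r * s.1 ⟨E', φ, a⟩ * c.g a b = rr R φ r * s.1 ⟨E', φ, b⟩
      rw [mul_assoc, s.2.2]⟩

theorem smul_val {E : C} (r : R.obj.obj (op E)) (s : Sec c E) (p : Idx W E) :
    (r • s).1 p = rr R p.toE r * s.1 p := rfl

noncomputable instance (E : C) : Module (R.obj.obj (op E)) (Sec c E) where
  one_smul s := sec_ext fun p => by rw [smul_val, map_one, one_mul]
  mul_smul r r' s := sec_ext fun p => by rw [smul_val, smul_val, smul_val, map_mul, mul_assoc]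
  smul_zero r := sec_ext fun p => by
    rw [smul_val]
    exact mul_zero _
  smul_add r s t := sec_ext fun p => by
    rw [smul_val]
    exact mul_add _ _ _
  add_smul r r' s := sec_ext fun p => by
    rw [smul_val, map_add, add_mul]
    rfl
  zero_smul s := sec_ext fun p => by
    rw [smul_val, map_zero, zero_mul]
    rfl

/-- Restriction of sections. -/
noncomputable def resSec {E E' : C} (f : E' ⟶ E) : Sec c E →+ Sec c E' where
  toFun s := ⟨fun p => s.1 ⟨p.src, p.toE ≫ f, p.toW⟩, fun A B k φ a => by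
      change rr R k (s.1 ⟨A, φ ≫ f, a⟩) = s.1 ⟨B, (k ≫ φ) ≫ f, k ≫ a⟩
      rw [s.2.1]
      exact val_congr s (Category.assoc _ _ _).symm rfl, fun A φ a b => s.2.2 _ _ _ _⟩
  map_zero' := rfl
  map_add' _ _ := rfl

theorem resSec_val {E E' : C} (f : E' ⟶ E) (s : Sec c E) (p : Idx W E') :
    (resSec c f s).1 p = s.1 ⟨p.src, p.toE ≫ f, p.toW⟩ := rfl

/-- The presheaf of abelian groups. -/
noncomputable def psh : Cᵒᵖ ⥤ AddCommGrpCat.{max u v} where
  obj E := AddCommGrpCat.of (Sec c E.unop)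
  map f := AddCommGrpCat.ofHom (resSec c f.unop)
  map_id E := by
    apply AddCommGrpCat.hom_ext
    apply AddMonoidHom.ext
    intro s
    refine sec_ext fun p => ?_
    change s.1 ⟨p.src, p.toE ≫ 𝟙 _, p.toW⟩ = s.1 p
    rw [Category.comp_id]
  map_comp f g := by
    apply AddCommGrpCat.hom_ext
    apply AddMonoidHom.ext
    intro s
    refine sec_ext fun p => ?_
    change s.1 ⟨p.src, p.toE ≫ (g.unop ≫ f.unop), p.toW⟩ = s.1 ⟨p.src, (p.toE ≫ g.unop) ≫ f.unop, p.toW⟩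
    rw [Category.assoc]

noncomputable instance (E : Cᵒᵖ) : Module (R.obj.obj E) ((psh c).obj E) :=
  inferInstanceAs (Module (R.obj.obj (op E.unop)) (Sec c E.unop))

/-- The presheaf of modules. -/
noncomputable def pmod : PresheafOfModules.{max u v} R.obj :=
  PresheafOfModules.ofPresheaf (psh c) (fun X Y f r m => by
    refine sec_ext fun p => ?_
    change rr R (p.toE ≫ f.unop) r * m.1 ⟨p.src, p.toE ≫ f.unop, p.toW⟩ =
      rr R p.toE (rr R f.unop r) * m.1 ⟨p.src, p.toE ≫ f.unop, p.toW⟩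
    rw [rr_comp])

section sheaf

variable [J.HasSheafCompose (CategoryTheory.forget RingCat.{max u v})]

theorem isSheaf_ring : Presieve.IsSheaf J (R.obj ⋙ CategoryTheory.forget RingCat.{max u v}) :=
  (isSheaf_iff_isSheaf_of_type _ _).1 ((sheafCompose J (CategoryTheory.forget RingCat.{max u v})).obj R).property

theorem rr_ext {E : C} {T : Sieve E} (hT : T ∈ J E) (x y : R.obj.obj (op E))
    (h : ∀ (E' : C) (k : E' ⟶ E), T k → rr R k x = rr R k y) : x = y :=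
  ((isSheaf_ring (R := R)) T hT).isSeparatedFor.ext fun E' k hk => h E' k hk

theorem exists_amalg {E : C} {T : Sieve E} (hT : T ∈ J E) (x : ∀ (E' : C) (k : E' ⟶ E), T k → R.obj.obj (op E'))
    (hx : ∀ (E' E'' : C) (k : E' ⟶ E) (l : E'' ⟶ E') (hk : T k), rr R l (x E' k hk) = x E'' (l ≫ k) (T.downward_closed hk l)) :
    ∃ y : R.obj.obj (op E), ∀ (E' : C) (k : E' ⟶ E) (hk : T k), rr R k y = x E' k hk := by
  obtain ⟨y, hy, -⟩ := (isSheaf_ring (R := R)) T hT (fun E' k hk => x E' k hk) (by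
    rw [Presieve.compatible_iff_sieveCompatible]
    intro E' E'' k l hk
    exact (hx E' E'' k l hk).symm)
  exact ⟨y, fun E' k hk => hy k hk⟩

theorem isSheaf_psh : Presheaf.IsSheaf J (psh c) := by
  rw [Presheaf.isSheaf_iff_isSheaf_forget J _ (CategoryTheory.forget AddCommGrpCat.{max u v}),
    isSheaf_iff_isSheaf_of_type]
  intro X T hT x hx
  rw [Presieve.compatible_iff_sieveCompatible] at hx
  have hx' : ∀ {Y Z : C} (f : Y ⟶ X) (g : Z ⟶ Y) (hf : T f) (p : Idx W Z),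
      (x (g ≫ f) (T.downward_closed hf g) : Sec c Z).1 p = (x f hf : Sec c Y).1 ⟨p.src, p.toE ≫ g, p.toW⟩ :=
    fun f g hf p => congrArg (fun s : Sec c _ => s.1 p) (hx f g hf)
  have key : ∀ p : Idx W X, ∃ y : R.obj.obj (op p.src), ∀ (E : C) (k : E ⟶ p.src) (hk : T (k ≫ p.toE)),
      rr R k y = (x (k ≫ p.toE) hk : Sec c E).1 ⟨E, 𝟙 E, k ≫ p.toW⟩ := by
    intro p
    refine exists_amalg (J.pullback_stable p.toE hT)
      (fun E k hk => (x (k ≫ p.toE) hk : Sec c E).1 ⟨E, 𝟙 E, k ≫ p.toW⟩) fun E E' k l hk => ?_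
    have h1 := (x (k ≫ p.toE) hk : Sec c E).2.1 E E' l (𝟙 E) (k ≫ p.toW)
    refine h1.trans ?_
    have h2 := hx' (k ≫ p.toE) l hk ⟨E', 𝟙 E', (l ≫ k) ≫ p.toW⟩
    have h3 : ∀ (q : E' ⟶ X) (hq : T q) (_ : q = l ≫ k ≫ p.toE), (x q hq : Sec c E').1 ⟨E', 𝟙 E', (l ≫ k) ≫ p.toW⟩ =
        (x (l ≫ k ≫ p.toE) (T.downward_closed hk l) : Sec c E').1 ⟨E', 𝟙 E', (l ≫ k) ≫ p.toW⟩ := by
      rintro _ _ rfl
      rfl
    rw [h3 ((l ≫ k) ≫ p.toE) _ (Category.assoc _ _ _), h2]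
    exact val_congr _ ((Category.comp_id _).trans (Category.id_comp _).symm) (Category.assoc _ _ _).symm
  choose s hs using key
  have hnat : ∀ (E' E'' : C) (k : E'' ⟶ E') (φ : E' ⟶ X) (a : E' ⟶ W),
      rr R k (s ⟨E', φ, a⟩) = s ⟨E'', k ≫ φ, k ≫ a⟩ := by
    intro E' E'' k φ a
    refine rr_ext (J.pullback_stable (k ≫ φ) hT) _ _ fun Z l hl => ?_
    have hl' : T (l ≫ k ≫ φ) := hl
    have hl'' : T ((l ≫ k) ≫ φ) := by rw [Category.assoc]; exact hl'
    rw [← rr_comp, hs ⟨E', φ, a⟩ Z (l ≫ k) hl'', hs ⟨E'', k ≫ φ, k ≫ a⟩ Z l hl']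
    have h3 : ∀ (q : Z ⟶ X) (hq : T q) (b : Z ⟶ W) (_ : q = l ≫ k ≫ φ) (_ : b = l ≫ k ≫ a),
        (x q hq : Sec c Z).1 ⟨Z, 𝟙 Z, b⟩ = (x (l ≫ k ≫ φ) hl' : Sec c Z).1 ⟨Z, 𝟙 Z, l ≫ k ≫ a⟩ := by
      rintro _ _ _ rfl rfl
      rfl
    exact h3 _ _ _ (Category.assoc _ _ _) (Category.assoc _ _ _)
  have hmul : ∀ (E' : C) (φ : E' ⟶ X) (a b : E' ⟶ W), s ⟨E', φ, a⟩ * c.g a b = s ⟨E', φ, b⟩ := by
    intro E' φ a b
    refine rr_ext (J.pullback_stable φ hT) _ _ fun Z l hl => ?_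
    rw [map_mul, hs ⟨E', φ, a⟩ Z l hl, hs ⟨E', φ, b⟩ Z l hl]
    have h1 := (x (l ≫ φ) hl : Sec c Z).2.2 Z (𝟙 Z) (l ≫ a) (l ≫ b)
    rw [← h1]
    congr 1
    exact c.nat l a b
  refine ⟨(⟨s, hnat, hmul⟩ : Sec c X), ?_, ?_⟩
  · intro Y f hf
    refine sec_ext fun p => ?_
    change s ⟨p.src, p.toE ≫ f, p.toW⟩ = (x f hf : Sec c Y).1 p
    have hk : T (𝟙 p.src ≫ p.toE ≫ f) := by
      rw [Category.id_comp]
      exact T.downward_closed hf _
    have h1 := hs ⟨p.src, p.toE ≫ f, p.toW⟩ p.src (𝟙 _) hk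
    rw [rr_id] at h1
    rw [h1]
    have h3 : ∀ (q : p.src ⟶ X) (hq : T q) (_ : q = p.toE ≫ f),
        (x q hq : Sec c p.src).1 ⟨p.src, 𝟙 _, 𝟙 _ ≫ p.toW⟩ =
        (x (p.toE ≫ f) (T.downward_closed hf _) : Sec c p.src).1 ⟨p.src, 𝟙 _, 𝟙 _ ≫ p.toW⟩ := by
      rintro _ _ rfl
      rfl
    refine (h3 _ hk (Category.id_comp _)).trans ?_
    refine (hx' f p.toE hf _).trans ?_
    exact val_congr _ (Category.id_comp _) (Category.id_comp _)
  · intro t ht
    refine sec_ext fun p => ?_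
    refine rr_ext (J.pullback_stable p.toE hT) _ _ fun Z l hl => ?_
    change rr R l ((t : Sec c X).1 p) = rr R l (s p)
    rw [hs p Z l hl]
    have h1 := (t : Sec c X).2.1 p.src Z l p.toE p.toW
    have h2 : (x (l ≫ p.toE) hl : Sec c Z).1 ⟨Z, 𝟙 Z, l ≫ p.toW⟩ =
        (t : Sec c X).1 ⟨Z, 𝟙 Z ≫ l ≫ p.toE, l ≫ p.toW⟩ :=
      (congrArg (fun s : Sec c Z => s.1 ⟨Z, 𝟙 Z, l ≫ p.toW⟩) (ht (l ≫ p.toE) hl)).symm
    rw [h2, Category.id_comp]
    exact h1

/-- The sheaf of modules. -/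
noncomputable def mod : SheafOfModules.{max u v} R where
  val := pmod c
  isSheaf := isSheaf_psh c

/-- Its section over `W`. -/
noncomputable def gen : sec (mod c) W :=
  (⟨fun p => c.g p.toE p.toW, fun _ _ k φ a => c.nat k φ a, fun _ φ a b => c.mul φ a b⟩ : Sec c W)

theorem res_gen_val {E : C} (a : E ⟶ W) (p : Idx W E) :
    (res (mod c) a (gen c) : Sec c E).1 p = c.g (p.toE ≫ a) p.toW := rfl

theorem res_gen {E : C} (a b : E ⟶ W) : res (mod c) b (gen c) = c.g b a • res (mod c) a (gen c) := by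
  refine sec_ext (c := c) fun p => ?_
  change c.g (p.toE ≫ b) p.toW = rr R p.toE (c.g b a) * c.g (p.toE ≫ a) p.toW
  rw [show rr R p.toE (c.g b a) = _ from c.nat _ _ _, c.mul]

theorem isGen : IsGen (mod c) (gen c) := by
  intro E a
  have h1 : ∀ (t : R.obj.obj (op E)) (p : Idx W E), ((t • res (mod c) a (gen c) : sec (mod c) E) : Sec c E).1 p =
      rr R p.toE t * c.g (p.toE ≫ a) p.toW := fun t p => rfl
  constructor
  · intro t t' h
    have h2 := congrArg (fun s : Sec c E => s.1 ⟨E, 𝟙 E, a⟩) h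
    have h3 : ∀ t : R.obj.obj (op E), ((t • res (mod c) a (gen c) : sec (mod c) E) : Sec c E).1 ⟨E, 𝟙 E, a⟩ = t := by
      intro t
      rw [h1, rr_id, Category.id_comp, c.one, mul_one]
    exact (h3 t).symm.trans (h2.trans (h3 t'))
  · intro s
    refine ⟨(s : Sec c E).1 ⟨E, 𝟙 E, a⟩, sec_ext (c := c) fun p => ?_⟩
    refine (h1 _ _).trans ?_
    rw [show rr R p.toE ((s : Sec c E).1 ⟨E, 𝟙 E, a⟩) = _ from (s : Sec c E).2.1 E p.src p.toE (𝟙 E) a, Category.comp_id]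
    exact (s : Sec c E).2.2 p.src p.toE _ _

end sheaf

end K605.GenCoc
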