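import Groth.Agent.AlgSp.K605.GenCoc

/-!
# Being a generator is local
-/

set_option autoImplicit false
set_option backward.isDefEq.respectTransparency false

universe v u

open CategoryTheory CategoryTheory.Limits Opposite

namespace K605.GenLoc

open K646.ModSec K643.ModHom K605.Gen K605.GenCoc

variable {C : Type u} [Category.{v} C] {J : GrothendieckTopology C} {R : Sheaf J RingCat.{max u v}}
  [J.HasSheafCompose (CategoryTheory.forget RingCat.{max u v})]
  [J.HasSheafCompose (CategoryTheory.forget AddCommGrpCat.{max u v})]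

omit [J.HasSheafCompose (CategoryTheory.forget RingCat.{max u v})] in
theorem sec_ext_sieve (M : SheafOfModules.{max u v} R) {W : C} {T : Sieve W} (hT : T ∈ J W) (x y : sec M W)
    (h : ∀ (E : C) (f : E ⟶ W), T f → res M f x = res M f y) : x = y := by
  have hM : Presieve.IsSheaf J (M.val.presheaf ⋙ CategoryTheory.forget AddCommGrpCat.{max u v}) :=
    (isSheaf_iff_isSheaf_of_type _ _).1
      ((sheafCompose J (CategoryTheory.forget AddCommGrpCat.{max u v})).obj ⟨_, M.isSheaf⟩).property
  exact (hM T hT).isSeparatedFor.ext fun E f hf => h E f hf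

theorem isGen_of_sieve {M : SheafOfModules.{max u v} R} {W : C} {e : sec M W} {T : Sieve W} (hT : T ∈ J W)
    (h : ∀ (E : C) (f : E ⟶ W), T f → IsGen M (res M f e)) : IsGen M e := by
  intro E a
  have hid : ∀ (Z : C) (g : Z ⟶ E) (_ : T (g ≫ a)), Function.Bijective
      (fun t : R.obj.obj (op Z) => t • res M (g ≫ a) e) := by
    intro Z g hg
    have h1 := h Z (g ≫ a) hg (𝟙 Z)
    rwa [res_id] at h1
  constructor
  · intro t t' htt
    refine rr_ext (J.pullback_stable a hT) _ _ fun Z g hg => (hid Z g hg).1 ?_
    change rr R g t • res M (g ≫ a) e = rr R g t' • res M (g ≫ a) e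
    rw [res_comp, ← res_smul, ← res_smul]
    exact congrArg (res M g) htt
  · intro x
    choose c hc using fun (Z : C) (g : Z ⟶ E) (hg : T (g ≫ a)) => (hid Z g hg).2 (res M g x)
    obtain ⟨t, ht⟩ := exists_amalg (J.pullback_stable a hT) c (fun Z Z' g l hg => by
      have hl : T ((l ≫ g) ≫ a) := by
        rw [Category.assoc]
        exact T.downward_closed hg l
      refine (hid Z' (l ≫ g) hl).1 ?_
      change rr R l (c Z g hg) • res M ((l ≫ g) ≫ a) e = (fun t => t • res M ((l ≫ g) ≫ a) e) (c Z' (l ≫ g) hl)
      rw [hc Z' (l ≫ g) hl, Category.assoc, res_comp M (g ≫ a) l, ← res_smul, res_comp M g l x]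
      exact congrArg (res M l) (hc Z g hg))
    refine ⟨t, sec_ext_sieve M (J.pullback_stable a hT) _ _ fun Z g hg => ?_⟩
    change res M g (t • res M a e) = res M g x
    rw [res_smul, ← res_comp]
    have h1 := ht Z g hg
    rw [show (R.obj.map g.op).hom t = c Z g hg from h1]
    exact hc Z g hg

end K605.GenLoc
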