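import Groth.Agent.AlgSp.K605.Gen
import Mathlib.Algebra.Category.ModuleCat.Sheaf.PullbackContinuous

/-!
# Inverse images of sheaves of modules with a generator over a covering object
-/

set_option autoImplicit false
set_option backward.isDefEq.respectTransparency false

universe w v v' u u'

open CategoryTheory CategoryTheory.Limits Opposite

namespace K605.GenPull

open K646.ModSec K643.ModHom K605.Gen

variable {C : Type u} [Category.{v} C] {J : GrothendieckTopology C} {S : Sheaf J RingCat.{w}}
  {D : Type u'} [Category.{v'} D] {K : GrothendieckTopology D} {R : Sheaf K RingCat.{w}}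
  {F : C ⥤ D} [F.IsContinuous J K] (φ : S ⟶ (F.sheafPushforwardContinuous RingCat.{w} J K).obj R)

/-- The ring map over an object. -/
noncomputable abbrev rmap (U : C) : S.obj.obj (op U) →+* R.obj.obj (op (F.obj U)) := (φ.hom.app (op U)).hom

theorem push_smul (N : SheafOfModules.{w} R) {U : C} (r : S.obj.obj (op U))
    (x : sec ((SheafOfModules.pushforward.{w} φ).obj N) U) :
    (r • x : sec ((SheafOfModules.pushforward.{w} φ).obj N) U) =
      (rmap φ U r • (show sec N (F.obj U) from x) : sec N (F.obj U)) := rfl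

theorem push_res (N : SheafOfModules.{w} R) {U V : C} (g : V ⟶ U)
    (x : sec ((SheafOfModules.pushforward.{w} φ).obj N) U) :
    res ((SheafOfModules.pushforward.{w} φ).obj N) g x = res N (F.map g) (show sec N (F.obj U) from x) := rfl

theorem push_app {N N' : SheafOfModules.{w} R} (χ : N ⟶ N') {U : C}
    (x : sec ((SheafOfModules.pushforward.{w} φ).obj N) U) :
    app ((SheafOfModules.pushforward.{w} φ).map χ) U x = app χ (F.obj U) (show sec N (F.obj U) from x) := rfl

variable [J.HasSheafCompose (CategoryTheory.forget AddCommGrpCat.{w})]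
  [K.HasSheafCompose (CategoryTheory.forget AddCommGrpCat.{w})]

theorem nonempty_iso [(SheafOfModules.pushforward.{w} φ).IsRightAdjoint] {W : C}
    (hW : J.CoversTop (fun _ : PUnit.{1} => W)) (hFW : K.CoversTop (fun _ : PUnit.{1} => F.obj W))
    {A : SheafOfModules.{w} S} {e₀ : sec A W} (he₀ : IsGen A e₀)
    {L : SheafOfModules.{w} R} {e : sec L (F.obj W)} (he : IsGen L e)
    (hP : ∀ (E : D) (a b : E ⟶ F.obj W), ∃ (P : C) (p₁ p₂ : P ⟶ W) (k : E ⟶ F.obj P),
      k ≫ F.map p₁ = a ∧ k ≫ F.map p₂ = b)
    (hrel : ∀ (P : C) (a b : P ⟶ W) (r : S.obj.obj (op P)), res A b e₀ = r • res A a e₀ →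
      res L (F.map b) e = rmap φ P r • res L (F.map a) e) :
    Nonempty ((SheafOfModules.pullback.{w} φ).obj A ≅ L) := by
  let adj := SheafOfModules.pullbackPushforwardAdjunction.{w} φ
  obtain ⟨θ₀, hθ₀⟩ := exists_hom (N := (SheafOfModules.pushforward.{w} φ).obj L) hW he₀ e
    (fun E a b r h => hrel E a b r h)
  let θ : (SheafOfModules.pullback.{w} φ).obj A ⟶ L := (adj.homEquiv _ _).symm θ₀
  have hθ : ∀ {N : SheafOfModules.{w} R} (χ : L ⟶ N), (adj.homEquiv _ _) (θ ≫ χ) =
      θ₀ ≫ (SheafOfModules.pushforward.{w} φ).map χ := by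
    intro N χ
    rw [Adjunction.homEquiv_naturality_right, Equiv.apply_symm_apply]
  have : IsIso θ := by
    rw [isIso_iff_coyoneda_map_bijective]
    intro N
    constructor
    · intro χ χ' h
      apply hom_ext_gen hFW he
      have h1 := congrArg (adj.homEquiv _ _) h
      have h2 : θ₀ ≫ (SheafOfModules.pushforward.{w} φ).map χ = θ₀ ≫ (SheafOfModules.pushforward.{w} φ).map χ' := by
        rw [← hθ, ← hθ]
        exact h1
      have h3 := congrArg (fun t => app t W e₀) h2
      simp only [app_comp] at h3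
      rw [hθ₀] at h3
      exact h3
    · intro ξ
      let ξ₀ := (adj.homEquiv _ _) ξ
      let m : sec N (F.obj W) := app ξ₀ W e₀
      have hm : Rel L N e m := by
        intro E a b r h
        obtain ⟨P, p₁, p₂, k, rfl, rfl⟩ := hP E a b
        obtain ⟨r₀, hr₀⟩ := (he₀ p₁).2 (res A p₂ e₀)
        have h1 := hrel P p₁ p₂ r₀ hr₀.symm
        have h2 := rel_app (e := e₀) ξ₀ P p₁ p₂ r₀ hr₀.symm
        have h2' : res N (F.map p₂) m = rmap φ P r₀ • res N (F.map p₁) m := h2
        rw [res_comp, res_comp, h2', res_smul]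
        rw [res_comp, res_comp, h1, res_smul] at h
        have h3 : (R.obj.map k.op).hom (rmap φ P r₀) = r := (he (k ≫ F.map p₁)).1 (by
          simp only [res_comp]
          exact h)
        rw [h3]
      obtain ⟨χ, hχ⟩ := exists_hom hFW he m hm
      refine ⟨χ, ?_⟩
      apply (adj.homEquiv _ _).injective
      change (adj.homEquiv _ _) (θ ≫ χ) = ξ₀
      rw [hθ]
      apply hom_ext_gen hW he₀
      rw [app_comp, hθ₀]
      exact hχ
  exact ⟨asIso θ⟩

end K605.GenPull
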