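import Mathlib.AlgebraicGeometry.AffineSpace
import Mathlib.AlgebraicGeometry.Morphisms.Finite
import Mathlib.AlgebraicGeometry.Morphisms.ClosedImmersion
import Mathlib.Algebra.Category.Ring.Epi
import Mathlib.CategoryTheory.Limits.Constructions.Over.Products

/-!
# Closed immersions into affine space over a chart

If `V` is affine over `S`, `E ⟶ V` is finite, `E ⟶ W` is of finite type with `W` affine and `E ⟶ V × W` is a
monomorphism, then finitely many functions on `V` embed `E` as a closed subscheme of `W × 𝔸ⁿ`.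
-/

set_option autoImplicit false

universe u

open CategoryTheory CategoryTheory.Limits AlgebraicGeometry

namespace K605.ImmSch

/-- If `C` is finite over `B`, of finite type over `D`, and `B`, `D` are jointly epimorphic to `C`, then `C` is generated by
`D` and finitely many elements of `B`. -/
theorem exists_gens {B C D : Type u} [CommRing B] [CommRing C] [CommRing D] (f : B →+* C) (g : D →+* C)
    (hf : f.Finite) (hg : g.FiniteType)
    (hepi : ∀ (T : Type u) [CommRing T] (a b : C →+* T), a.comp f = b.comp f → a.comp g = b.comp g → a = b) :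
    ∃ (n : ℕ) (b : Fin n → B), ∀ R' : Subring C, (∀ d, g d ∈ R') → (∀ j, f (b j) ∈ R') → R' = ⊤ := by
  classical
  let P : C → Prop := fun c => ∃ s : Finset B, c ∈ Subring.closure (f '' s ∪ Set.range g)
  let C₀ : Subring C := Subring.closure (Set.range f ∪ Set.range g)
  have hC₀ : C₀ = ⊤ := by
    let ι : C₀ →+* C := C₀.subtype
    let f₀ : B →+* C₀ := f.codRestrict C₀ fun b => Subring.subset_closure (Or.inl ⟨b, rfl⟩)
    let g₀ : D →+* C₀ := g.codRestrict C₀ fun b => Subring.subset_closure (Or.inr ⟨b, rfl⟩)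
    have hfin : ι.Finite := by
      refine RingHom.Finite.of_comp_finite (f := f₀) ?_
      exact hf
    have hepi' : Epi (CommRingCat.ofHom ι) := by
      refine ⟨fun {T} a b hab => ?_⟩
      apply CommRingCat.hom_ext
      have h1 : a.hom.comp ι = b.hom.comp ι := congrArg CommRingCat.Hom.hom hab
      refine hepi T a.hom b.hom ?_ ?_
      · ext x
        exact congrArg (fun k => k (f₀ x)) h1
      · ext x
        exact congrArg (fun k => k (g₀ x)) h1
    have hs : Function.Surjective ι := RingHom.surjective_of_epi_of_finite (CommRingCat.ofHom ι) hfin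
    rw [eq_top_iff]
    intro c _
    obtain ⟨x, rfl⟩ := hs c
    exact x.2
  have mono : ∀ {s t : Finset B}, s ⊆ t → ∀ c, c ∈ Subring.closure (f '' s ∪ Set.range g) →
      c ∈ Subring.closure (f '' t ∪ Set.range g) := by
    intro s t hst c hc
    refine Subring.closure_mono ?_ hc
    exact Set.union_subset_union_left _ (Set.image_mono (by exact_mod_cast hst))
  have hP : ∀ c, P c := by
    intro c
    have hc : c ∈ C₀ := by rw [hC₀]; trivial
    refine Subring.closure_induction (p := fun c _ => P c) ?_ ?_ ?_ ?_ ?_ ?_ hc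
    · rintro x (⟨b, rfl⟩ | ⟨d, rfl⟩)
      · exact ⟨{b}, Subring.subset_closure (Or.inl ⟨b, by simp, rfl⟩)⟩
      · exact ⟨∅, Subring.subset_closure (Or.inr ⟨d, rfl⟩)⟩
    · exact ⟨∅, zero_mem _⟩
    · exact ⟨∅, one_mem _⟩
    · rintro x y - - ⟨s, hs⟩ ⟨t, ht⟩
      exact ⟨s ∪ t, add_mem (mono Finset.subset_union_left _ hs) (mono Finset.subset_union_right _ ht)⟩
    · rintro x - ⟨s, hs⟩
      exact ⟨s, neg_mem hs⟩
    · rintro x y - - ⟨s, hs⟩ ⟨t, ht⟩
      exact ⟨s ∪ t, mul_mem (mono Finset.subset_union_left _ hs) (mono Finset.subset_union_right _ ht)⟩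
  let _ : Algebra D C := g.toAlgebra
  have hg' : Algebra.FiniteType D C := hg
  obtain ⟨t, ht⟩ := hg'.out
  choose s hs using hP
  let T : Finset B := t.biUnion s
  refine ⟨T.card, fun j => (T.equivFin.symm j).1, fun R' h1 h2 => ?_⟩
  have h2' : ∀ b ∈ T, f b ∈ R' := by
    intro b hb
    have := h2 (T.equivFin ⟨b, hb⟩)
    simpa using this
  have h3 : ∀ c ∈ t, c ∈ R' := by
    intro c hc
    have h4 : Subring.closure (f '' (s c) ∪ Set.range g) ≤ R' := by
      rw [Subring.closure_le]
      rintro x (⟨b, hb, rfl⟩ | ⟨d, rfl⟩)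
      · exact h2' b (Finset.mem_biUnion.2 ⟨c, hc, hb⟩)
      · exact h1 d
    exact h4 (hs c)
  rw [eq_top_iff]
  intro c _
  have hc : c ∈ Algebra.adjoin D (t : Set C) := by rw [ht]; trivial
  refine Algebra.adjoin_induction (p := fun c _ => c ∈ R') ?_ ?_ ?_ ?_ hc
  · exact fun x hx => h3 x hx
  · exact fun d => h1 d
  · exact fun x y _ _ hx hy => add_mem hx hy
  · exact fun x y _ _ hx hy => mul_mem hx hy

variable {S : Scheme.{u}}

theorem exists_isClosedImmersion {V W E : Over S} [IsAffine V.left] [IsAffine W.left] (e₁ : E ⟶ V) (e₂ : E ⟶ W)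
    [IsFinite e₁.left] [LocallyOfFiniteType e₂.left]
    (hmono : ∀ (T : Over S) (a b : T ⟶ E), a ≫ e₁ = b ≫ e₁ → a ≫ e₂ = b ≫ e₂ → a = b) :
    ∃ (n : ℕ) (b : V ⟶ Over.mk (𝔸(ULift.{u} (Fin n); S) ↘ S)),
      IsClosedImmersion (prod.lift e₂ (e₁ ≫ b)).left := by
  have hE : IsAffine E.left := isAffine_of_isAffineHom e₁.left
  obtain ⟨n, b, hb⟩ := exists_gens e₁.left.appTop.hom e₂.left.appTop.hom
    e₁.left.finite_appTop
    (HasRingHomProperty.appTop (P := @LocallyOfFiniteType) e₂.left inferInstance) (by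
      intro T _ a a' h1 h2
      -- the two maps `Spec T ⟶ E`
      let α : Spec (CommRingCat.of T) ⟶ E.left := Spec.map (CommRingCat.ofHom a) ≫ E.left.isoSpec.inv
      let α' : Spec (CommRingCat.of T) ⟶ E.left := Spec.map (CommRingCat.ofHom a') ≫ E.left.isoSpec.inv
      have key : ∀ {Z : Over S} [IsAffine Z.left] (e : E ⟶ Z),
          a.comp e.left.appTop.hom = a'.comp e.left.appTop.hom → α ≫ e.left = α' ≫ e.left := by
        intro Z _ e he
        simp only [α, α', Category.assoc]
        rw [← Scheme.isoSpec_inv_naturality, ← Spec.map_comp_assoc, ← Spec.map_comp_assoc]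
        congr 2
        exact CommRingCat.hom_ext he
      have e1 := key e₁ h1
      have e2 := key e₂ h2
      let T' : Over S := Over.mk (α ≫ E.hom)
      let β : T' ⟶ E := Over.homMk α rfl
      let β' : T' ⟶ E := Over.homMk α' (by
        change α' ≫ E.hom = α ≫ E.hom
        rw [← Over.w e₁, ← Category.assoc, ← Category.assoc, e1])
      have h3 : β = β' := hmono T' β β' (Over.OverMorphism.ext e1) (Over.OverMorphism.ext e2)
      have h4 : α = α' := congrArg CommaMorphism.left h3
      have h5 : Spec.map (CommRingCat.ofHom a) = Spec.map (CommRingCat.ofHom a') := by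
        rw [← cancel_mono E.left.isoSpec.inv]; exact h4
      exact congrArg CommRingCat.Hom.hom (Spec.map_injective h5))
  let bv : V ⟶ Over.mk (𝔸(ULift.{u} (Fin n); S) ↘ S) :=
    Over.homMk (AffineSpace.homOfVector V.hom (fun i => b i.down)) (AffineSpace.homOfVector_over _ _)
  refine ⟨n, bv, ?_⟩
  let M : Over S := W ⨯ Over.mk (𝔸(ULift.{u} (Fin n); S) ↘ S)
  let f : E ⟶ M := prod.lift e₂ (e₁ ≫ bv)
  have hM : IsAffine M.left := by
    have : IsAffine (pullback W.hom (𝔸(ULift.{u} (Fin n); S) ↘ S)) :=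
      isAffine_of_isAffineHom (pullback.fst W.hom (𝔸(ULift.{u} (Fin n); S) ↘ S))
    have : IsAffine (pullback W.hom (Over.mk (𝔸(ULift.{u} (Fin n); S) ↘ S)).hom) := this
    exact .of_isIso (Over.prodLeftIsoPullback W (Over.mk (𝔸(ULift.{u} (Fin n); S) ↘ S))).hom
  change IsClosedImmersion f.left
  refine IsClosedImmersion.of_surjective_of_isAffine f.left ?_
  have h := hb f.left.appTop.hom.range ?_ ?_
  · exact RingHom.range_eq_top.1 h
  · intro d
    refine ⟨(prod.fst : M ⟶ W).left.appTop.hom d, ?_⟩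
    have : e₂.left = f.left ≫ (prod.fst : M ⟶ W).left := by
      rw [← Over.comp_left, prod.lift_fst]
    rw [this, Scheme.Hom.comp_appTop]
    rfl
  · intro j
    refine ⟨(prod.snd : M ⟶ Over.mk (𝔸(ULift.{u} (Fin n); S) ↘ S)).left.appTop.hom
      (AffineSpace.coord S ⟨j⟩), ?_⟩
    have h1 : f.left ≫ (prod.snd : M ⟶ Over.mk (𝔸(ULift.{u} (Fin n); S) ↘ S)).left = e₁.left ≫ bv.left := by
      rw [← Over.comp_left, prod.lift_snd, Over.comp_left]
    have h2 := congrArg (fun k => k.appTop.hom (AffineSpace.coord S ⟨j⟩)) h1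
    simp only [Scheme.Hom.comp_appTop, CommRingCat.hom_comp, RingHom.comp_apply] at h2
    refine h2.trans ?_
    congr 1
    exact AffineSpace.homOfVector_appTop_coord _ _ _

end K605.ImmSch
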