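import Groth.Agent.AlgSp.K605.ImmSch
import Groth.Agent.AlgSp.K613.Diag
import Groth.Agent.AlgSp.K595.DescInst

/-!
# Closed immersions of affine schemes into affine space over an algebraic space
-/

set_option autoImplicit false

universe u

open CategoryTheory CategoryTheory.Limits AlgebraicGeometry Opposite AlgSp

set_option backward.isDefEq.respectTransparency false

namespace K605.ImmSpace

variable {S : Scheme.{u}}

/-- products of representable diagonals -/
theorem representable_diag_prod {X Y : Sp S} (hX : Representable (Limits.diag X)) (hY : Representable (Limits.diag Y)) :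
    Representable (Limits.diag (X ⨯ Y)) := by
  have sq : IsPullback (prod.fst : X ⨯ Y ⟶ X) prod.snd (terminal.from X) (terminal.from Y) :=
    IsPullback.of_is_product (limit.isLimit _) terminalIsTerminal
  exact K613.Chart.representable_diag_of_isPullback hX hY sq

theorem exists_closedImmersion {X : Sp S} (hX : IsAlgSpace X) {V W E : Over S} [IsAffine V.left] [IsAffine W.left]
    (v : (yon S).obj V ⟶ X) (q : (yon S).obj W ⟶ X) (hq : RepWith @Etale q) (hq' : RepWith @Surjective q)
    (e₁ : E ⟶ V) (e₂ : E ⟶ W) (sq : IsPullback ((yon S).map e₁) ((yon S).map e₂) v q) (h₁ : IsFinite e₁.left)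
    (h₂ : LocallyOfFiniteType e₂.left) :
    ∃ (n : ℕ) (i : (yon S).obj V ⟶ X ⨯ (yon S).obj (Over.mk (𝔸(ULift.{u} (Fin n); S) ↘ S))),
      i ≫ prod.fst = v ∧ RepWith @IsClosedImmersion i := by
  obtain ⟨n, b, hb⟩ := ImmSch.exists_isClosedImmersion e₁ e₂ (by
    intro T a a' h1 h2
    apply (yon S).map_injective
    apply sq.hom_ext
    · rw [← Functor.map_comp, h1, Functor.map_comp]
    · rw [← Functor.map_comp, h2, Functor.map_comp])
  let A : Over S := Over.mk (𝔸(ULift.{u} (Fin n); S) ↘ S)
  let i : (yon S).obj V ⟶ X ⨯ (yon S).obj A := prod.lift v ((yon S).map b)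
  refine ⟨n, i, prod.lift_fst _ _, ?_⟩
  -- the base change along the chart
  let Q : (yon S).obj W ⨯ (yon S).obj A ⟶ X ⨯ (yon S).obj A := prod.map q (𝟙 _)
  have sqQ : IsPullback (prod.fst : (yon S).obj W ⨯ (yon S).obj A ⟶ _) Q q prod.fst :=
    IsPullback.of_prod_fst_with_id q _
  let f' : (yon S).obj E ⟶ (yon S).obj W ⨯ (yon S).obj A := prod.lift ((yon S).map e₂) ((yon S).map (e₁ ≫ b))
  have hcomm : f' ≫ Q = (yon S).map e₁ ≫ i := by
    apply Limits.prod.hom_ext
    · simp only [f', Q, i, Category.assoc, prod.map_fst, prod.lift_fst_assoc, prod.lift_fst]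
      exact sq.w.symm
    · simp only [f', Q, i, Category.assoc, prod.map_snd, prod.lift_snd_assoc, prod.lift_snd, Category.comp_id,
        Functor.map_comp]
  have sq' : IsPullback f' ((yon S).map e₁) Q i := by
    refine IsPullback.of_right ?_ hcomm sqQ
    have h1 : f' ≫ prod.fst = (yon S).map e₂ := prod.lift_fst _ _
    have h2 : i ≫ prod.fst = v := prod.lift_fst _ _
    rw [h1, h2]
    exact sq.flip
  have hf' : RepWith @IsClosedImmersion f' := by
    have e : f' = (yon S).map (prod.lift e₂ (e₁ ≫ b)) ≫ prodComparison (yon S) W A := by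
      apply Limits.prod.hom_ext
      · simp only [f', Limits.prod.lift_fst, Category.assoc, prodComparison_fst, ← Functor.map_comp]
        rw [Limits.prod.lift_fst]
      · simp only [f', Limits.prod.lift_snd, Category.assoc, prodComparison_snd, ← Functor.map_comp]
    rw [e]
    refine (MorphismProperty.cancel_right_of_respectsIso (RepWith @IsClosedImmersion) _ _).2 ?_
    exact (repWith_yon_map_iff _ _).2 hb
  have hrep : Representable i :=
    Functor.relativelyRepresentable.of_diag
      (representable_diag_prod hX.diag (IsAlgSpace.yon_obj A).diag) i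
  have hQ : K613.Cover.FSurj Q :=
    K613.Cover.FSurj.of_isPullback (K613.Chart.Ch.fSurj ⟨hq, hq'⟩) sqQ
  have := K595.DescInst.isClosedImmersion.{u}
  exact hQ.repWith (Pr := @IsClosedImmersion) sq'.flip hrep hf'

end K605.ImmSpace
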