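import Groth.Agent.AlgSp.K600.LimAff
import Groth.Agent.AlgSp.K597.Affine
import Groth.Agent.AlgSp.K612.BcProd
import Groth.Agent.AlgSp.K644.EtSite
import Groth.Agent.AlgSp.K605.GenPull
import Groth.Agent.AlgSp.K605.GenCoc

/-!
# Functions on the small etale sites of a limit of spaces
-/

set_option autoImplicit false
set_option backward.isDefEq.respectTransparency false

universe u

open CategoryTheory CategoryTheory.Limits AlgebraicGeometry Opposite
open AlgSp K644.EtSite K612.BcProd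

namespace K605.InvLim

open K605.GenPull

variable {S : Scheme.{u}} {I : Type u} [SmallCategory I] {D : I ⥤ Sp S}
  (hDr : ∀ (i j : I) (φ : i ⟶ j), Representable (D.map φ)) {c : Cone D}
  (hrep : ∀ i, Representable (c.π.app i))

/-- Restriction of functions on a small etale site. -/
noncomputable abbrev rr {X : Sp S} {E E' : EtOver X} (k : E' ⟶ E) :
    (OEtRing X).obj.obj (op E) →+* (OEtRing X).obj.obj (op E') := ((OEtRing X).obj.map k.op).hom

theorem rr_down {X : Sp S} {E E' : EtOver X} (k : E' ⟶ E) (x : (OEtRing X).obj.obj (op E)) :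
    (rr k x : ULift _).down = (mor k).appTop.hom (x : ULift _).down := rfl

theorem rmap_down {X Y : Sp S} {f : X ⟶ Y} (hf : Representable f) (E : EtOver Y) (x : (OEtRing Y).obj.obj (op E)) :
    (rmap (bcRingHom hf) E x : ULift _).down = (EtOver.bcπ hf E).left.appTop.hom (x : ULift _).down := rfl

theorem appTop_comp {A B C : Over S} (f : A ⟶ B) (g : B ⟶ C) (x : Γ(C.left, ⊤)) :
    f.left.appTop.hom (g.left.appTop.hom x) = (f ≫ g).left.appTop.hom x := by
  rw [Over.comp_left, Scheme.Hom.comp_appTop, CommRingCat.hom_comp, RingHom.comp_apply]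

/-- The comparison of base changes. -/
noncomputable def mu {i j : I} (φ : j ⟶ i) (E : EtOver (D.obj i)) :
    (EtOver.bc (hrep j)).obj ((EtOver.bc (hDr _ _ φ)).obj E) ⟶ (EtOver.bc (hrep i)).obj E :=
  bcLift (hrep i) (EtOver.bcπ (hrep j) _ ≫ EtOver.bcπ (hDr _ _ φ) E) (by
    have h1 := (EtOver.isPullback_bcObj (hrep j) ((EtOver.bc (hDr _ _ φ)).obj E)).w
    have h2 := (EtOver.isPullback_bcObj (hDr _ _ φ) E).w
    rw [Functor.map_comp, Category.assoc, ← h2]
    change (EtOver.bcObj (hrep j) ((EtOver.bc (hDr _ _ φ)).obj E)).obj.hom ≫ c.π.app i = _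
    rw [← Category.assoc]
    refine Eq.trans ?_ (congrArg (fun t => t ≫ D.map φ) h1)
    rw [Category.assoc, c.w])

theorem mu_snd {i j : I} (φ : j ⟶ i) (E : EtOver (D.obj i)) :
    (mu hDr hrep φ E).hom.left ≫ EtOver.bcπ (hrep i) E = EtOver.bcπ (hrep j) _ ≫ EtOver.bcπ (hDr _ _ φ) E :=
  bcLift_snd _ _ _

theorem mu_nat {i j : I} (φ : j ⟶ i) {E E' : EtOver (D.obj i)} (g : E ⟶ E') :
    (EtOver.bc (hrep j)).map ((EtOver.bc (hDr _ _ φ)).map g) ≫ mu hDr hrep φ E' =
      mu hDr hrep φ E ≫ (EtOver.bc (hrep i)).map g := by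
  apply bc_hom_ext
  rw [comp_bcMap_snd]
  change ((EtOver.bcMap (hrep j) ((EtOver.bc (hDr _ _ φ)).map g)).hom.left ≫ (mu hDr hrep φ E').hom.left) ≫ _ = _
  have h1 := mu_snd hDr hrep φ E'
  have h2 := mu_snd hDr hrep φ E
  rw [Category.assoc]
  refine (congrArg (fun t => (EtOver.bcMap (hrep j) ((EtOver.bc (hDr _ _ φ)).map g)).hom.left ≫ t) h1).trans ?_
  refine Eq.trans ?_ (congrArg (fun t => t ≫ g.hom.left) h2).symm
  rw [← Category.assoc, Category.assoc (EtOver.bcπ (hrep j) _)]
  have h3 : (EtOver.bcMap (hrep j) ((EtOver.bc (hDr _ _ φ)).map g)).hom.left ≫ EtOver.bcπ (hrep j) _ =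
    EtOver.bcπ (hrep j) _ ≫ ((EtOver.bc (hDr _ _ φ)).map g).hom.left := EtOver.bcMap_snd _ _
  have h4 : ((EtOver.bc (hDr _ _ φ)).map g).hom.left ≫ EtOver.bcπ (hDr _ _ φ) E' =
    EtOver.bcπ (hDr _ _ φ) E ≫ g.hom.left := EtOver.bcMap_snd _ _
  refine (congrArg (fun t => t ≫ EtOver.bcπ (hDr _ _ φ) E') h3).trans ?_
  rw [Category.assoc]
  exact congrArg (fun t => EtOver.bcπ (hrep j) _ ≫ t) h4

/-- Functions: `O(bc bc E)`. -/
theorem rmap_rmap {i j : I} (φ : j ⟶ i) (E : EtOver (D.obj i)) (x : (OEtRing (D.obj i)).obj.obj (op E)) :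
    rmap (bcRingHom (hrep j)) _ (rmap (bcRingHom (hDr _ _ φ)) E x) =
      rr (mu hDr hrep φ E) (rmap (bcRingHom (hrep i)) E x) := by
  apply ULift.down_injective
  change (EtOver.bcπ (hrep j) _).left.appTop.hom ((EtOver.bcπ (hDr _ _ φ) E).left.appTop.hom (x : ULift _).down) =
    (mor (mu hDr hrep φ E)).appTop.hom ((EtOver.bcπ (hrep i) E).left.appTop.hom (x : ULift _).down)
  have h := congrArg (fun t : _ ⟶ E.obj.left => t.left.appTop.hom (x : ULift _).down) (mu_snd hDr hrep φ E)
  simp only [Over.comp_left, Scheme.Hom.comp_appTop, CommRingCat.hom_comp, RingHom.comp_apply] at h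
  exact h.symm

theorem rmap_rr {X Y : Sp S} {f : X ⟶ Y} (hf : Representable f) {E E' : EtOver Y} (g : E' ⟶ E)
    (x : (OEtRing Y).obj.obj (op E)) :
    rmap (bcRingHom hf) E' (rr g x) = rr ((EtOver.bc hf).map g) (rmap (bcRingHom hf) E x) := by
  have h := (bcRingHom hf).hom.naturality g.op
  exact congrArg (fun t => t.hom x) h

variable [IsCofiltered I] (hDa : ∀ (i j : I) (φ : i ⟶ j), IsAffineMor (D.map φ)) (hc : IsLimit c)

include hDa hc in
theorem exists_fun {i : I} (E : EtOver (D.obj i)) [CompactSpace (sch E)] [QuasiSeparatedSpace (sch E)]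
    (x : (OEtRing c.pt).obj.obj (op ((EtOver.bc (hrep i)).obj E))) :
    ∃ (j : I) (φ : j ⟶ i) (t : (OEtRing (D.obj j)).obj.obj (op ((EtOver.bc (hDr _ _ φ)).obj E))),
      rmap (bcRingHom (hrep j)) _ t = rr (mu hDr hrep φ E) x := by
  let s := K600.LimSys.Sys.ofRep hDr E.obj.hom
  have sq := EtOver.isPullback_bcObj (hrep i) E
  have haff : ∀ {j k : Over i} (f : j ⟶ k), IsAffineHom ((s.W ⋙ Over.forget S).map f) := fun f =>
    s.isAffineHom_map (fun _ _ φ => K597.Affine.repWith_of_isAffineMor (hDa _ _ φ)) f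
  have haff2 : ∀ j : Over i, IsAffineHom (s.snd j).left := fun j =>
    (K597.Affine.repWith_of_isAffineMor (hDa _ _ j.hom)).2 _ _ _ (s.sq j)
  have hcomp : ∀ j : Over i, CompactSpace ((s.W ⋙ Over.forget S).obj j) := fun j => by
    have := haff2 j
    have : CompactSpace ↥E.obj.left.left := ‹CompactSpace (sch E)›
    exact QuasiCompact.compactSpace_of_compactSpace (s.snd j).left
  have hqs : ∀ j : Over i, QuasiSeparatedSpace ((s.W ⋙ Over.forget S).obj j) := fun j => by
    have := haff2 j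
    have : QuasiSeparatedSpace ↥E.obj.left.left := ‹QuasiSeparatedSpace (sch E)›
    exact quasiSeparatedSpace_of_quasiSeparated (s.snd j).left
  obtain ⟨j, t, ht⟩ := exists_appTop_π_eq_of_isLimit (s.W ⋙ Over.forget S) ((Over.forget S).mapCone (s.cone sq))
    (s.isLimitConeLeft sq hc) (x : ULift _).down
  refine ⟨j.left, j.hom, (ULift.up t : ULift _), ?_⟩
  apply ULift.down_injective
  have key : (mu hDr hrep j.hom E).hom.left ≫ s.proj sq j = EtOver.bcπ (hrep j.left) ((EtOver.bc (hDr _ _ j.hom)).obj E) := by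
    refine K600.Basic.hom_ext (s.sq j) ?_ ?_
    · rw [Functor.map_comp, Category.assoc, s.proj_fst, ← Category.assoc]
      exact (congrArg (fun t => t ≫ c.π.app j.left) (EtOver.w (mu hDr hrep j.hom E))).trans
        (EtOver.isPullback_bcObj (hrep j.left) ((EtOver.bc (hDr _ _ j.hom)).obj E)).w
    · rw [Category.assoc, s.proj_snd]
      exact mu_snd hDr hrep j.hom E
  change (EtOver.bcπ (hrep j.left) ((EtOver.bc (hDr _ _ j.hom)).obj E)).left.appTop.hom t =
    (mu hDr hrep j.hom E).hom.left.left.appTop.hom (x : ULift _).down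
  rw [ht, ← key]
  rw [Over.comp_left, Scheme.Hom.comp_appTop, CommRingCat.hom_comp, RingHom.comp_apply]
  rfl

include hDa hc in
theorem exists_eq {i : I} (E : EtOver (D.obj i)) [CompactSpace (sch E)]
    (x y : (OEtRing (D.obj i)).obj.obj (op E)) (h : rmap (bcRingHom (hrep i)) E x = rmap (bcRingHom (hrep i)) E y) :
    ∃ (j : I) (φ : j ⟶ i), rmap (bcRingHom (hDr _ _ φ)) E x = rmap (bcRingHom (hDr _ _ φ)) E y := by
  let s := K600.LimSys.Sys.ofRep hDr E.obj.hom
  have sq := EtOver.isPullback_bcObj (hrep i) E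
  have haff : ∀ {j k : Over i} (f : j ⟶ k), IsAffineHom ((s.W ⋙ Over.forget S).map f) := fun f =>
    s.isAffineHom_map (fun _ _ φ => K597.Affine.repWith_of_isAffineMor (hDa _ _ φ)) f
  have haff2 : ∀ j : Over i, IsAffineHom (s.snd j).left := fun j =>
    (K597.Affine.repWith_of_isAffineMor (hDa _ _ j.hom)).2 _ _ _ (s.sq j)
  let k : Over i := Over.mk (𝟙 i)
  have hcomp : CompactSpace ((s.W ⋙ Over.forget S).obj k) := by
    have := haff2 k
    have : CompactSpace ↥E.obj.left.left := ‹CompactSpace (sch E)›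
    exact QuasiCompact.compactSpace_of_compactSpace (s.snd k).left
  obtain ⟨j, f, hf⟩ := exists_appTop_map_eq_zero_of_isLimit (s.W ⋙ Over.forget S)
    ((Over.forget S).mapCone (s.cone sq)) (s.isLimitConeLeft sq hc) (i := k)
    ((s.snd k).left.appTop.hom ((x : ULift _).down - (y : ULift _).down)) (by
      change (s.proj sq k).left.appTop.hom ((s.snd k).left.appTop.hom _) = 0
      rw [appTop_comp, s.proj_snd, map_sub, sub_eq_zero]
      exact congrArg ULift.down h)
  refine ⟨j.left, j.hom, ?_⟩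
  apply ULift.down_injective
  change (s.snd j).left.appTop.hom (x : ULift _).down = (s.snd j).left.appTop.hom (y : ULift _).down
  have h2 : (s.W.map f).left.appTop.hom ((s.snd k).left.appTop.hom ((x : ULift _).down - (y : ULift _).down)) = 0 := hf
  have h3 := (appTop_comp (s.W.map f) (s.snd k) ((x : ULift _).down - (y : ULift _).down)).symm.trans h2
  rw [s.W_map_snd, map_sub, sub_eq_zero] at h3
  exact h3

end K605.InvLim
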