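import Groth.Prelude.Def_AlgSpModX
import Groth.Agent.AlgSp.K644.CohAff
import Groth.Agent.AlgSp.K644.Cartan
import Groth.Agent.AlgSp.K605.InvLim
import Groth.Agent.AlgSp.K605.GenLoc
import Groth.Agent.Etcore.EtZCover

/-!
# Trivializing charts of invertible modules on a limit of spaces
-/

set_option autoImplicit false
set_option backward.isDefEq.respectTransparency false

universe u

open CategoryTheory CategoryTheory.Limits AlgebraicGeometry Opposite
open AlgSp K644.EtSite K644.Site K644.Cartan K612.BcProd K646.ModSec K605.Gen K605.GenCoc K605.GenLoc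

namespace K605.InvChart

variable {S : Scheme.{u}}

/-- An invertible module has a generator over an affine étale cover of an affine object. -/
theorem exists_gen_affine {X : Sp S} {L : ModEt X} (hL : IsInvertibleEt L) (E : EtOver X) (hE : IsAffine (sch E)) :
    ∃ (V : EtOver X) (g : V ⟶ E), IsAffine (sch V) ∧ Function.Surjective (mor g) ∧ ∃ e : sec L V, IsGen L e := by
  obtain ⟨ι, Z, f, hZ, hP⟩ := hL E
  have hgen : ∀ i, ∃ e : sec L (Z i), IsGen L e := fun i => by
    obtain ⟨φ⟩ := hP i
    exact exists_gen_of_iso φ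
  choose e he using hgen
  obtain ⟨V, g, κ, Y, s, h1, h2, h3⟩ := QCSite.exists_cover (J := etTop X) (T := EtOver.toScheme X) E hE
    (Sieve.generate (Presieve.ofArrows Z f)) (Precoverage.generate_mem_toGrothendieck hZ)
  have h4 : ∀ i, ∃ t : sec L (Y i), IsGen L t := fun i => by
    obtain ⟨_, a, _, ⟨k⟩, -⟩ := h3 i
    exact ⟨res L a (e k), (he k).res a⟩
  choose t ht using h4
  obtain ⟨t', ht'⟩ := glue_decomp L.isSheaf h2 t
  refine ⟨V, g, h1.src, h1.surj.surj, t', isGen_of_sieve.{u, u + 1} h2.mem ?_⟩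
  rintro Z' f' ⟨_, a, _, ⟨i⟩, rfl⟩
  have h5 : res L (a ≫ s i) t' = res L a (t i) := by
    rw [res_comp]
    exact congrArg (res L a) (ht' i)
  rw [h5]
  exact (ht i).res a

/-- Morphisms over an object are determined by the maps of schemes. -/
noncomputable def liftEt {X : Sp S} {V T E : EtOver X} (g : V ⟶ E) (t : T ⟶ E) (k : sch T ⟶ sch V)
    (hk : k ≫ mor g = mor t) : T ⟶ V :=
  EtOver.homMk (Over.homMk k (by
    rw [← Over.w g.hom.left, ← Category.assoc]
    exact (congrArg (fun z => z ≫ E.obj.left.hom) hk).trans (Over.w t.hom.left))) (by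
    have h1 : (Over.homMk k (by
        rw [← Over.w g.hom.left, ← Category.assoc]
        exact (congrArg (fun z => z ≫ E.obj.left.hom) hk).trans (Over.w t.hom.left)) : T.obj.left ⟶ V.obj.left) ≫
        g.hom.left = t.hom.left := by
      ext
      exact hk
    rw [← EtOver.w g, ← Category.assoc, ← Functor.map_comp]
    exact (congrArg (fun z => (yon S).map z ≫ E.obj.hom) h1).trans (EtOver.w t))

variable {I : Type u} [SmallCategory I] {D : I ⥤ Sp S}
  (hDr : ∀ (i j : I) (φ : i ⟶ j), Representable (D.map φ)) {c : Cone D}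
  (hrep : ∀ i, Representable (c.π.app i))
  [IsCofiltered I] (hDa : ∀ (i j : I) (φ : i ⟶ j), IsAffineMor (D.map φ)) (hc : IsLimit c)

include hDr hDa hc in
/-- A trivializing chart comes from a finite level. -/
theorem exists_level (hqc : ∀ i, IsQuasiCompactSp (D.obj i)) {L : ModEt c.pt} (hL : IsInvertibleEt L) :
    ∃ (i : I) (W : EtOver (D.obj i)), IsAffine (sch W) ∧ RepWith @Surjective W.obj.hom ∧
      ∃ e : sec L ((EtOver.bc (hrep i)).obj W), IsGen L e := by
  obtain ⟨i⟩ := IsCofiltered.nonempty (C := I)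
  obtain ⟨U₀, p₀, hU₀, hp₀, hps₀⟩ := K600.LimAff.exists_affine_chart (hqc i)
  let E₀ : EtOver (D.obj i) := EtOver.mk p₀ hp₀
  let s := K600.LimSys.Sys.ofRep hDr E₀.obj.hom
  have sq := EtOver.isPullback_bcObj (hrep i) E₀
  have haff : ∀ {j k : Over i} (f : j ⟶ k), IsAffineHom ((s.W ⋙ Over.forget S).map f) := fun f =>
    s.isAffineHom_map (fun _ _ φ => K597.Affine.repWith_of_isAffineMor (hDa _ _ φ)) f
  have haff2 : ∀ j : Over i, IsAffineHom (s.snd j).left := fun j =>
    (K597.Affine.repWith_of_isAffineMor (hDa _ _ j.hom)).2 _ _ _ (s.sq j)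
  have hcomp : ∀ j : Over i, CompactSpace ((s.W ⋙ Over.forget S).obj j) := fun j => by
    have := haff2 j
    have : CompactSpace ↥E₀.obj.left.left := by
      have : IsAffine U₀.left := hU₀
      change CompactSpace U₀.left
      infer_instance
    exact QuasiCompact.compactSpace_of_compactSpace (s.snd j).left
  have hEaff : IsAffine (sch ((EtOver.bc (hrep i)).obj E₀)) := by
    have h1 : IsAffineHom (EtOver.bcπ (hrep i) E₀).left :=
      (K597.Affine.repWith_of_isAffineMor (K600.LimAff.isAffineMor_π hDa hc i)).2 _ _ _ sq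
    have h2 : IsAffine U₀.left := hU₀
    exact isAffine_of_isAffineHom (Y := U₀.left) (EtOver.bcπ (hrep i) E₀).left
  obtain ⟨V, g, hV, hg, e₁, he₁⟩ := exists_gen_affine hL _ hEaff
  obtain ⟨j, W', w, hw, hW', h, hws, hh⟩ := Groth.Agent.Etcore.EtZCover.exists_cover (s.W ⋙ Over.forget S)
    ((Over.forget S).mapCone (s.cone sq)) (s.isLimitConeLeft sq hc) (V := sch V) (mor g) hg
  let B : EtOver (D.obj j.left) := (EtOver.bc (hDr _ _ j.hom)).obj E₀
  let W : EtOver (D.obj j.left) := ofEt B w hw
  let q : W ⟶ B := ofEtHom B w hw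
  refine ⟨j.left, W, hW', ?_, ?_⟩
  · have h1 : RepWith @Surjective B.obj.hom :=
      MorphismProperty.of_isPullback (P := RepWith @Surjective) (EtOver.isPullback_bcObj (hDr _ _ j.hom) E₀).flip hps₀
    have h2 : RepWith @Surjective ((yon S).map q.hom.left) := (repWith_yon_map_iff _ _).2 ⟨hws⟩
    have h3 := MorphismProperty.comp_mem (RepWith @Surjective) _ _ h2 h1
    rwa [EtOver.w q] at h3
  · let T := (EtOver.bc (hrep j.left)).obj W
    let t : T ⟶ (EtOver.bc (hrep i)).obj E₀ := (EtOver.bc (hrep j.left)).map q ≫ InvLim.mu hDr hrep j.hom E₀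
    have key : (InvLim.mu hDr hrep j.hom E₀).hom.left ≫ s.proj sq j =
        EtOver.bcπ (hrep j.left) ((EtOver.bc (hDr _ _ j.hom)).obj E₀) := by
      refine K600.Basic.hom_ext (s.sq j) ?_ ?_
      · rw [Functor.map_comp, Category.assoc, s.proj_fst, ← Category.assoc]
        exact (congrArg (fun t => t ≫ c.π.app j.left) (EtOver.w (InvLim.mu hDr hrep j.hom E₀))).trans
          (EtOver.isPullback_bcObj (hrep j.left) ((EtOver.bc (hDr _ _ j.hom)).obj E₀)).w
      · rw [Category.assoc, s.proj_snd]
        exact InvLim.mu_snd hDr hrep j.hom E₀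
    have h1 : (EtOver.bcπ (hrep j.left) W).left ≫ w = mor t ≫ (s.proj sq j).left := by
      have h2 : ((EtOver.bc (hrep j.left)).map q).hom.left ≫ EtOver.bcπ (hrep j.left) B =
        EtOver.bcπ (hrep j.left) W ≫ q.hom.left := EtOver.bcMap_snd _ _
      have h3 : t.hom.left ≫ s.proj sq j = EtOver.bcπ (hrep j.left) W ≫ q.hom.left := by
        rw [← h2, ← key]
        exact Category.assoc _ _ _
      exact (congrArg (fun z => z.left) h3).symm
    let k : sch T ⟶ sch V := pullback.lift (EtOver.bcπ (hrep j.left) W).left (mor t) h1 ≫ h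
    have hk : k ≫ mor g = mor t := by
      rw [Category.assoc, hh]
      exact pullback.lift_snd _ _ _
    exact ⟨res L (liftEt g t k hk) e₁, he₁.res _⟩

end K605.InvChart
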