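import Groth.Agent.AlgSp.K605.InvChart
import Groth.Agent.AlgSp.K643.Qcqs

/-!
# Invertible modules on a limit of spaces come from a finite level
-/

set_option autoImplicit false
set_option backward.isDefEq.respectTransparency false

universe u

open CategoryTheory CategoryTheory.Limits AlgebraicGeometry Opposite
open AlgSp K644.EtSite K612.BcProd K646.ModSec K605.Gen K605.GenCoc K605.GenPull K605.InvLim

namespace K605.InvMain

variable {S : Scheme.{u}}

section pair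

variable {X Y : Sp S} {f : X ⟶ Y} (hf : Representable f) (W W' : EtOver Y)

/-- Pairing into the product. -/
noncomputable def pair {W W' : EtOver Y} {E : EtOver Y} (a : E ⟶ W) (b : E ⟶ W') : E ⟶ EtOver.prodObj W W' :=
  (EtOver.prodIsLimit W W').lift (BinaryFan.mk a b)

theorem pair_fst {W W' : EtOver Y} {E : EtOver Y} (a : E ⟶ W) (b : E ⟶ W') : pair a b ≫ EtOver.prodFst W W' = a :=
  (EtOver.prodIsLimit W W').fac (BinaryFan.mk a b) ⟨WalkingPair.left⟩

theorem pair_snd {W W' : EtOver Y} {E : EtOver Y} (a : E ⟶ W) (b : E ⟶ W') : pair a b ≫ EtOver.prodSnd W W' = b :=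
  (EtOver.prodIsLimit W W').fac (BinaryFan.mk a b) ⟨WalkingPair.right⟩

/-- Pairing into the base change of a product. -/
noncomputable def bpair {W W' : EtOver Y} {E : EtOver X} (a : E ⟶ (EtOver.bc hf).obj W) (b : E ⟶ (EtOver.bc hf).obj W') :
    E ⟶ (EtOver.bc hf).obj (EtOver.prodObj W W') :=
  (bcProdIsLimit hf W W').lift (BinaryFan.mk a b)

theorem bpair_fst {W W' : EtOver Y} {E : EtOver X} (a : E ⟶ (EtOver.bc hf).obj W) (b : E ⟶ (EtOver.bc hf).obj W') :
    bpair hf a b ≫ (EtOver.bc hf).map (EtOver.prodFst W W') = a :=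
  (bcProdIsLimit hf W W').fac (BinaryFan.mk a b) ⟨WalkingPair.left⟩

theorem bpair_snd {W W' : EtOver Y} {E : EtOver X} (a : E ⟶ (EtOver.bc hf).obj W) (b : E ⟶ (EtOver.bc hf).obj W') :
    bpair hf a b ≫ (EtOver.bc hf).map (EtOver.prodSnd W W') = b :=
  (bcProdIsLimit hf W W').fac (BinaryFan.mk a b) ⟨WalkingPair.right⟩

theorem bpair_ext {W W' : EtOver Y} {E : EtOver X} {g h : E ⟶ (EtOver.bc hf).obj (EtOver.prodObj W W')}
    (h1 : g ≫ (EtOver.bc hf).map (EtOver.prodFst W W') = h ≫ (EtOver.bc hf).map (EtOver.prodFst W W'))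
    (h2 : g ≫ (EtOver.bc hf).map (EtOver.prodSnd W W') = h ≫ (EtOver.bc hf).map (EtOver.prodSnd W W')) : g = h :=
  BinaryFan.IsLimit.hom_ext (bcProdIsLimit hf W W') h1 h2

end pair

theorem rr_comp' {X : Sp S} {E E' E'' : EtOver X} (k : E' ⟶ E) (l : E'' ⟶ E') (x : (OEtRing X).obj.obj (op E)) :
    InvLim.rr (l ≫ k) x = InvLim.rr l (InvLim.rr k x) := GenCoc.rr_comp.{u, u + 1} k l x

variable {I : Type u} [SmallCategory I] {D : I ⥤ Sp S}
  (hDr : ∀ (i j : I) (φ : i ⟶ j), Representable (D.map φ)) {c : Cone D}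
  (hrep : ∀ i, Representable (c.π.app i))

theorem rmap_eq_of_comp {i j k : I} (φ : j ⟶ i) (κ : k ⟶ j) {E : EtOver (D.obj i)} {x y : (OEtRing (D.obj i)).obj.obj (op E)}
    (h : rmap (bcRingHom (hDr _ _ φ)) E x = rmap (bcRingHom (hDr _ _ φ)) E y) :
    rmap (bcRingHom (hDr _ _ (κ ≫ φ))) E x = rmap (bcRingHom (hDr _ _ (κ ≫ φ))) E y := by
  have h1 := (EtOver.isPullback_bcObj (hDr _ _ (κ ≫ φ)) E).w
  let l : (EtOver.bcObj (hDr _ _ (κ ≫ φ)) E).obj.left ⟶ (EtOver.bcObj (hDr _ _ φ) E).obj.left :=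
    (hDr _ _ φ).lift ((EtOver.bcObj (hDr _ _ (κ ≫ φ)) E).obj.hom ≫ D.map κ) (EtOver.bcπ (hDr _ _ (κ ≫ φ)) E) (by
      rw [← h1, Category.assoc, ← D.map_comp])
  have hl : l ≫ EtOver.bcπ (hDr _ _ φ) E = EtOver.bcπ (hDr _ _ (κ ≫ φ)) E := (hDr _ _ φ).lift_snd _ _ _
  apply ULift.down_injective
  change (EtOver.bcπ (hDr _ _ (κ ≫ φ)) E).left.appTop.hom (x : ULift _).down =
    (EtOver.bcπ (hDr _ _ (κ ≫ φ)) E).left.appTop.hom (y : ULift _).down
  rw [← hl, ← InvLim.appTop_comp, ← InvLim.appTop_comp]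
  exact congrArg (fun z => l.left.appTop.hom (ULift.down z)) h

section rel

variable {L : ModEt c.pt} {i : I} {W : EtOver (D.obj i)} (e : sec L ((EtOver.bc (hrep i)).obj W))
  {γ : (OEtRing (D.obj i)).obj.obj (op (EtOver.prodObj W W))}

/-- The relation satisfied by the section `e` and the function `γ`. -/
def HasRel (γ : (OEtRing (D.obj i)).obj.obj (op (EtOver.prodObj W W))) : Prop :=
  res L ((EtOver.bc (hrep i)).map (EtOver.prodFst W W)) e =
    rmap (bcRingHom (hrep i)) _ γ • res L ((EtOver.bc (hrep i)).map (EtOver.prodSnd W W)) e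

variable {hrep e} (hγ : HasRel hrep e γ)

include hγ in
theorem rel_pair {E : EtOver (D.obj i)} (a b : E ⟶ W) : res L ((EtOver.bc (hrep i)).map a) e =
    rmap (bcRingHom (hrep i)) E (InvLim.rr (pair a b) γ) • res L ((EtOver.bc (hrep i)).map b) e := by
  have h1 : (EtOver.bc (hrep i)).map a =
    (EtOver.bc (hrep i)).map (pair a b) ≫ (EtOver.bc (hrep i)).map (EtOver.prodFst W W) := by
    rw [← Functor.map_comp, pair_fst]
  have h2 : (EtOver.bc (hrep i)).map b =
    (EtOver.bc (hrep i)).map (pair a b) ≫ (EtOver.bc (hrep i)).map (EtOver.prodSnd W W) := by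
    rw [← Functor.map_comp, pair_snd]
  rw [h1, h2, res_comp, res_comp, rmap_rr]
  have h3 : res L ((EtOver.bc (hrep i)).map (EtOver.prodFst W W)) e =
    rmap (bcRingHom (hrep i)) _ γ • res L ((EtOver.bc (hrep i)).map (EtOver.prodSnd W W)) e := hγ
  rw [h3, res_smul]
  rfl

variable {j : I} (φ : j ⟶ i)

include hγ in
theorem rel_mu {E : EtOver (D.obj j)} (a b : E ⟶ (EtOver.bc (hDr _ _ φ)).obj W) :
    res L ((EtOver.bc (hrep j)).map a) (res L (mu hDr hrep φ W) e) =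
      rmap (bcRingHom (hrep j)) E (InvLim.rr (bpair (hDr _ _ φ) a b) (rmap (bcRingHom (hDr _ _ φ)) _ γ)) •
        res L ((EtOver.bc (hrep j)).map b) (res L (mu hDr hrep φ W) e) := by
  have h0 : ∀ (d : E ⟶ (EtOver.bc (hDr _ _ φ)).obj W) (p : EtOver.prodObj W W ⟶ W)
      (_ : bpair (hDr _ _ φ) a b ≫ (EtOver.bc (hDr _ _ φ)).map p = d),
      res L ((EtOver.bc (hrep j)).map d) (res L (mu hDr hrep φ W) e) =
        res L ((EtOver.bc (hrep j)).map (bpair (hDr _ _ φ) a b)) (res L (mu hDr hrep φ (EtOver.prodObj W W))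
          (res L ((EtOver.bc (hrep i)).map p) e)) := by
    intro d p hd
    rw [← res_comp, ← res_comp, ← res_comp, ← hd, Functor.map_comp, Category.assoc, mu_nat, Category.assoc]
  rw [h0 a _ (bpair_fst _ a b), h0 b _ (bpair_snd _ a b)]
  have h3 : res L ((EtOver.bc (hrep i)).map (EtOver.prodFst W W)) e =
    rmap (bcRingHom (hrep i)) _ γ • res L ((EtOver.bc (hrep i)).map (EtOver.prodSnd W W)) e := hγ
  rw [h3, res_smul, res_smul, rmap_rr, rmap_rmap]
  rfl

end rel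

variable [IsCofiltered I] (hDa : ∀ (i j : I) (φ : i ⟶ j), IsAffineMor (D.map φ)) (hc : IsLimit c)

omit [IsCofiltered I] in
include hDa in
theorem isAffine_bc {i j : I} (φ : j ⟶ i) (W : EtOver (D.obj i)) (hW : IsAffine (sch W)) :
    IsAffine (sch ((EtOver.bc (hDr _ _ φ)).obj W)) := by
  have h1 : IsAffineHom (EtOver.bcπ (hDr _ _ φ) W).left :=
    (K597.Affine.repWith_of_isAffineMor (hDa _ _ φ)).2 _ _ _ (EtOver.isPullback_bcObj (hDr _ _ φ) W)
  have h2 : IsAffine W.obj.left.left := hW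
  exact isAffine_of_isAffineHom (Y := W.obj.left.left) (EtOver.bcπ (hDr _ _ φ) W).left

theorem surj_bc {X Y : Sp S} {f : X ⟶ Y} (hf : Representable f) (W : EtOver Y) (hW : RepWith @Surjective W.obj.hom) :
    RepWith @Surjective ((EtOver.bc hf).obj W).obj.hom :=
  MorphismProperty.of_isPullback (P := RepWith @Surjective) (EtOver.isPullback_bcObj hf W).flip hW

include hDr hDa hc in
/-- The transition function of a generator exists at a finite level. -/
theorem exists_rel [QuasiSeparatedSpace ↥S] (hqs : ∀ i, IsQuasiSeparatedSp (D.obj i)) {L : ModEt c.pt} {i : I}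
    (W : EtOver (D.obj i)) (hWa : IsAffine (sch W)) (hWs : RepWith @Surjective W.obj.hom)
    (e : sec L ((EtOver.bc (hrep i)).obj W)) (he : IsGen L e) :
    ∃ (j : I) (W' : EtOver (D.obj j)) (_ : IsAffine (sch W')) (_ : RepWith @Surjective W'.obj.hom)
      (e' : sec L ((EtOver.bc (hrep j)).obj W')) (_ : IsGen L e')
      (γ : (OEtRing (D.obj j)).obj.obj (op (EtOver.prodObj W' W'))), HasRel hrep e' γ := by
  obtain ⟨r₀, hr₀⟩ := (he ((EtOver.bc (hrep i)).map (EtOver.prodSnd W W))).2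
    (res L ((EtOver.bc (hrep i)).map (EtOver.prodFst W W)) e)
  have hq := K643.Qcqs.prod_qcqs (hqs i) (K643.Qcqs.qcqs_of_isAffine hWa) (K643.Qcqs.qcqs_of_isAffine hWa)
  have h1 : CompactSpace (sch (EtOver.prodObj W W)) := hq.1
  have h2 : QuasiSeparatedSpace (sch (EtOver.prodObj W W)) := hq.2
  obtain ⟨j, φ, t, ht⟩ := exists_fun hDr hrep hDa hc (EtOver.prodObj W W) r₀
  let W' := (EtOver.bc (hDr _ _ φ)).obj W
  let ψ : EtOver.prodObj W' W' ⟶ (EtOver.bc (hDr _ _ φ)).obj (EtOver.prodObj W W) :=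
    bpair (hDr _ _ φ) (EtOver.prodFst W' W') (EtOver.prodSnd W' W')
  refine ⟨j, W', isAffine_bc hDr hDa φ W hWa, surj_bc _ W hWs, res L (mu hDr hrep φ W) e, he.res _,
    InvLim.rr ψ t, ?_⟩
  have h0 : ∀ (d : EtOver.prodObj W' W' ⟶ W') (p : EtOver.prodObj W W ⟶ W)
      (_ : ψ ≫ (EtOver.bc (hDr _ _ φ)).map p = d),
      res L ((EtOver.bc (hrep j)).map d) (res L (mu hDr hrep φ W) e) =
        res L ((EtOver.bc (hrep j)).map ψ) (res L (mu hDr hrep φ (EtOver.prodObj W W))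
          (res L ((EtOver.bc (hrep i)).map p) e)) := by
    intro d p hd
    rw [← res_comp, ← res_comp, ← res_comp, ← hd, Functor.map_comp, Category.assoc, mu_nat, Category.assoc]
  unfold HasRel
  rw [h0 _ _ (bpair_fst _ _ _), h0 _ _ (bpair_snd _ _ _), rmap_rr]
  have hr₀' : r₀ • res L ((EtOver.bc (hrep i)).map (EtOver.prodSnd W W)) e =
    res L ((EtOver.bc (hrep i)).map (EtOver.prodFst W W)) e := hr₀
  rw [← hr₀', res_smul, res_smul]
  congr 1
  exact (congrArg (InvLim.rr ((EtOver.bc (hrep j)).map ψ)) ht).symm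

include hDr hDa hc in
/-- Invertible modules on the limit come from a finite level. -/
theorem main [QuasiSeparatedSpace ↥S] (hqc : ∀ i, IsQuasiCompactSp (D.obj i)) (hqs : ∀ i, IsQuasiSeparatedSp (D.obj i))
    [∀ i, (SheafOfModules.pushforward.{u + 1} (bcRingHom (hrep i))).IsRightAdjoint]
    (L : ModEt c.pt) (hL : IsInvertibleEt L) :
    ∃ (i : I) (Li : ModEt (D.obj i)), IsInvertibleEt Li ∧ Nonempty ((pullModEt (hrep i)).obj Li ≅ L) := by
  obtain ⟨i₀, W₀, hW₀a, hW₀s, e₀, he₀⟩ := InvChart.exists_level hDr hrep hDa hc hqc hL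
  obtain ⟨i, W, hWa, hWs, e, he, γ, hγ⟩ := exists_rel hDr hrep hDa hc hqs W₀ hW₀a hW₀s e₀ he₀
  -- the two relations
  let P2 := EtOver.prodObj W W
  let P3 := EtOver.prodObj P2 W
  let q : P3 ⟶ P2 := EtOver.prodFst P2 W
  let q₃ : P3 ⟶ W := EtOver.prodSnd P2 W
  let p₂₃ : P3 ⟶ P2 := pair (q ≫ EtOver.prodSnd W W) q₃
  let p₁₃ : P3 ⟶ P2 := pair (q ≫ EtOver.prodFst W W) q₃
  have hrel1 : rmap (bcRingHom (hrep i)) P3 (InvLim.rr q γ * InvLim.rr p₂₃ γ) =
      rmap (bcRingHom (hrep i)) P3 (InvLim.rr p₁₃ γ) := by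
    apply (he ((EtOver.bc (hrep i)).map q₃)).1
    change rmap (bcRingHom (hrep i)) P3 (InvLim.rr q γ * InvLim.rr p₂₃ γ) • res L ((EtOver.bc (hrep i)).map q₃) e =
      rmap (bcRingHom (hrep i)) P3 (InvLim.rr p₁₃ γ) • res L ((EtOver.bc (hrep i)).map q₃) e
    rw [map_mul, mul_smul, ← rel_pair hγ, ← rel_pair hγ]
    have hq : pair (q ≫ EtOver.prodFst W W) (q ≫ EtOver.prodSnd W W) = q :=
      BinaryFan.IsLimit.hom_ext (EtOver.prodIsLimit W W) (pair_fst _ _) (pair_snd _ _)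
    have h1 := rel_pair hγ (q ≫ EtOver.prodFst W W) (q ≫ EtOver.prodSnd W W)
    rw [hq] at h1
    exact h1.symm
  have hrel2 : rmap (bcRingHom (hrep i)) W (InvLim.rr (pair (𝟙 W) (𝟙 W)) γ) = rmap (bcRingHom (hrep i)) W 1 := by
    apply (he (𝟙 _)).1
    change rmap (bcRingHom (hrep i)) W (InvLim.rr (pair (𝟙 W) (𝟙 W)) γ) • res L (𝟙 _) e =
      rmap (bcRingHom (hrep i)) W 1 • res L (𝟙 _) e
    have h1 := rel_pair hγ (𝟙 W) (𝟙 W)
    rw [CategoryTheory.Functor.map_id] at h1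
    rw [← h1, map_one, one_smul]
  have hqW := K643.Qcqs.qcqs_of_isAffine hWa
  have hq2 := K643.Qcqs.prod_qcqs (hqs i) hqW hqW
  have hq3 := K643.Qcqs.prod_qcqs (hqs i) hq2 hqW
  have hcW : CompactSpace (sch W) := hqW.1
  have hc3 : CompactSpace (sch P3) := hq3.1
  obtain ⟨j₁, φ₁, hφ₁⟩ := InvLim.exists_eq hDr hrep hDa hc P3 _ _ hrel1
  obtain ⟨j₂, φ₂, hφ₂⟩ := InvLim.exists_eq hDr hrep hDa hc W _ _ hrel2
  obtain ⟨j, κ₁, κ₂, hκ⟩ := IsCofiltered.cospan φ₁ φ₂
  let φ : j ⟶ i := κ₁ ≫ φ₁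
  have hR1 : rmap (bcRingHom (hDr _ _ φ)) P3 (InvLim.rr q γ * InvLim.rr p₂₃ γ) =
      rmap (bcRingHom (hDr _ _ φ)) P3 (InvLim.rr p₁₃ γ) := rmap_eq_of_comp hDr φ₁ κ₁ hφ₁
  have hR2 : rmap (bcRingHom (hDr _ _ φ)) W (InvLim.rr (pair (𝟙 W) (𝟙 W)) γ) =
      rmap (bcRingHom (hDr _ _ φ)) W 1 := by
    have h1 := rmap_eq_of_comp hDr φ₂ κ₂ hφ₂
    have h2 : φ = κ₂ ≫ φ₂ := hκ
    rw [h2]
    exact h1
  let F := EtOver.bc (hDr _ _ φ)
  let W' := F.obj W
  let z := rmap (bcRingHom (hDr _ _ φ)) P2 γ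
  let co : Coc (OEtRing (D.obj j)) W' :=
    { g := fun a b => InvLim.rr (bpair (hDr _ _ φ) a b) z
      nat := fun k a b => by
        change InvLim.rr k (InvLim.rr (bpair (hDr _ _ φ) a b) z) = _
        rw [← rr_comp']
        congr 2
        apply bpair_ext
        · rw [Category.assoc, bpair_fst, bpair_fst]
        · rw [Category.assoc, bpair_snd, bpair_snd]
      one := fun a => by
        have h1 : bpair (hDr _ _ φ) a a = a ≫ F.map (pair (𝟙 W) (𝟙 W)) := by
          apply bpair_ext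
          · rw [bpair_fst, Category.assoc, ← Functor.map_comp, pair_fst, CategoryTheory.Functor.map_id, Category.comp_id]
          · rw [bpair_snd, Category.assoc, ← Functor.map_comp, pair_snd, CategoryTheory.Functor.map_id, Category.comp_id]
        rw [h1, rr_comp', ← rmap_rr, hR2, map_one, map_one]
      mul := fun {E} a b d => by
        let τ : E ⟶ F.obj P3 := bpair (hDr _ _ φ) (bpair (hDr _ _ φ) a b) d
        have hq1 : τ ≫ F.map q = bpair (hDr _ _ φ) a b := bpair_fst _ _ _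
        have hq2 : τ ≫ F.map q₃ = d := bpair_snd _ _ _
        have h1 : bpair (hDr _ _ φ) b d = τ ≫ F.map p₂₃ := by
          apply bpair_ext
          · rw [bpair_fst, Category.assoc, ← F.map_comp, pair_fst, F.map_comp, ← Category.assoc, hq1, bpair_snd]
          · rw [bpair_snd, Category.assoc, ← F.map_comp, pair_snd, hq2]
        have h2 : bpair (hDr _ _ φ) a d = τ ≫ F.map p₁₃ := by
          apply bpair_ext
          · rw [bpair_fst, Category.assoc, ← F.map_comp, pair_fst, F.map_comp, ← Category.assoc, hq1, bpair_fst]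
          · rw [bpair_snd, Category.assoc, ← F.map_comp, pair_snd, hq2]
        rw [h1, h2, ← hq1, rr_comp', rr_comp', rr_comp', ← rmap_rr, ← rmap_rr, ← rmap_rr, ← map_mul, ← map_mul, hR1] }
  have hW's : RepWith @Surjective W'.obj.hom := surj_bc _ W hWs
  refine ⟨j, GenCoc.mod.{u, u + 1} co, fun U => ?_, ?_⟩
  · refine ⟨PUnit.{u + 2}, fun _ => EtOver.prodObj U W', fun _ => EtOver.prodFst U W', ?_, fun _ => ?_⟩
    · rw [ofArrows_mem_etPre_iff]
      intro x
      have h1 : Surjective (EtOver.prodFst U W').hom.left.left :=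
        hW's.2 U.obj.hom _ _ (W'.property.1.isPullback U.obj.hom)
      obtain ⟨y, hy⟩ := h1.surj x
      exact ⟨⟨⟩, y, hy⟩
    · exact nonempty_over_iso ((GenCoc.isGen.{u, u + 1} co).res (EtOver.prodSnd U W')) isGen_one
  · refine GenPull.nonempty_iso (bcRingHom (hrep j)) (coversTop_of_surjective W' hW's)
      (coversTop_of_surjective _ (surj_bc (hrep j) W' hW's)) (GenCoc.isGen.{u, u + 1} co) (he.res (mu hDr hrep φ W))
      (fun E a b => ⟨EtOver.prodObj W' W', EtOver.prodFst W' W', EtOver.prodSnd W' W', bpair (hrep j) a b,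
        bpair_fst _ _ _, bpair_snd _ _ _⟩) ?_
    intro P a b r hr
    have h1 : r = co.g b a := by
      apply (GenCoc.isGen.{u, u + 1} co a).1
      exact hr.symm.trans (GenCoc.res_gen.{u, u + 1} co a b)
    rw [h1]
    exact rel_mu hDr hγ φ b a

end K605.InvMain
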