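import Groth.Agent.AlgSp.K600.LimAff
import Groth.Agent.AlgSp.K600.Ideal
import Groth.Agent.AlgSp.K605.Nhd
import Groth.Agent.AlgSp.K610.Factor

/-!
# Limits of closed subspaces of a cofiltered system with affine transition maps

`isLimit_of_charts`: criterion for `Z = lim Z_i` for closed subspaces `Z_i ⊂ X_i`, `Z ⊂ X = lim X_i`, in terms of the
ideals on affine étale charts of one `X_{i₀}`.
-/

universe u

open CategoryTheory CategoryTheory.Limits AlgebraicGeometry Opposite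
open AlgSp

set_option backward.isDefEq.respectTransparency false

namespace K605.LimCl

open K600.LimSys K600.LimAff

variable {S : Scheme.{u}} {I : Type u} [SmallCategory I] {D : I ⥤ Sp S}

/-- The limit of closed subspaces, from a factorisation property of maps from schemes. -/
theorem isLimit_of_factor {c : Cone D} (hc : IsLimit c) {Z : Sp S} {zι : Z ⟶ c.pt} [Mono zι]
    {DZ : I ⥤ Sp S} (ι : DZ ⟶ D) (hι : ∀ i, Mono (ι.app i)) (ξ : (Functor.const I).obj Z ⟶ DZ)
    (hξ : ∀ i, ξ.app i ≫ ι.app i = zι ≫ c.π.app i)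
    (H : ∀ (T : Over S) (h : (yon S).obj T ⟶ c.pt), (∀ i, ∃ k, k ≫ ι.app i = h ≫ c.π.app i) → ∃ k, k ≫ zι = h) :
    Nonempty (IsLimit (Cone.mk Z ξ)) := by
  have key : ∀ t : Cone DZ, ∃ l : t.pt ⟶ Z, (∀ i, l ≫ ξ.app i = t.π.app i) ∧
      ∀ m : t.pt ⟶ Z, (∀ i, m ≫ ξ.app i = t.π.app i) → m = l := by
    intro t
    let t' : Cone D := Cone.mk t.pt (t.π ≫ ι)
    have hy : ∀ i, hc.lift t' ≫ c.π.app i = t.π.app i ≫ ι.app i := fun i => hc.fac t' i
    obtain ⟨l, hl⟩ := K610.Factor.exists_factor_of_yon zι (hc.lift t') (fun T g =>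
      H T (g ≫ hc.lift t') fun i => ⟨g ≫ t.π.app i, by rw [Category.assoc, Category.assoc, hy]⟩)
    refine ⟨l, fun i => ?_, fun m hm => ?_⟩
    · have := hι i
      rw [← cancel_mono (ι.app i), Category.assoc, hξ, ← Category.assoc, hl, hy]
    · rw [← cancel_mono zι, hl]
      refine hc.hom_ext fun i => ?_
      rw [Category.assoc, ← hξ, ← Category.assoc, hm, hy]
  exact ⟨{ lift := fun t => (key t).choose
           fac := fun t j => (key t).choose_spec.1 j
           uniq := fun t m hm => (key t).choose_spec.2 m hm }⟩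

/-- A map from an affine scheme over an affine chart factors through a closed subspace iff it kills the ideal. -/
theorem exists_lift_of_ker {X Z : Sp S} {i : Z ⟶ X} {V Q T : Over S} {a : (yon S).obj V ⟶ X} {z : (yon S).obj Q ⟶ Z}
    {m : Q ⟶ V} (sq : IsPullback z ((yon S).map m) i a) [IsAffine V.left] [IsClosedImmersion m.left] (t : T ⟶ V)
    (h : ∀ f, m.left.appTop f = 0 → t.left.appTop f = 0) : ∃ k, k ≫ i = (yon S).map t ≫ a := by
  obtain ⟨l, hl⟩ := K600.Ideal.exists_lift_of_ker_le m.left t.left h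
  let l' : T ⟶ Q := Over.homMk l (by
    rw [← Over.w m, ← Category.assoc, hl, Over.w t])
  have hl' : l' ≫ m = t := by
    ext
    exact hl
  refine ⟨(yon S).map l' ≫ z, ?_⟩
  rw [Category.assoc, sq.w, ← Category.assoc, ← Functor.map_comp, hl']

theorem kills_of_factor {X Z : Sp S} {i : Z ⟶ X} {V Q T : Over S} {a : (yon S).obj V ⟶ X} {z : (yon S).obj Q ⟶ Z}
    {m : Q ⟶ V} (sq : IsPullback z ((yon S).map m) i a) (t : T ⟶ V) (k : (yon S).obj T ⟶ Z)
    (h : k ≫ i = (yon S).map t ≫ a) (f : Γ(V.left, ⊤)) (hf : m.left.appTop f = 0) : t.left.appTop f = 0 := by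
  obtain ⟨l, -, hl⟩ := K600.Basic.exists_lift sq k t h
  rw [← hl, Over.comp_left, Scheme.Hom.comp_appTop, CommRingCat.comp_apply, hf, map_zero]

theorem isLimit_of_charts [IsCofiltered I] (hD : ∀ i, IsAlgSpace (D.obj i))
    (hDa : ∀ (i j : I) (φ : i ⟶ j), IsAffineMor (D.map φ)) {c : Cone D} (hc : IsLimit c)
    {Z : Sp S} {zι : Z ⟶ c.pt} (hz : RepWith @IsClosedImmersion zι) {DZ : I ⥤ Sp S} (ι : DZ ⟶ D)
    (hι : ∀ i, RepWith @IsClosedImmersion (ι.app i)) (ξ : (Functor.const I).obj Z ⟶ DZ)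
    (hξ : ∀ i, ξ.app i ≫ ι.app i = zι ≫ c.π.app i) (i₀ : I)
    (H : ∀ (U : Over S) (p : (yon S).obj U ⟶ D.obj i₀) (s : Sys D i₀ p) (V : Over S) (a : (yon S).obj V ⟶ c.pt)
      (b : V ⟶ U) (sq : IsPullback a ((yon S).map b) (c.π.app i₀) p) (Q : Over S) (z : (yon S).obj Q ⟶ Z) (m : Q ⟶ V),
      IsAffine U.left → RepWith @Etale p → (∀ j, IsAffine (s.obj j).left) → IsAffine V.left →
      IsPullback z ((yon S).map m) zι a → ∀ f : Γ(V.left, ⊤), m.left.appTop f = 0 →
      ∃ (j : Over i₀) (g : Γ((s.obj j).left, ⊤)), (s.proj sq j).left.appTop g = f ∧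
        ∀ (E : Over S) (n : E ⟶ s.obj j) (e : (yon S).obj E ⟶ DZ.obj j.left),
          IsPullback e ((yon S).map n) (ι.app j.left) (s.fst j) → n.left.appTop g = 0) :
    Nonempty (IsLimit (Cone.mk Z ξ)) := by
  have hzm : Mono zι := K600.Ideal.mono_of_isClosedImmersion hz
  refine isLimit_of_factor hc ι (fun i => K600.Ideal.mono_of_isClosedImmersion (hι i)) ξ hξ fun T h hT => ?_
  have key : ∀ t : T.left, ∃ (T' : Over S) (γ : T' ⟶ T) (t' : T'.left), IsAffine T'.left ∧ Etale γ.left ∧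
      γ.left t' = t ∧ ∃ k, k ≫ zι = (yon S).map γ ≫ h := by
    intro t
    obtain ⟨U, p, u₀, hU, hp, hu₀⟩ := K605.Nhd.exists_affine_nhd (hD i₀) (Points.ofPt (h ≫ c.π.app i₀) t)
    obtain ⟨T', γ', α, t', hT', hγ', hγt, hα, hcomm⟩ := K605.Nhd.exists_affine_nhd_over (IsAlgSpace.yon_obj T) (hD i₀)
      (h ≫ c.π.app i₀) hp (Points.ofPt (𝟙 _) t) u₀ (by rw [hu₀]; exact (Points.map_ofPt _ _ _).trans (by rw [Category.id_comp]))
    obtain ⟨γ, rfl⟩ := (yon S).map_surjective γ'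
    refine ⟨T', γ, t', hT', (repWith_yon_map_iff _ _).1 hγ', ?_, ?_⟩
    · have := congrArg (Points.toScheme T) hγt
      rwa [Points.toScheme_ofPt, Points.toScheme_ofScheme] at this
    obtain ⟨s, V, a, b, hs, hV, sq⟩ := exists_sys_of_affine hDa hc hU p
    obtain ⟨t₁, ht₁, ht₁'⟩ := K600.Basic.exists_lift sq ((yon S).map γ ≫ h) α (by rw [Category.assoc, hcomm])
    obtain ⟨Q, m, z, sqQ⟩ := hz.1 a
    have hm : IsClosedImmersion m.left := hz.2 _ _ _ sqQ
    obtain ⟨k, hk⟩ := exists_lift_of_ker sqQ t₁ (fun f hf => by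
      obtain ⟨j, g, rfl, hg⟩ := H U p s V a b sq Q z m hU hp hs hV sqQ f hf
      obtain ⟨E, n, e, sqE⟩ := (hι j.left).1 (s.fst j)
      obtain ⟨k, hk⟩ := hT j.left
      have := kills_of_factor sqE (t₁ ≫ s.proj sq j) ((yon S).map γ ≫ k) (by
        rw [Category.assoc, hk, Functor.map_comp, Category.assoc, s.proj_fst, ← Category.assoc, ← Category.assoc, ht₁])
        g (hg E n e sqE)
      rwa [Over.comp_left, Scheme.Hom.comp_appTop, CommRingCat.comp_apply] at this)
    exact ⟨k, hk.trans ht₁⟩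
  choose T' γ t' h1 h2 h3 h4 using key
  refine K600.Ideal.exists_factor_of_cover h T' γ (fun t => ?_) (fun t => ?_) (fun t => ⟨t, t' t, h3 t⟩) h4
  · have := h2 t
    infer_instance
  · have := h2 t
    infer_instance

end K605.LimCl
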