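import Groth.Agent.AlgSp.K605.LimCl
import Groth.Agent.AlgSp.K612.Reduced
import Groth.Agent.AlgSp.K610.Base

/-!
# Closures of points in cofiltered limits with affine transition maps
-/

universe u

open CategoryTheory CategoryTheory.Limits AlgebraicGeometry Opposite Topology
open AlgSp

set_option backward.isDefEq.respectTransparency false

namespace K605.LimClosure

open K600.LimSys K600.LimAff

variable {S : Scheme.{u}} {I : Type u} [SmallCategory I] {D : I ⥤ Sp S} {i : I} {U : Over S}
  {p : (yon S).obj U ⟶ D.obj i} (s : Sys D i p) {c : Cone D} {V : Over S} {a : (yon S).obj V ⟶ c.pt} {b : V ⟶ U}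
  (sq : IsPullback a ((yon S).map b) (c.π.app i) p)

theorem exists_section [IsCofiltered I] (hc : IsLimit c) (hs : ∀ j, IsAffine (s.obj j).left) (f : Γ(V.left, ⊤)) :
    ∃ (j : Over i) (g : Γ((s.obj j).left, ⊤)), (s.proj sq j).left.appTop g = f := by
  have : ∀ j, IsAffine ((s.W ⋙ Over.forget S).obj j) := hs
  exact exists_appTop_π_eq_of_isAffine_of_isLimit (s.W ⋙ Over.forget S) _ (s.isLimitConeLeft sq hc) f

/-- A point of a stage of the system of charts over the image of `x` comes from a point of the limit chart over `x`. -/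
theorem exists_point (x : Points c.pt) (j : Over i) (w : (s.obj j).left)
    (h : Points.ofPt (s.fst j) w = Points.map (c.π.app j.left) x) :
    ∃ v : V.left, Points.ofPt a v = x ∧ (s.proj sq j).left v = w :=
  K610.Base.exists_of_isPullback_yon (s.isPullback_proj sq j) x w h.symm

theorem ofPt_fst_proj (j : Over i) (v : V.left) :
    Points.ofPt (s.fst j) ((s.proj sq j).left v) = Points.map (c.π.app j.left) (Points.ofPt a v) := by
  rw [← K610.Base.ofPt_map_comp, s.proj_fst, K610.Base.ofPt_comp]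

/-- If a point of a stage chart over the closure of the image of `x` lies in an open `W`, there is a point of `W`
under `x`. -/
theorem exists_point_of_closure (hp : RepWith @Etale p) (x : Points c.pt) (j : Over i) (w : (s.obj j).left)
    (h : Points.ofPt (s.fst j) w ∈ closure {Points.map (c.π.app j.left) x}) (W : (s.obj j).left.Opens) (hw : w ∈ W) :
    ∃ v : V.left, Points.ofPt a v = x ∧ (s.proj sq j).left v ∈ W := by
  have hop : IsOpen (Points.ofPt (s.fst j) '' W) :=
    K610.Base.isOpenMap_ofPt_etale (repWith_fst s hp j) _ W.2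
  obtain ⟨_, ⟨w', hw', hw'2⟩, hx⟩ := mem_closure_iff.1 h _ hop ⟨w, hw, rfl⟩
  obtain ⟨v, hv, hv'⟩ := exists_point s sq x j w' (hw'2.trans hx)
  exact ⟨v, hv, by rw [hv']; exact hw'⟩

include sq in
theorem mem_closure_of_forall [IsCofiltered I] (hc : IsLimit c) (hs : ∀ j, IsAffine (s.obj j).left)
    [IsAffine V.left] (hp : RepWith @Etale p) (x : Points c.pt) (v' : V.left)
    (h : ∀ i, Points.map (c.π.app i) (Points.ofPt a v') ∈ closure {Points.map (c.π.app i) x}) :
    Points.ofPt a v' ∈ closure {x} := by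
  rw [mem_closure_iff]
  intro O hO hxO
  have h1 : IsOpen (Points.ofPt a ⁻¹' O) := hO.preimage (Points.continuous_ofPt a)
  obtain ⟨_, ⟨_, ⟨f, rfl⟩, rfl⟩, hf, hfO⟩ := (isBasis_basicOpen V.left).exists_subset_of_mem_open hxO h1
  obtain ⟨j, g, rfl⟩ := exists_section s sq hc hs f
  have e : V.left.basicOpen ((s.proj sq j).left.appTop g) = (s.proj sq j).left ⁻¹ᵁ (s.obj j).left.basicOpen g :=
    (Scheme.preimage_basicOpen_top _ _).symm
  rw [e] at hf hfO
  obtain ⟨v, rfl, hv⟩ := exists_point_of_closure s sq hp x j ((s.proj sq j).left v') (by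
    rw [ofPt_fst_proj]; exact h j.left) ((s.obj j).left.basicOpen g) hf
  exact ⟨_, hfO hv, rfl⟩

theorem closure_eq [IsCofiltered I] (hD : ∀ i, IsAlgSpace (D.obj i))
    (hDa : ∀ (i j : I) (φ : i ⟶ j), IsAffineMor (D.map φ)) (hc : IsLimit c) (x : Points c.pt) :
    closure {x} = {x' | ∀ i, Points.map (c.π.app i) x' ∈ closure {Points.map (c.π.app i) x}} := by
  apply Set.Subset.antisymm
  · intro x' hx' i
    have h := image_closure_subset_closure_image (Points.continuous_map (c.π.app i)) (s := {x})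
    rw [Set.image_singleton] at h
    exact h ⟨x', hx', rfl⟩
  · intro x' hx'
    obtain ⟨i⟩ := IsCofiltered.nonempty (C := I)
    obtain ⟨U, p, u, hU, hp, hu⟩ := K605.Nhd.exists_affine_nhd (hD i) (Points.map (c.π.app i) x')
    obtain ⟨s, V, a, b, hs, hV, sq⟩ := exists_sys_of_affine hDa hc hU p
    obtain ⟨v', rfl, -⟩ := K610.Base.exists_of_isPullback_yon sq x' u hu.symm
    exact mem_closure_of_forall s sq hc hs hp x v' hx'

theorem isLimit_closure [IsCofiltered I] (hD : ∀ i, IsAlgSpace (D.obj i))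
    (hDa : ∀ (i j : I) (φ : i ⟶ j), IsAffineMor (D.map φ)) (hc : IsLimit c) (x : Points c.pt)
    {Z : Sp S} (zι : Z ⟶ c.pt) (hz : IsRedInduced (closure {x}) zι)
    (DZ : I ⥤ AlgSp.Sp S) (ι : DZ ⟶ D)
    (hι : ∀ i, AlgSp.IsRedInduced (closure {AlgSp.Points.map (c.π.app i) x}) (ι.app i))
    (ξ : (Functor.const I).obj Z ⟶ DZ) (hξ : ∀ i, ξ.app i ≫ ι.app i = zι ≫ c.π.app i) :
    Nonempty (IsLimit (Cone.mk Z ξ)) := by
  obtain ⟨i₀⟩ := IsCofiltered.nonempty (C := I)
  refine LimCl.isLimit_of_charts hD hDa hc hz.1 ι (fun i => (hι i).1) ξ hξ i₀ ?_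
  intro U p s V a b sq Q z m hU hp hs hV sqQ f hf
  obtain ⟨j, g, rfl⟩ := exists_section s sq hc hs f
  refine ⟨j, g, rfl, fun E n e sqE => ?_⟩
  have he : RepWith @Etale e := MorphismProperty.of_isPullback (P := RepWith @Etale) sqE.flip (repWith_fst s hp j)
  have hE : IsReduced E.left := K612.Reduced.isReduced_of_isReducedSp (hι j.left).2.2 e he
  rw [← basicOpen_eq_bot_iff, ← Scheme.preimage_basicOpen_top, eq_bot_iff]
  intro y hy
  have hy' : n.left y ∈ (s.obj j).left.basicOpen g := hy
  obtain ⟨v, hv, hv'⟩ := exists_point_of_closure s sq hp x j (n.left y) (by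
    rw [← (hι j.left).2.1, ← K610.Base.ofPt_map_comp, ← sqE.w, K610.Base.ofPt_comp]
    exact ⟨_, rfl⟩) _ hy'
  obtain ⟨ζ, hζ⟩ : x ∈ Set.range (Points.map zι) := by
    rw [hz.2.1]
    exact subset_closure rfl
  obtain ⟨q, -, hq⟩ := K610.Base.exists_of_isPullback_yon sqQ ζ v (hζ.trans hv.symm)
  exfalso
  have h1 : q ∈ Q.left.basicOpen (m.left.appTop ((s.proj sq j).left.appTop g)) := by
    rw [← Scheme.preimage_basicOpen_top, ← Scheme.preimage_basicOpen_top]
    change (s.proj sq j).left (m.left q) ∈ (s.obj j).left.basicOpen g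
    rw [hq]
    exact hv'
  rw [hf] at h1
  simp at h1

end K605.LimClosure
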