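import Mathlib.RingTheory.LocalRing.ResidueField.Fiber
import Mathlib.RingTheory.TensorProduct.Nontrivial
import Mathlib.RingTheory.FinitePresentation
import Mathlib.RingTheory.TensorProduct.Maps

/-!
# Opens of `Spec (B ⊗ C)` containing a fibre over `Spec C` come from a finitely presented model

Ring level lemma for S10072.
-/

set_option autoImplicit false

universe u

open TensorProduct PrimeSpectrum

namespace K605.SepRing

variable {A B C : Type u} [CommRing A] [CommRing B] [CommRing C] [Algebra A B] [Algebra A C]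

/-- Fields over a common ring, kernels equal to the same prime, amalgamate. -/
theorem exists_amalg {C' K₁ K₂ : Type u} [CommRing C'] [Field K₁] [Field K₂] (φ₁ : C' →+* K₁) (φ₂ : C' →+* K₂)
    (h : RingHom.ker φ₁ = RingHom.ker φ₂) :
    ∃ (Ω : Type u) (_ : Field Ω) (i₁ : K₁ →+* Ω) (i₂ : K₂ →+* Ω), i₁.comp φ₁ = i₂.comp φ₂ := by
  have hp : (RingHom.ker φ₁).IsPrime := RingHom.ker_isPrime φ₁
  let D := C' ⧸ RingHom.ker φ₁
  have : IsDomain D := Ideal.Quotient.isDomain _
  let ψ₁ : D →+* K₁ := Ideal.Quotient.lift _ φ₁ (fun a ha => ha)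
  let ψ₂ : D →+* K₂ := Ideal.Quotient.lift _ φ₂ (fun a ha => by rw [h] at ha; exact ha)
  let _ := ψ₁.toAlgebra
  let _ := ψ₂.toAlgebra
  have i₁ : Function.Injective (algebraMap D K₁) := by
    change Function.Injective ψ₁
    exact RingHom.lift_injective_of_ker_le_ideal _ _ le_rfl
  have i₂ : Function.Injective (algebraMap D K₂) := by
    change Function.Injective ψ₂
    exact RingHom.lift_injective_of_ker_le_ideal _ _ (le_of_eq h.symm)
  have : Nontrivial (K₁ ⊗[D] K₂) :=
    Algebra.TensorProduct.nontrivial_of_algebraMap_injective_of_isDomain D K₁ K₂ i₁ i₂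
  obtain ⟨m, hm⟩ := Ideal.exists_maximal (K₁ ⊗[D] K₂)
  refine ⟨(K₁ ⊗[D] K₂) ⧸ m, Ideal.Quotient.field m,
    (Ideal.Quotient.mk m).comp Algebra.TensorProduct.includeLeftRingHom,
    (Ideal.Quotient.mk m).comp
      (Algebra.TensorProduct.includeRight (R := D) (A := K₁) (B := K₂)).toRingHom, ?_⟩
  ext x
  change Ideal.Quotient.mk m (algebraMap D K₁ (Ideal.Quotient.mk _ x) ⊗ₜ[D] (1 : K₂)) =
    Ideal.Quotient.mk m ((1 : K₁) ⊗ₜ[D] algebraMap D K₂ (Ideal.Quotient.mk _ x))
  rw [Algebra.TensorProduct.tmul_one_eq_one_tmul]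

/-- Points of a fibre product of affine schemes. -/
theorem exists_point {C' : Type u} [CommRing C'] [Algebra A C'] (φ : C' →ₐ[A] C) (p : PrimeSpectrum C)
    (q' : PrimeSpectrum (B ⊗[A] C'))
    (h : comap (Algebra.TensorProduct.includeRight : C' →ₐ[A] B ⊗[A] C').toRingHom q' =
      comap φ.toRingHom p) :
    ∃ q : PrimeSpectrum (B ⊗[A] C),
      comap (Algebra.TensorProduct.includeRight : C →ₐ[A] B ⊗[A] C).toRingHom q = p ∧
      comap (Algebra.TensorProduct.map (AlgHom.id A B) φ).toRingHom q = q' := by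
  let κ₁ := q'.asIdeal.ResidueField
  let κ₂ := p.asIdeal.ResidueField
  let f₁ : B ⊗[A] C' →+* κ₁ := algebraMap _ _
  let f₂ : C →+* κ₂ := algebraMap _ _
  have k₁ : RingHom.ker f₁ = q'.asIdeal := Ideal.ker_algebraMap_residueField _
  have k₂ : RingHom.ker f₂ = p.asIdeal := Ideal.ker_algebraMap_residueField _
  obtain ⟨Ω, _, i₁, i₂, hi⟩ := exists_amalg
    (f₁.comp (Algebra.TensorProduct.includeRight : C' →ₐ[A] B ⊗[A] C').toRingHom)
    (f₂.comp φ.toRingHom) (by
      rw [← RingHom.comap_ker, ← RingHom.comap_ker, k₁, k₂]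
      exact congrArg PrimeSpectrum.asIdeal h)
  let g₁ : B →+* Ω := (i₁.comp f₁).comp Algebra.TensorProduct.includeLeftRingHom
  let g₂ : C →+* Ω := i₂.comp f₂
  have hA : g₁.comp (algebraMap A B) = g₂.comp (algebraMap A C) := by
    have h1 : g₂.comp (algebraMap A C) = (i₂.comp (f₂.comp φ.toRingHom)).comp (algebraMap A C') := by
      ext a
      simp [g₂]
    rw [h1, ← hi]
    ext a
    simp only [g₁, RingHom.comp_apply]
    congr 2
    change (algebraMap A B a) ⊗ₜ[A] (1 : C') = (1 : B) ⊗ₜ[A] algebraMap A C' a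
    rw [Algebra.TensorProduct.tmul_one_eq_one_tmul]
  let _ : Algebra A Ω := (g₁.comp (algebraMap A B)).toAlgebra
  let G₁ : B →ₐ[A] Ω := { g₁ with commutes' := fun a => rfl }
  let G₂ : C →ₐ[A] Ω := { g₂ with commutes' := fun a => (congrArg (fun k => k a) hA).symm }
  let ψ : B ⊗[A] C →ₐ[A] Ω := Algebra.TensorProduct.lift G₁ G₂ (fun _ _ => Commute.all _ _)
  have hψ₂ : ψ.toRingHom.comp (Algebra.TensorProduct.includeRight : C →ₐ[A] B ⊗[A] C).toRingHom = g₂ := by
    ext c
    simp [ψ, G₂]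
  have hψ₁ : ψ.toRingHom.comp (Algebra.TensorProduct.map (AlgHom.id A B) φ).toRingHom = i₁.comp f₁ := by
    apply Algebra.TensorProduct.ringHom_ext
    · ext b
      simp [ψ, G₁, g₁]
    · ext c
      have := congrArg (fun k => k c) hi
      simp only [RingHom.comp_apply] at this
      simp only [RingHom.comp_apply]
      change ψ ((Algebra.TensorProduct.map (AlgHom.id A B) φ) ((1 : B) ⊗ₜ[A] c)) = i₁ (f₁ (1 ⊗ₜ[A] c))
      rw [Algebra.TensorProduct.map_tmul]
      refine Eq.trans ?_ this.symm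
      simp [ψ, G₁, G₂, g₂]
  refine ⟨⟨RingHom.ker ψ.toRingHom, RingHom.ker_isPrime _⟩, ?_, ?_⟩
  · apply PrimeSpectrum.ext
    change Ideal.comap _ (RingHom.ker ψ.toRingHom) = _
    rw [RingHom.comap_ker, hψ₂]
    change RingHom.ker (i₂.comp f₂) = _
    rw [← RingHom.comap_ker, (RingHom.injective_iff_ker_eq_bot i₂).1 i₂.injective]
    exact k₂
  · apply PrimeSpectrum.ext
    change Ideal.comap _ (RingHom.ker ψ.toRingHom) = _
    rw [RingHom.comap_ker, hψ₁]
    rw [← RingHom.comap_ker, (RingHom.injective_iff_ker_eq_bot i₁).1 i₁.injective]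
    exact k₁

theorem isCompact_fibre (p : PrimeSpectrum C) :
    IsCompact {q : PrimeSpectrum (B ⊗[A] C) |
      comap (Algebra.TensorProduct.includeRight : C →ₐ[A] B ⊗[A] C).toRingHom q = p} := by
  let _ : Algebra C (B ⊗[A] C) := Algebra.TensorProduct.rightAlgebra
  have h := (PrimeSpectrum.preimageHomeomorphFiber C (B ⊗[A] C) p).symm
  have : CompactSpace (comap (algebraMap C (B ⊗[A] C)) ⁻¹' {p}) := h.compactSpace
  exact isCompact_iff_compactSpace.2 this

/-- Every element of `B ⊗ C` comes from a finitely generated polynomial algebra mapping to `C`. -/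
theorem exists_finset (x : B ⊗[A] C) :
    ∃ s : Finset C, ∀ (T : Set C), (s : Set C) ⊆ T →
      ∃ y : B ⊗[A] MvPolynomial T A,
        Algebra.TensorProduct.map (AlgHom.id A B) (MvPolynomial.aeval (fun t : T => (t : C))) y = x := by
  classical
  induction x using TensorProduct.induction_on with
  | zero => exact ⟨∅, fun T _ => ⟨0, map_zero _⟩⟩
  | tmul b c =>
    refine ⟨{c}, fun T hT => ⟨b ⊗ₜ[A] MvPolynomial.X ⟨c, hT (by simp)⟩, ?_⟩⟩
    rw [Algebra.TensorProduct.map_tmul]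
    simp
  | add x y hx hy =>
    obtain ⟨s, hs⟩ := hx
    obtain ⟨t, ht⟩ := hy
    refine ⟨s ∪ t, fun T hT => ?_⟩
    obtain ⟨x', hx'⟩ := hs T (fun a ha => hT (by simp at ha ⊢; exact Or.inl ha))
    obtain ⟨y', hy'⟩ := ht T (fun a ha => hT (by simp at ha ⊢; exact Or.inr ha))
    exact ⟨x' + y', by rw [map_add, hx', hy']⟩

theorem exists_model (p : PrimeSpectrum C) (O : Set (PrimeSpectrum (B ⊗[A] C))) (hO : IsOpen O)
    (hp : ∀ q, comap (Algebra.TensorProduct.includeRight : C →ₐ[A] B ⊗[A] C).toRingHom q = p → q ∈ O) :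
    ∃ (C' : Type u) (_ : CommRing C') (_ : Algebra A C') (_ : Algebra.FinitePresentation A C')
      (φ : C' →ₐ[A] C) (O' : Set (PrimeSpectrum (B ⊗[A] C'))), IsOpen O' ∧
      (∀ q', comap (Algebra.TensorProduct.includeRight : C' →ₐ[A] B ⊗[A] C').toRingHom q' =
        comap φ.toRingHom p → q' ∈ O') ∧
      ∀ q, comap (Algebra.TensorProduct.map (AlgHom.id A B) φ).toRingHom q ∈ O' → q ∈ O := by
  classical
  -- finitely many basic opens
  obtain ⟨t, ht⟩ := (isCompact_fibre (A := A) (B := B) p).elim_finite_subcover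
    (fun j : {j : B ⊗[A] C // (basicOpen j : Set (PrimeSpectrum (B ⊗[A] C))) ⊆ O} =>
      (basicOpen j.1 : Set (PrimeSpectrum (B ⊗[A] C)))) (fun j => (basicOpen j.1).isOpen) (by
      intro q hq
      obtain ⟨_, ⟨j, rfl⟩, hj, hjO⟩ :=
        PrimeSpectrum.isTopologicalBasis_basic_opens.exists_subset_of_mem_open (hp q hq) hO
      exact Set.mem_iUnion.2 ⟨⟨j, hjO⟩, hj⟩)
  choose s hs using fun j : {j : B ⊗[A] C // (basicOpen j : Set (PrimeSpectrum (B ⊗[A] C))) ⊆ O} =>
    exists_finset (A := A) (B := B) j.1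
  let T : Finset C := t.biUnion s
  choose y hy using fun j : {j : {j : B ⊗[A] C // (basicOpen j : Set (PrimeSpectrum (B ⊗[A] C))) ⊆ O} // j ∈ t} =>
    hs j.1 (T : Set C) (by
      intro a ha
      simp only [T, Finset.coe_biUnion, Set.mem_iUnion]
      exact ⟨j.1, j.2, ha⟩)
  refine ⟨MvPolynomial (T : Set C) A, inferInstance, inferInstance, inferInstance,
    MvPolynomial.aeval (fun t : (T : Set C) => (t : C)), ⋃ j, (basicOpen (y j) : Set _), ?_, ?_, ?_⟩
  · exact isOpen_iUnion fun j => (basicOpen (y j)).isOpen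
  · intro q' hq'
    obtain ⟨q, h1, h2⟩ := exists_point _ p q' hq'
    obtain ⟨j, hjt, hj⟩ := Set.mem_iUnion₂.1 (ht h1)
    refine Set.mem_iUnion.2 ⟨⟨j, hjt⟩, ?_⟩
    rw [← h2]
    change y ⟨j, hjt⟩ ∉ Ideal.comap _ q.asIdeal
    rw [Ideal.mem_comap]
    change (Algebra.TensorProduct.map (AlgHom.id A B) _) (y ⟨j, hjt⟩) ∉ _
    rw [hy ⟨j, hjt⟩]
    exact hj
  · intro q hq
    obtain ⟨j, hj⟩ := Set.mem_iUnion.1 hq
    refine j.1.2 ?_
    change j.1.1 ∉ q.asIdeal
    rw [← hy j]
    exact hj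

end K605.SepRing
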