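import Mathlib.AlgebraicGeometry.Morphisms.FinitePresentation
import Groth.Agent.AlgSp.K605.SepRing

/-!
# Scheme version of `K605.SepRing.exists_model`
-/

set_option autoImplicit false

universe u

open CategoryTheory CategoryTheory.Limits AlgebraicGeometry TensorProduct

namespace K605.SepSch

/-- The affine fibre product of two maps of affine schemes, in terms of the tensor product of rings of functions. -/
theorem isPullback_tensor {Y U V : Scheme.{u}} [IsAffine Y] [IsAffine U] [IsAffine V] (β : U ⟶ Y) (α : V ⟶ Y)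
    [Algebra Γ(Y, ⊤) Γ(U, ⊤)] [Algebra Γ(Y, ⊤) Γ(V, ⊤)]
    (hβ : algebraMap Γ(Y, ⊤) Γ(U, ⊤) = β.appTop.hom) (hα : algebraMap Γ(Y, ⊤) Γ(V, ⊤) = α.appTop.hom) :
    IsPullback
      (Spec.map (CommRingCat.ofHom (Algebra.TensorProduct.includeLeftRingHom :
        Γ(U, ⊤) →+* Γ(U, ⊤) ⊗[Γ(Y, ⊤)] Γ(V, ⊤))) ≫ U.isoSpec.inv)
      (Spec.map (CommRingCat.ofHom (Algebra.TensorProduct.includeRight :
        Γ(V, ⊤) →ₐ[Γ(Y, ⊤)] Γ(U, ⊤) ⊗[Γ(Y, ⊤)] Γ(V, ⊤)).toRingHom) ≫ V.isoSpec.inv) β α := by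
  have h := CommRingCat.isPushout_tensorProduct Γ(Y, ⊤) Γ(U, ⊤) Γ(V, ⊤)
  have h2 := isPullback_SpecMap_of_isPushout _ _ _ _ h
  have e1 : Spec.map (CommRingCat.ofHom (algebraMap Γ(Y, ⊤) Γ(U, ⊤))) = U.isoSpec.inv ≫ β ≫ Y.isoSpec.hom := by
    rw [← Scheme.isoSpec_hom_naturality, Iso.inv_hom_id_assoc, hβ]
    rfl
  have e2 : Spec.map (CommRingCat.ofHom (algebraMap Γ(Y, ⊤) Γ(V, ⊤))) = V.isoSpec.inv ≫ α ≫ Y.isoSpec.hom := by
    rw [← Scheme.isoSpec_hom_naturality, Iso.inv_hom_id_assoc, hα]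
    rfl
  refine IsPullback.of_iso h2 (Iso.refl _) U.isoSpec.symm V.isoSpec.symm Y.isoSpec.symm ?_ ?_ ?_ ?_
  · simp
  · simp
  · rw [e1]; simp
  · rw [e2]; simp

/-- Let `β : U ⟶ Y`, `α : V ⟶ Y` be maps of affine schemes, `v ∈ V`, and `O` an open subset of `U ×_Y V` containing
the fibre over `v`.  Then `V ⟶ Y` factors through an affine scheme `Z` of finite presentation over `Y` such that `O`
contains the inverse image of an open `O'` of `U ×_Y Z` which contains the fibre over the image of `v`. -/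
theorem exists_model {Y U V : Scheme.{u}} [IsAffine Y] [IsAffine U] [IsAffine V] (β : U ⟶ Y) (α : V ⟶ Y)
    (v : V) {E : Scheme.{u}} {e₁ : E ⟶ U} {e₂ : E ⟶ V} (hE : IsPullback e₁ e₂ β α) (O : Set E) (hO : IsOpen O)
    (hv : ∀ e : E, e₂ e = v → e ∈ O) :
    ∃ (Z : Scheme.{u}) (_ : IsAffine Z) (b : Z ⟶ Y) (_ : LocallyOfFinitePresentation b) (a : V ⟶ Z)
      (_ : a ≫ b = α), ∀ (E' : Scheme.{u}) (k₁ : E' ⟶ U) (k₂ : E' ⟶ Z), IsPullback k₁ k₂ β b →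
        ∃ O' : Set E', IsOpen O' ∧ (∀ e', k₂ e' = a v → e' ∈ O') ∧
          ∀ m : E ⟶ E', m ≫ k₁ = e₁ → m ≫ k₂ = e₂ ≫ a → ∀ e, m e ∈ O' → e ∈ O := by
  let _ : Algebra Γ(Y, ⊤) Γ(U, ⊤) := β.appTop.hom.toAlgebra
  let _ : Algebra Γ(Y, ⊤) Γ(V, ⊤) := α.appTop.hom.toAlgebra
  have sq := isPullback_tensor β α rfl rfl
  let ε : E ≅ Spec (.of (Γ(U, ⊤) ⊗[Γ(Y, ⊤)] Γ(V, ⊤))) := hE.isoIsPullback _ _ sq
  have hε₁ : ε.hom ≫ (Spec.map (CommRingCat.ofHom (Algebra.TensorProduct.includeLeftRingHom :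
        Γ(U, ⊤) →+* Γ(U, ⊤) ⊗[Γ(Y, ⊤)] Γ(V, ⊤))) ≫ U.isoSpec.inv) = e₁ := hE.isoIsPullback_hom_fst _ _ sq
  have hε₂ : ε.hom ≫ (Spec.map (CommRingCat.ofHom (Algebra.TensorProduct.includeRight :
        Γ(V, ⊤) →ₐ[Γ(Y, ⊤)] Γ(U, ⊤) ⊗[Γ(Y, ⊤)] Γ(V, ⊤)).toRingHom) ≫ V.isoSpec.inv) = e₂ :=
    hE.isoIsPullback_hom_snd _ _ sq
  let p : PrimeSpectrum Γ(V, ⊤) := V.isoSpec.hom v
  have key : ∀ q : ↥(Spec (.of (Γ(U, ⊤) ⊗[Γ(Y, ⊤)] Γ(V, ⊤)))),
      (Spec.map (CommRingCat.ofHom (Algebra.TensorProduct.includeRight :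
        Γ(V, ⊤) →ₐ[Γ(Y, ⊤)] Γ(U, ⊤) ⊗[Γ(Y, ⊤)] Γ(V, ⊤)).toRingHom)) q = V.isoSpec.hom v → ε.inv q ∈ O := by
    intro q hq'
    refine hv _ ?_
    rw [← hε₂, ← Scheme.Hom.comp_apply, Iso.inv_hom_id_assoc, Scheme.Hom.comp_apply, hq',
        ← Scheme.Hom.comp_apply, Iso.hom_inv_id]
    rfl
  obtain ⟨C', _, _, hC', φ, O', hO', h1, h2⟩ := SepRing.exists_model (A := Γ(Y, ⊤)) (B := Γ(U, ⊤))
    (C := Γ(V, ⊤)) p (ε.inv ⁻¹' O) (hO.preimage ε.inv.continuous) (fun q hq => key q hq)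
  let b : Spec (.of C') ⟶ Y := Spec.map (CommRingCat.ofHom (algebraMap Γ(Y, ⊤) C')) ≫ Y.isoSpec.inv
  let a : V ⟶ Spec (.of C') := V.isoSpec.hom ≫ Spec.map (CommRingCat.ofHom φ.toRingHom)
  have hab : a ≫ b = α := by
    simp only [a, b, Category.assoc]
    rw [← Spec.map_comp_assoc, ← CommRingCat.ofHom_comp]
    have : φ.toRingHom.comp (algebraMap Γ(Y, ⊤) C') = α.appTop.hom := φ.comp_algebraMap
    rw [this]
    change V.isoSpec.hom ≫ Spec.map α.appTop ≫ Y.isoSpec.inv = α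
    rw [Scheme.isoSpec_hom_naturality_assoc]
    simp
  refine ⟨Spec (.of C'), inferInstance, b, ?_, a, hab, ?_⟩
  · have : LocallyOfFinitePresentation (Spec.map (CommRingCat.ofHom (algebraMap Γ(Y, ⊤) C'))) :=
      (LocallyOfFinitePresentation.SpecMap_iff _).2 (by
        rw [CommRingCat.hom_ofHom, RingHom.finitePresentation_algebraMap]; exact hC')
    infer_instance
  · intro E' k₁ k₂ hE'
    have hb : IsPullback
      (Spec.map (CommRingCat.ofHom (Algebra.TensorProduct.includeLeftRingHom :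
        Γ(U, ⊤) →+* Γ(U, ⊤) ⊗[Γ(Y, ⊤)] C')) ≫ U.isoSpec.inv)
      (Spec.map (CommRingCat.ofHom (Algebra.TensorProduct.includeRight :
        C' →ₐ[Γ(Y, ⊤)] Γ(U, ⊤) ⊗[Γ(Y, ⊤)] C').toRingHom)) β b := by
      have h := CommRingCat.isPushout_tensorProduct Γ(Y, ⊤) Γ(U, ⊤) C'
      have h2 := isPullback_SpecMap_of_isPushout _ _ _ _ h
      have e1 : Spec.map (CommRingCat.ofHom (algebraMap Γ(Y, ⊤) Γ(U, ⊤))) =
          U.isoSpec.inv ≫ β ≫ Y.isoSpec.hom := by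
        rw [← Scheme.isoSpec_hom_naturality, Iso.inv_hom_id_assoc]
        rfl
      refine IsPullback.of_iso h2 (Iso.refl _) U.isoSpec.symm (Iso.refl _) Y.isoSpec.symm ?_ ?_ ?_ ?_
      · simp
      · simp
      · rw [e1]; simp
      · simp [b]
    let ε' : E' ≅ Spec (.of (Γ(U, ⊤) ⊗[Γ(Y, ⊤)] C')) := hE'.isoIsPullback _ _ hb
    have hε'₁ : ε'.hom ≫ (Spec.map (CommRingCat.ofHom (Algebra.TensorProduct.includeLeftRingHom :
        Γ(U, ⊤) →+* Γ(U, ⊤) ⊗[Γ(Y, ⊤)] C')) ≫ U.isoSpec.inv) = k₁ := hE'.isoIsPullback_hom_fst _ _ hb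
    have hε'₂ : ε'.hom ≫ (Spec.map (CommRingCat.ofHom (Algebra.TensorProduct.includeRight :
        C' →ₐ[Γ(Y, ⊤)] Γ(U, ⊤) ⊗[Γ(Y, ⊤)] C').toRingHom)) = k₂ := hE'.isoIsPullback_hom_snd _ _ hb
    refine ⟨ε'.hom ⁻¹' O', hO'.preimage ε'.hom.continuous, ?_, ?_⟩
    · intro e' he'
      refine h1 _ ?_
      have : (Spec.map (CommRingCat.ofHom (Algebra.TensorProduct.includeRight :
        C' →ₐ[Γ(Y, ⊤)] Γ(U, ⊤) ⊗[Γ(Y, ⊤)] C').toRingHom)) (ε'.hom e') = a v := by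
        rw [← he', ← hε'₂, Scheme.Hom.comp_apply]
      exact this
    · intro m hm₁ hm₂ e he
      have hm : m = ε.hom ≫ Spec.map (CommRingCat.ofHom
          (Algebra.TensorProduct.map (AlgHom.id Γ(Y, ⊤) Γ(U, ⊤)) φ).toRingHom) ≫ ε'.inv := by
        apply hE'.hom_ext
        · rw [hm₁, ← hε'₁, ← hε₁]
          simp only [Category.assoc, Iso.inv_hom_id_assoc]
          rw [← Spec.map_comp_assoc, ← CommRingCat.ofHom_comp]
          congr 4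
          ext x
          simp
        · rw [hm₂, ← hε'₂, ← hε₂]
          simp only [Category.assoc, Iso.inv_hom_id_assoc, a]
          rw [← Spec.map_comp, ← Spec.map_comp, ← CommRingCat.ofHom_comp, ← CommRingCat.ofHom_comp]
          congr 3
      have : e = ε.inv (ε.hom e) := by
        rw [← Scheme.Hom.comp_apply, Iso.hom_inv_id]
        rfl
      rw [this]
      refine h2 (ε.hom e) ?_
      have h3 : ε'.hom (m e) = (Spec.map (CommRingCat.ofHom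
          (Algebra.TensorProduct.map (AlgHom.id Γ(Y, ⊤) Γ(U, ⊤)) φ).toRingHom)) (ε.hom e) := by
        rw [← Scheme.Hom.comp_apply, ← Scheme.Hom.comp_apply, hm]
        simp
      change (Spec.map (CommRingCat.ofHom
          (Algebra.TensorProduct.map (AlgHom.id Γ(Y, ⊤) Γ(U, ⊤)) φ).toRingHom)) (ε.hom e) ∈ O'
      rw [← h3]
      exact he

end K605.SepSch
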