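import Groth.Prelude.Def_AlgSp4
import Groth.Agent.AlgSp.K605.Nhd
import Groth.Agent.AlgSp.K605.SepSch
import Groth.Agent.UnramA.LfpOfComp

/-!
# Separating a closed subset of a fibre product from a fibre over a finitely presented model (S10072)
-/

set_option autoImplicit false

universe u

open CategoryTheory CategoryTheory.Limits AlgebraicGeometry AlgSp

set_option backward.isDefEq.respectTransparency false

namespace K605.SepMain

variable {S : Scheme.{u}}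

/-- A map `h_Z ⟶ Y` which factors as a locally finitely presented map to an étale chart is locally of finite
presentation. -/
theorem locP_lfp_of_comp {Y : Sp S} (hY : IsAlgSpace Y) {Z Y₀ : Over S} (b : Z ⟶ Y₀)
    (hb : LocallyOfFinitePresentation b.left) (e : (yon S).obj Y₀ ⟶ Y) (he : RepWith @Etale e) :
    LocP @LocallyOfFinitePresentation ((yon S).map b ≫ e) := by
  intro U V a c h ha hc w
  obtain ⟨a, rfl⟩ := (yon S).map_surjective a
  have ha' : Etale a.left := (repWith_yon_map_iff _ _).1 ha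
  obtain ⟨W, p, q, sq⟩ := K613.Chart.exists_refine hY.diag (𝟙 _) e c
  rw [Category.comp_id] at sq
  have hp : Etale p.left := K613.Chart.etale_of_isPullback sq hc
  have hq : Etale q.left := K613.Chart.etale_of_isPullback sq.flip he
  have w' : (yon S).map (a ≫ b) ≫ e = (yon S).map h ≫ c := by
    rw [← w, Functor.map_comp, Category.assoc]
  obtain ⟨l, hl⟩ := (yon S).map_surjective (sq.lift _ _ w')
  have h1 : l ≫ p = a ≫ b := (yon S).map_injective (by
    rw [(yon S).map_comp, hl]; exact sq.lift_fst _ _ _)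
  have h2 : l ≫ q = h := (yon S).map_injective (by
    rw [(yon S).map_comp, hl]; exact sq.lift_snd _ _ _)
  have h3 : LocallyOfFinitePresentation (l.left ≫ p.left) := by
    rw [← Over.comp_left, h1, Over.comp_left]
    infer_instance
  have h4 : LocallyOfFinitePresentation l.left := Groth.Agent.UnramA.LfpOfComp.lfp_of_comp _ _ h3 inferInstance
  rw [← h2, Over.comp_left]
  infer_instance

theorem main {X Y Z : Space S} (f : X ⟶ Y) (g : Z ⟶ Y)
    (hf : IsQuasiCompactMor f.hom)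
    (P : Sp S) (p₁ : P ⟶ X.obj) (p₂ : P ⟶ Z.obj) (hP : IsPullback p₁ p₂ f.hom g.hom)
    (z : Points Z.obj) (T : Set (Points P)) (hT : IsClosed T) (hz : z ∉ Points.map p₂ '' T) :
    ∃ (V : Over S) (_ : IsAffine V.left) (e : (yon S).obj V ⟶ Z.obj) (_ : RepWith @Etale e) (v : ↥V.left)
      (_ : Points.map e (Points.schemeEquiv V v) = z)
      (Z' : Over S) (_ : IsAffine Z'.left) (b : (yon S).obj Z' ⟶ Y.obj) (_ : LocP @LocallyOfFinitePresentation b)
      (a : V ⟶ Z') (_ : (yon S).map a ≫ b = e ≫ g.hom),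
      ∀ (P' : Sp S) (q₁ : P' ⟶ X.obj) (q₂ : P' ⟶ (yon S).obj Z'), IsPullback q₁ q₂ f.hom b →
        ∃ T' : Set (Points P'), IsClosed T' ∧
          Points.schemeEquiv Z' (a.left v) ∉ Points.map q₂ '' T' ∧
          ∀ (PV : Sp S) (r₁ : PV ⟶ X.obj) (r₂ : PV ⟶ (yon S).obj V), IsPullback r₁ r₂ f.hom (e ≫ g.hom) →
            ∀ (κ₁ : PV ⟶ P) (κ₂ : PV ⟶ P'), κ₁ ≫ p₁ = r₁ → κ₁ ≫ p₂ = r₂ ≫ e → κ₂ ≫ q₁ = r₁ →
              κ₂ ≫ q₂ = r₂ ≫ (yon S).map a →
              ∀ w : Points PV, Points.map κ₁ w ∈ T → Points.map κ₂ w ∈ T' := by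
  classical
  -- étale neighbourhoods
  obtain ⟨Y₀, b₀, y₀, hY₀, hb₀, hy₀⟩ := Nhd.exists_affine_nhd Y.property (Points.map g.hom z)
  obtain ⟨V, e, α, v, hV, he, hv, hα, hw⟩ := Nhd.exists_affine_nhd_over Z.property Y.property g.hom hb₀ z y₀
    hy₀.symm
  -- an affine chart of `X₀ = X ×_Y Y₀`
  have hX₀ : IsQuasiCompactSp (pullback f.hom b₀) :=
    hf (IsAlgSpace.yon_obj Y₀) (K609.QC.isQuasiCompactSp_iff_exists_affine_chart.2
      ⟨Y₀, 𝟙 _, hY₀, repWith_id _ _, repWith_id _ _⟩) b₀ (pullback.fst _ _) (pullback.snd _ _)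
      (IsPullback.of_hasPullback _ _)
  obtain ⟨U, r, hU, hr1, hr2⟩ := K609.QC.exists_affine_chart hX₀
  obtain ⟨β, hβ⟩ := (yon S).map_surjective (r ≫ pullback.snd f.hom b₀)
  -- `E = U ×_{Y₀} V`
  let E : Over S := pullback β α
  let e₁ : E ⟶ U := pullback.fst β α
  let e₂ : E ⟶ V := pullback.snd β α
  have hE : IsPullback e₁ e₂ β α := IsPullback.of_hasPullback β α
  let x₁ : (yon S).obj E ⟶ X.obj := (yon S).map e₁ ≫ r ≫ pullback.fst f.hom b₀
  have hx₁ : x₁ ≫ f.hom = ((yon S).map e₂ ≫ e) ≫ g.hom := by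
    simp only [x₁, Category.assoc]
    rw [pullback.condition, hw, ← Category.assoc r, ← hβ, ← Functor.map_comp_assoc, ← Functor.map_comp_assoc, hE.w]
  let ρ : (yon S).obj E ⟶ P := hP.lift x₁ _ hx₁
  have hρ₁ : ρ ≫ p₁ = x₁ := hP.lift_fst _ _ _
  have hρ₂ : ρ ≫ p₂ = (yon S).map e₂ ≫ e := hP.lift_snd _ _ _
  let O : Set ↥E.left := (Points.ofPt ρ ⁻¹' T)ᶜ
  have hO : IsOpen O := (hT.preimage (Points.continuous_ofPt ρ)).isOpen_compl
  have hOv : ∀ t : ↥E.left, e₂.left t = v → t ∈ O := by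
    intro t ht htT
    refine hz ⟨_, htT, ?_⟩
    rw [Points.map_ofPt, hρ₂, K610.Base.ofPt_map_comp, ht, hv]
  obtain ⟨Z₀, hZ₀, b, hb, a, hab, hmod⟩ := SepSch.exists_model β.left α.left v
    (hE.map (Over.forget S)) O hO hOv
  let Z' : Over S := Over.mk (b ≫ Y₀.hom)
  let b' : Z' ⟶ Y₀ := Over.homMk b rfl
  let a' : V ⟶ Z' := Over.homMk a (by
    change a ≫ b ≫ Y₀.hom = V.hom
    rw [← Category.assoc, hab, Over.w])
  have hab' : a' ≫ b' = α := Over.OverMorphism.ext hab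
  refine ⟨V, hV, e, he, v, ?_, Z', hZ₀, (yon S).map b' ≫ b₀, locP_lfp_of_comp Y.property b' hb b₀ hb₀, a', ?_, ?_⟩
  · rw [← hv]
    exact (Points.ofPt_eq_map_ofScheme e v).symm
  · rw [← Category.assoc, ← Functor.map_comp, hab', hw]
  intro P' q₁ q₂ hP'
  let E' : Over S := pullback β b'
  let k₁ : E' ⟶ U := pullback.fst β b'
  let k₂ : E' ⟶ Z' := pullback.snd β b'
  have hE' : IsPullback k₁ k₂ β b' := IsPullback.of_hasPullback β b'
  obtain ⟨O', hO', hO'v, hO'm⟩ := hmod E'.left k₁.left k₂.left (hE'.map (Over.forget S))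
  -- the map `P' ⟶ X₀` and the square `h_E' = h_U ×_{X₀} P'`
  have hc0 : q₁ ≫ f.hom = (q₂ ≫ (yon S).map b') ≫ b₀ := by rw [Category.assoc]; exact hP'.w
  let π : P' ⟶ pullback f.hom b₀ := pullback.lift q₁ _ hc0
  have hπ₁ : π ≫ pullback.fst f.hom b₀ = q₁ := pullback.lift_fst _ _ _
  have hπ₂ : π ≫ pullback.snd f.hom b₀ = q₂ ≫ (yon S).map b' := pullback.lift_snd _ _ _
  have sqπ : IsPullback π q₂ (pullback.snd f.hom b₀) ((yon S).map b') :=
    IsPullback.of_right (by rw [hπ₁]; exact hP') hπ₂ (IsPullback.of_hasPullback f.hom b₀)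
  have hr'c : ((yon S).map k₁ ≫ r) ≫ pullback.snd f.hom b₀ = (yon S).map k₂ ≫ (yon S).map b' := by
    rw [Category.assoc, ← hβ, ← Functor.map_comp, hE'.w, Functor.map_comp]
  let r' : (yon S).obj E' ⟶ P' := sqπ.lift _ _ hr'c
  have hr'₁ : r' ≫ π = (yon S).map k₁ ≫ r := sqπ.lift_fst _ _ _
  have hr'₂ : r' ≫ q₂ = (yon S).map k₂ := sqπ.lift_snd _ _ _
  have sqr' : IsPullback r' ((yon S).map k₁) π r :=
    IsPullback.of_right (by rw [hr'₂, ← hβ]; exact hE'.flip.map (yon S)) hr'₁ sqπ.flip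
  have hr'e : RepWith @Etale r' := MorphismProperty.of_isPullback sqr'.flip hr1
  have hr's : RepWith @Surjective r' := MorphismProperty.of_isPullback sqr'.flip hr2
  refine ⟨(Points.ofPt r' '' O')ᶜ, (K610.Base.isOpenMap_ofPt_etale hr'e _ hO').isClosed_compl, ?_, ?_⟩
  · rintro ⟨p', hp', hp'q⟩
    obtain ⟨e', rfl⟩ := K610.Base.surjective_ofPt hr's p'
    refine hp' ⟨e', hO'v e' ?_, rfl⟩
    apply (Points.schemeEquiv Z').injective
    refine Eq.trans ?_ hp'q
    rw [Points.map_ofPt, hr'₂]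
    exact (K609.Points.ofPt_yon_map k₂ e').symm
  · rintro PV r₁ r₂ hPV κ₁ κ₂ hκ₁p hκ₂p hκ₂q₁ hκ₂q₂ w hwT ⟨e', he'O', he'w⟩
    have hwc : e ≫ g.hom = (yon S).map a' ≫ (yon S).map b' ≫ b₀ := by
      rw [← Functor.map_comp_assoc, hab', hw]
    have sqκ : IsPullback κ₂ r₂ q₂ ((yon S).map a') :=
      IsPullback.of_right (by rw [hκ₂q₁, ← hwc]; exact hPV) hκ₂q₂ hP'
    have hmc : e₁ ≫ β = (e₂ ≫ a') ≫ b' := by rw [Category.assoc, hab', hE.w]
    let m : E ⟶ E' := hE'.lift e₁ (e₂ ≫ a') hmc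
    have hm₁ : m ≫ k₁ = e₁ := hE'.lift_fst _ _ _
    have hm₂ : m ≫ k₂ = e₂ ≫ a' := hE'.lift_snd _ _ _
    have sqm : IsPullback m e₂ k₂ a' :=
      IsPullback.of_right (by rw [hm₁, hab']; exact hE) hm₂ hE'
    have hr''c : ((yon S).map m ≫ r') ≫ q₂ = (yon S).map e₂ ≫ (yon S).map a' := by
      rw [Category.assoc, hr'₂, ← Functor.map_comp, hm₂, Functor.map_comp]
    let r'' : (yon S).obj E ⟶ PV := sqκ.lift _ _ hr''c
    have hr''₁ : r'' ≫ κ₂ = (yon S).map m ≫ r' := sqκ.lift_fst _ _ _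
    have hr''₂ : r'' ≫ r₂ = (yon S).map e₂ := sqκ.lift_snd _ _ _
    have sqr'' : IsPullback r'' ((yon S).map m) κ₂ r' :=
      IsPullback.of_right (by rw [hr''₂, hr'₂]; exact sqm.flip.map (yon S)) hr''₁ sqκ.flip
    obtain ⟨t, ht1, ht2⟩ := K610.Base.exists_of_isPullback_yon sqr'' w e' he'w.symm
    have htO : t ∈ O := by
      refine hO'm m.left ?_ ?_ t ?_
      · rw [← Over.comp_left, hm₁]; rfl
      · rw [← Over.comp_left, hm₂]; rfl
      · rw [← ht2] at he'O'; exact he'O'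
    refine htO ?_
    change Points.ofPt ρ t ∈ T
    have hρ : r'' ≫ κ₁ = ρ := by
      apply hP.hom_ext
      · rw [Category.assoc, hκ₁p, hρ₁, ← hκ₂q₁, ← Category.assoc, hr''₁, ← hπ₁, Category.assoc,
          ← Category.assoc r', hr'₁, Category.assoc, ← Functor.map_comp_assoc, hm₁]
      · rw [Category.assoc, hκ₂p, hρ₂, ← Category.assoc, hr''₂]
    rw [← hρ, ← Points.map_ofPt, ht1]
    exact hwT

end K605.SepMain
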