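import Groth.Prelude.Def_AlgSpRep
import Mathlib.CategoryTheory.Limits.Types.Filtered
import Mathlib.CategoryTheory.Limits.Types.Pullbacks
import Mathlib.CategoryTheory.Filtered.Final

/-!
# Elementwise form of "the square of colimits of a cofiltered system is cartesian"
-/

set_option autoImplicit false
universe u v u'
open CategoryTheory CategoryTheory.Limits Opposite

namespace K605.SqEl

variable {C : Type u'} [Category.{v} C] {F G : Cᵒᵖ ⥤ Type (u + 1)}

/-- the elementwise form of "the square of colimits is cartesian", for one system -/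
def El (a : F ⟶ G) {I : Type u} [SmallCategory I] (D : I ⥤ C) (c : Cone D) : Prop :=
  (∀ (i : I) (x x' : F.obj (op (D.obj i))), a.app _ x = a.app _ x' →
      F.map (c.π.app i).op x = F.map (c.π.app i).op x' →
      ∃ (j : I) (φ : j ⟶ i), F.map (D.map φ).op x = F.map (D.map φ).op x') ∧
  (∀ (i : I) (y : G.obj (op (D.obj i))) (t : F.obj (op c.pt)), a.app _ t = G.map (c.π.app i).op y →
      ∃ (j : I) (φ : j ⟶ i) (x : F.obj (op (D.obj j))),
        F.map (c.π.app j).op x = t ∧ a.app _ x = G.map (D.map φ).op y)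

theorem map_comp_op (F : Cᵒᵖ ⥤ Type (u + 1)) {X Y Z : C} (f : X ⟶ Y) (g : Y ⟶ Z)
    (x : F.obj (op Z)) : F.map f.op (F.map g.op x) = F.map (f ≫ g).op x := by
  rw [op_comp, Functor.map_comp_apply]

theorem nat (a : F ⟶ G) {X Y : C} (f : X ⟶ Y)
    (x : F.obj (op Y)) : a.app _ (F.map f.op x) = G.map f.op (a.app _ x) := by
  rw [NatTrans.naturality_apply]

theorem isPullback_iff_el (a : F ⟶ G) {I : Type u} [SmallCategory I]
    [IsCofiltered I] (D : I ⥤ C) (c : Cone D) :
    IsPullback (colimMap (Functor.whiskerLeft D.op a)) (colimit.desc (D.op ⋙ F) (F.mapCocone c.op))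
            (colimit.desc (D.op ⋙ G) (G.mapCocone c.op)) (a.app (Opposite.op c.pt)) ↔ El a D c := by
  have e1 : ∀ (i : I) (x : F.obj (op (D.obj i))),
      colimMap (Functor.whiskerLeft D.op a) (colimit.ι (D.op ⋙ F) (op i) x) =
        colimit.ι (D.op ⋙ G) (op i) (a.app (op (D.obj i)) x) := by
    intro i x
    have := ι_colimMap (Functor.whiskerLeft D.op a) (op i)
    exact ConcreteCategory.congr_hom this x
  have e2 : ∀ (i : I) (x : F.obj (op (D.obj i))),
      colimit.desc (D.op ⋙ F) (F.mapCocone c.op) (colimit.ι (D.op ⋙ F) (op i) x) =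
        F.map (c.π.app i).op x := by
    intro i x
    have := colimit.ι_desc (F := D.op ⋙ F) (F.mapCocone c.op) (op i)
    exact ConcreteCategory.congr_hom this x
  have e3 : ∀ (i : I) (x : G.obj (op (D.obj i))),
      colimit.desc (D.op ⋙ G) (G.mapCocone c.op) (colimit.ι (D.op ⋙ G) (op i) x) =
        G.map (c.π.app i).op x := by
    intro i x
    have := colimit.ι_desc (F := D.op ⋙ G) (G.mapCocone c.op) (op i)
    exact ConcreteCategory.congr_hom this x
  rw [Types.isPullback_iff]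
  constructor
  · rintro ⟨-, hinj, hsurj⟩
    refine ⟨?_, ?_⟩
    · intro i x x' hx ht
      have := hinj (colimit.ι (D.op ⋙ F) (op i) x) (colimit.ι (D.op ⋙ F) (op i) x')
        ⟨by rw [e1, e1, hx], by rw [e2, e2, ht]⟩
      obtain ⟨j, f, hf⟩ := (Types.FilteredColimit.isColimit_eq_iff'
        (colimit.isColimit (D.op ⋙ F)) _ _).1 this
      exact ⟨j.unop, f.unop, hf⟩
    · intro i y t hy
      obtain ⟨z, hz1, hz2⟩ := hsurj (colimit.ι (D.op ⋙ G) (op i) y) t (by rw [e3]; exact hy.symm)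
      obtain ⟨⟨j⟩, x, rfl⟩ := Types.jointly_surjective' z
      erw [e1] at hz1
      erw [e2] at hz2
      erw [Types.FilteredColimit.colimit_eq_iff] at hz1
      obtain ⟨k, f, g, h⟩ := hz1
      refine ⟨k.unop, g.unop, F.map (D.map f.unop).op x, ?_, ?_⟩
      · rw [map_comp_op, Cone.w]; exact hz2
      · rw [nat]; exact h
  · rintro ⟨h1, h2⟩
    refine ⟨?_, ?_, ?_⟩
    · apply colimit.hom_ext
      rintro ⟨j⟩
      ext x
      change colimit.desc (D.op ⋙ G) (G.mapCocone c.op) (colimMap (Functor.whiskerLeft D.op a)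
        (colimit.ι (D.op ⋙ F) (op j) x)) = a.app _ (colimit.desc (D.op ⋙ F) (F.mapCocone c.op)
          (colimit.ι (D.op ⋙ F) (op j) x))
      rw [e1, e3, e2]
      exact (nat a _ _).symm
    · rintro x x' ⟨hx, ht⟩
      obtain ⟨⟨i⟩, x, rfl⟩ := Types.jointly_surjective' x
      obtain ⟨⟨i'⟩, x', rfl⟩ := Types.jointly_surjective' x'
      erw [e1, e1] at hx
      erw [e2, e2] at ht
      erw [Types.FilteredColimit.colimit_eq_iff] at hx
      obtain ⟨⟨k⟩, f, g, h⟩ := hx
      obtain ⟨j, φ, hφ⟩ := h1 k (F.map (D.map f.unop).op x) (F.map (D.map g.unop).op x')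
        (by rw [nat, nat]; exact h) (by rw [map_comp_op, map_comp_op, Cone.w, Cone.w]; exact ht)
      erw [Types.FilteredColimit.colimit_eq_iff]
      refine ⟨op j, f ≫ φ.op, g ≫ φ.op, ?_⟩
      simp only [Functor.map_comp_apply]
      exact hφ
    · intro x t hx
      obtain ⟨⟨i⟩, y, rfl⟩ := Types.jointly_surjective' x
      erw [e3] at hx
      obtain ⟨j, φ, x, hx1, hx2⟩ := h2 i y t hx.symm
      refine ⟨colimit.ι (D.op ⋙ F) (op j) x, ?_, ?_⟩
      · rw [e1, hx2]
        exact (ConcreteCategory.congr_hom (colimit.w (D.op ⋙ G) φ.op) y)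
      · rw [e2, hx1]

/-- The elementwise form for maps into `X` and `Y`. -/
def ElHom {C : Type u'} [Category.{v} C] {X Y : C} (f : X ⟶ Y) {I : Type u} [SmallCategory I] (D : I ⥤ C) (c : Cone D) :
    Prop :=
  (∀ (i : I) (x x' : D.obj i ⟶ X), x ≫ f = x' ≫ f → c.π.app i ≫ x = c.π.app i ≫ x' →
      ∃ (j : I) (φ : j ⟶ i), D.map φ ≫ x = D.map φ ≫ x') ∧
  (∀ (i : I) (y : D.obj i ⟶ Y) (t : c.pt ⟶ X), t ≫ f = c.π.app i ≫ y →
      ∃ (j : I) (φ : j ⟶ i) (x : D.obj j ⟶ X), c.π.app j ≫ x = t ∧ x ≫ f = D.map φ ≫ y)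

theorem isPullback_yoneda_iff {C : Type u'} [Category.{u + 1} C] {X Y : C} (f : X ⟶ Y) {I : Type u} [SmallCategory I]
    [IsCofiltered I] (D : I ⥤ C) (c : Cone D) :
    IsPullback (colimMap (Functor.whiskerLeft D.op (yoneda.map f)))
            (colimit.desc (D.op ⋙ yoneda.obj X) ((yoneda.obj X).mapCocone c.op))
            (colimit.desc (D.op ⋙ yoneda.obj Y) ((yoneda.obj Y).mapCocone c.op))
            ((yoneda.map f).app (Opposite.op c.pt)) ↔ ElHom f D c :=
  isPullback_iff_el (yoneda.map f) D c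

end K605.SqEl
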